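import Cfsg.Agent.SP6.Defs3
import Cfsg.Agent.Class.AltBasis

/-!
# Standard subgroups of type `Sp_{2k}(2ⁿ)`: the field and the root elements
-/

set_option autoImplicit false
set_option linter.unusedSectionVars false

namespace Cfsg.Lib.SP6

open Subgroup Module Cfsg.Lib.Trans Cfsg.Lib.Gold Cfsg.Lib.Class.Form Cfsg.Lib.Class.FAut
open Cfsg.Lib.UM (tT tE VW RR Fx St QW Cf mp Semi fa Mp cx re Ot kk Mx Fr3)
open Cfsg.Lib.SG2 (Uq Top)
open Cfsg.Lib.Comp (Tw)
open scoped commutatorElement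

variable {F M : Type*} [Field F] [Finite F] [AddCommGroup M] [Module F M] [FiniteDimensional F M]
  {B : M →ₗ[F] M →ₗ[F] F}

theorem Mo.swap (h : Mo B) {u w : M} (e : B u w = 0) : B w u = 0 := h.cls.comm e

theorem Mo.add_self (h : Mo B) (a : F) : a + a = 0 := by linear_combination a * h.two

theorem Mo.vadd_self (h : Mo B) (x : M) : x + x = 0 := by
  rw [← two_smul F x, h.two, zero_smul]

theorem Mo.vsub (h : Mo B) (x y : M) : x - y = x + y := by
  rw [sub_eq_add_neg, neg_eq_of_add_eq_zero_left (h.vadd_self y)]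

theorem Mo.sq_inj (h : Mo B) {a b : F} (e : a * a = b * b) : a = b :=
  sub_eq_zero.1 (pow_eq_zero_iff two_ne_zero |>.1 (by
    linear_combination e + (b ^ 2 - a * b) * h.two : (a - b) ^ 2 = 0))

theorem Mo.exists_sq (h : Mo B) (a : F) : ∃ b, b * b = a :=
  Finite.surjective_of_injective (f := fun c : F => c * c) (fun _ _ => h.sq_inj) a

theorem Mo.exists_eq (h : Mo B) {x : M} (x0 : x ≠ 0) (a : F) : ∃ y, B x y = a :=
  h.cls.exists_eq_of_ne x0 a

theorem Mo.q_pow (h : Mo B) : ∃ n, 1 ≤ n ∧ Nat.card F = 2 ^ n := by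
  have := Fintype.ofFinite F
  have : CharP F 2 := h.toSp2.charP
  obtain ⟨n, -, hn⟩ := FiniteField.card F 2
  exact ⟨n, n.2, by rw [Nat.card_eq_fintype_card, hn]⟩

theorem Mo.two_le (h : Mo B) : 2 ≤ Nat.card F := (fun _ => Finite.one_lt_card) h

theorem Mo.rank_eq (h : Mo B) : finrank F M = 2 * kk F M := by
  obtain ⟨k, hk⟩ : Even (finrank F M) :=
    Class.even_finrank_of_isAlt (B := B) ⟨h.cls.sep, h.cls.sep'⟩ h.alt
  unfold kk
  omega

theorem Mo.three_le (h : Mo B) : 3 ≤ kk F M := by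
  have := h.six
  unfold kk
  omega

theorem Mo.q_cases (h : Mo B) : (∃ a : F, a ≠ 0 ∧ a ≠ 1) ∨
    (6 ≤ finrank F M ∧ ∀ a : F, a = 0 ∨ a = 1) := by
  refine or_iff_not_imp_left.2 fun k => ⟨h.six, fun c => ?_⟩
  by_contra! e
  exact k ⟨c, e⟩

theorem Mo.odd_pow (h : Mo B) {a : F} (ha : a ≠ 0) : ∃ n, Odd n ∧ a ^ n = 1 := by
  have := Fintype.ofFinite F
  refine ⟨Fintype.card F - 1, ?_, FiniteField.pow_card_sub_one_eq_one a ha⟩
  obtain ⟨n, h1, hn⟩ := h.q_pow
  rw [← Nat.card_eq_fintype_card, hn]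
  exact Nat.Even.sub_odd Nat.one_le_two_pow (Nat.even_pow.2 ⟨even_two, by omega⟩) odd_one

theorem Mo.mem_orth1 (h : Mo B) {u x : M} : x ∈ orth B (F ∙ u) ↔ B u x = 0 :=
  (fun _ => mem_orth_span_singleton) h

theorem Mo.mem_orth2 (h : Mo B) {u w x : M} : x ∈ orth B (l2 F u w) ↔ B u x = 0 ∧ B w x = 0 :=
  (fun _ => mem_orth_span.trans (by simp)) h

theorem mem_Fx2 {u w : M} {g : sIsom B} : g ∈ Fx B (l2 F u w) ↔ lin g u = u ∧ lin g w = w := by
  simp [UM.mem_Fx_span]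

theorem Mo.ti_span (h : Mo B) {s : Set M} (k : ∀ a ∈ s, ∀ b ∈ s, B a b = 0) :
    TotIso B (Submodule.span F s) := fun u hu v hv =>
  mem_orth_span.2 (fun a ha => h.swap (mem_orth_span.2 (fun b hb => k b hb a ha) v hv)) u hu

theorem Mo.ti1 (h : Mo B) (u : M) : TotIso B (F ∙ u) := h.ti_span (by simp [h.alt])

theorem Mo.ti2 (h : Mo B) {u w : M} (e : B u w = 0) : TotIso B (l2 F u w) :=
  h.ti_span (by simp [h.alt, e, h.swap e])

theorem O3.ti (h : Mo B) {u w x : M} (k : O3 B u w x) : TotIso B (Submodule.span F {u, w, x}) :=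
  h.ti_span (by simp [h.alt, k.uw, h.swap k.uw, k.ux, k.wx, h.swap k.ux, h.swap k.wx])

theorem K1.li2 {u w : M} : LinearIndependent F ![u, w] ↔ u ≠ 0 ∧ w ∉ F ∙ u := by
  refine ⟨fun k => ⟨k.ne_zero 0, fun hm => ?_⟩,
    fun k => linearIndependent_pair_of_notMem k.1 k.2⟩
  obtain ⟨a, e⟩ := Submodule.mem_span_singleton.1 hm
  exact (LinearIndependent.pair_iff' (k.ne_zero 0)).1 k a e

theorem P2.iff {u w : M} : P2 B u w ↔ B u w = 0 ∧ u ≠ 0 ∧ w ∉ F ∙ u :=
  ⟨fun k => ⟨k.uw, K1.li2.1 k.li⟩, fun k => ⟨k.1, K1.li2.2 k.2⟩⟩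

theorem P2.ne {u w : M} (k : P2 B u w) : u ≠ 0 := (P2.iff.1 k).2.1

theorem P2.ne' {u w : M} (k : P2 B u w) : w ≠ 0 := k.li.ne_zero 1

theorem P2.not_mem {u w : M} (k : P2 B u w) : w ∉ F ∙ u := (P2.iff.1 k).2.2

theorem P2.symm (h : Mo B) {u w : M} (k : P2 B u w) : P2 B w u :=
  ⟨h.swap k.uw, LinearIndependent.pair_symm_iff.1 k.li⟩

theorem P2.lin {u w : M} (k : P2 B u w) (g : sIsom B) : P2 B (lin g u) (lin g w) := by
  refine P2.iff.2 ⟨(lin_isom ..).trans k.uw, lin_ne_zero g k.ne, fun hm => k.not_mem ?_⟩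
  obtain ⟨a, e⟩ := Submodule.mem_span_singleton.1 hm
  rw [← map_smul] at e
  exact Submodule.mem_span_singleton.2 ⟨a, (Class.FAut.lin g).injective e⟩

theorem span_smul1 (u : M) {a : F} (ha : a ≠ 0) : (F ∙ (a • u)) = F ∙ u :=
  Submodule.span_singleton_smul_eq ha.isUnit u

theorem P2.smul {u w : M} (k : P2 B u w) {a b : F} (ha : a ≠ 0) (hb : b ≠ 0) :
    P2 B (a • u) (b • w) := by
  refine P2.iff.2 ⟨by simp [k.uw], smul_ne_zero ha k.ne, fun hm => k.not_mem ?_⟩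
  rwa [span_smul1 u ha, Submodule.smul_mem_iff _ hb] at hm

theorem P2.add (h : Mo B) {u w : M} (k : P2 B u w) (a : F) : P2 B u (w + a • u) := by
  refine P2.iff.2 ⟨by simp [k.uw, h.alt], k.ne, fun hm => k.not_mem ?_⟩
  rwa [Submodule.add_mem_iff_left _
    (Submodule.smul_mem _ _ (Submodule.mem_span_singleton_self u))] at hm

theorem P2.rank {u w : M} (k : P2 B u w) : finrank F (l2 F u w) = 2 := by
  have := finrank_span_eq_card k.li
  rwa [Matrix.range_cons, Matrix.range_cons, Matrix.range_empty, Set.union_empty,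
    Set.singleton_union, Fintype.card_fin] at this

theorem K1.li3 {u w x : M} : LinearIndependent F ![u, w, x] ↔
    ∀ a b c : F, a • u + b • w + c • x = 0 → a = 0 ∧ b = 0 ∧ c = 0 := by
  rw [Fintype.linearIndependent_iff]
  refine ⟨fun k a b c e => ?_, fun k g e i => ?_⟩
  · have := k ![a, b, c] (by simpa [Fin.sum_univ_three] using e)
    exact ⟨this 0, this 1, this 2⟩
  · obtain ⟨h0, h1, h2⟩ := k (g 0) (g 1) (g 2) (by simpa [Fin.sum_univ_three] using e)
    fin_cases i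
    exacts [h0, h1, h2]

theorem P3.iff {u w x : M} :
    P3 B u w x ↔ P2 B u w ∧ B u x = 0 ∧ B w x = 0 ∧ x ∉ l2 F u w := by
  refine ⟨fun k => ⟨⟨k.uw, LinearIndependent.pair_iff.2 fun a b e => ?_⟩, k.ux, k.wx, fun hm => ?_⟩,
    fun ⟨k, h1, h2, h3⟩ => ⟨⟨k.uw, h1, h2⟩, K1.li3.2 fun a b c e => ?_⟩⟩
  · have := K1.li3.1 k.li a b 0 (by rw [e, zero_smul, add_zero])
    exact ⟨this.1, this.2.1⟩
  · obtain ⟨a, b, e⟩ := Submodule.mem_span_pair.1 hm
    have := (K1.li3.1 k.li a b (-1) (by rw [e, neg_one_smul, add_neg_cancel])).2.2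
    exact one_ne_zero (neg_eq_zero.1 this)
  · have c0 : c = 0 := by
      by_contra c0
      refine h3 ((Submodule.smul_mem_iff _ c0).1 (Submodule.mem_span_pair.2 ⟨-a, -b, ?_⟩))
      rw [neg_smul, neg_smul, ← neg_add, neg_eq_iff_add_eq_zero, e]
    rw [c0, zero_smul, add_zero] at e
    have := LinearIndependent.pair_iff.1 k.li a b e
    exact ⟨this.1, this.2, c0⟩

theorem O3.lin {u w x : M} (k : O3 B u w x) (g : sIsom B) : O3 B (lin g u) (lin g w) (lin g x) :=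
  ⟨(lin_isom ..).trans k.uw, (lin_isom ..).trans k.ux, (lin_isom ..).trans k.wx⟩

theorem P3.lin {u w x : M} (k : P3 B u w x) (g : sIsom B) :
    P3 B (lin g u) (lin g w) (lin g x) := by
  refine ⟨k.toO3.lin g, K1.li3.2 fun a b c e => K1.li3.1 k.li a b c ?_⟩
  rwa [← map_smul, ← map_smul, ← map_smul, ← map_add, ← map_add,
    LinearEquiv.map_eq_zero_iff] at e

theorem P3.swap (h : Mo B) {u w x : M} (k : P3 B u w x) : P3 B u x w := by
  refine ⟨⟨k.ux, k.uw, h.swap k.wx⟩, K1.li3.2 fun a b c e => ?_⟩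
  have := K1.li3.1 k.li a c b (by rw [add_right_comm, e])
  exact ⟨this.1, this.2.2, this.2.1⟩

theorem P3.swap' (h : Mo B) {u w x : M} (k : P3 B u w x) : P3 B w u x := by
  refine ⟨⟨h.swap k.uw, k.wx, k.ux⟩, K1.li3.2 fun a b c e => ?_⟩
  have := K1.li3.1 k.li b a c (by rw [add_comm (b • u), e])
  exact ⟨this.2.1, this.1, this.2.2⟩

theorem P3.add (h : Mo B) {u w x : M} (k : P3 B u w x) (a b : F) :
    P3 B u w (x + a • u + b • w) := by
  obtain ⟨k2, h1, h2, h3⟩ := P3.iff.1 k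
  refine P3.iff.2 ⟨k2, by simp [h1, h.alt, k.uw], by simp [h2, h.alt, h.swap k.uw], fun hm => h3 ?_⟩
  rwa [add_assoc, Submodule.add_mem_iff_left _ (Submodule.mem_span_pair.2 ⟨a, b, rfl⟩)] at hm

theorem P3.p2 (h : Mo B) {u w x : M} (k : P3 B u w x) :
    P2 B u w ∧ P2 B u x ∧ P2 B w x ∧ P2 B u (w + x) := by
  refine ⟨(P3.iff.1 k).1, (P3.iff.1 (k.swap h)).1, (P3.iff.1 ((k.swap' h).swap h)).1,
    by simp [k.uw, k.ux], LinearIndependent.pair_iff.2 fun a b e => ?_⟩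
  have := K1.li3.1 k.li a b b (by rw [← e, smul_add, add_assoc])
  exact ⟨this.1, this.2.1⟩

theorem Mo.isT (h : Mo B) (u : M) (c : F) : IsT B u c (tT B u c) := by
  obtain ⟨g, hg⟩ := h.cls.exists_isT (h.alt u) (c := c) (by simp)
  rwa [UM.K1.tT_eq hg]

theorem Mo.isE (h : Mo B) {u w : M} (k : B u w = 0) : IsE B 1 u w 0 (tE B u w) := by
  obtain ⟨g, hg⟩ := h.cls.exists_isE (h.alt u) k (b := 0) (by simp [h.alt])
  rw [show (-1 : F) = 1 by linear_combination -h.two] at hg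
  rwa [UM.K1.tE_eq hg]

theorem Mo.lin_tT (h : Mo B) (u : M) (c : F) (x : M) : lin (tT B u c) x = x + (c * B u x) • u :=
  h.isT u c x

theorem Mo.lin_tE (h : Mo B) {u w : M} (k : B u w = 0) (x : M) :
    lin (tE B u w) x = x + B u x • w + B w x • u := by
  rw [h.isE k x, h.vsub]
  simp

theorem Mo.lin_ee (h : Mo B) {u w : M} (k : B u w = 0) (c : F) (x : M) :
    lin (ee B u w c) x = x + B u x • w + (B w x + c * B u x) • u := by
  simp only [ee, lin_mul, h.lin_tT, h.lin_tE k, map_add, map_smul, h.alt, h.swap k, smul_eq_mul]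
  module

theorem Mo.tT_zero (h : Mo B) (u : M) : tT B u 0 = 1 := lin_ext fun x => by simp [h.lin_tT]

theorem Mo.tT_zero' (h : Mo B) (c : F) : tT B 0 c = 1 := lin_ext fun x => by simp [h.lin_tT]

theorem Mo.tE_zero (h : Mo B) (u : M) : tE B u 0 = 1 :=
  lin_ext fun x => by simp [h.lin_tE (map_zero (B u))]

theorem Mo.tE_zero' (h : Mo B) (w : M) : tE B 0 w = 1 :=
  lin_ext fun x => by simp [h.lin_tE (show B 0 w = 0 by simp)]

theorem Mo.tT_add (h : Mo B) (u : M) (c d : F) : tT B u (c + d) = tT B u c * tT B u d :=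
  UM.K1.tT_eq ((h.isT u c).mul (h.alt u) (h.isT u d))

theorem Mo.tT_smul (h : Mo B) (u : M) (a c : F) : tT B (a • u) c = tT B u (a * a * c) := by
  refine lin_ext fun x => ?_
  simp only [h.lin_tT, map_smul, LinearMap.smul_apply, smul_eq_mul]
  module

theorem Mo.tT_vadd (h : Mo B) {u w : M} (k : B u w = 0) (c : F) :
    tT B (u + w) c = tT B u c * tT B w c * tE B u (c • w) := by
  have k' : B u (c • w) = 0 := by simp [k]
  refine lin_ext fun x => ?_
  simp only [lin_mul, h.lin_tT, h.lin_tE k', map_add, map_smul, LinearMap.add_apply,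
    LinearMap.smul_apply, smul_eq_mul, h.alt, k, h.swap k]
  module

theorem Mo.tT_conj (h : Mo B) (g : sIsom B) (u : M) (c : F) :
    g * tT B u c * g⁻¹ = tT B (lin g u) c := (UM.K1.tT_eq ((h.isT u c).conj g)).symm

theorem Mo.tE_conj (h : Mo B) (g : sIsom B) {u w : M} (k : B u w = 0) :
    g * tE B u w * g⁻¹ = tE B (lin g u) (lin g w) := (UM.K1.tE_eq ((h.isE k).conj g)).symm

theorem Mo.ee_conj (h : Mo B) (g : sIsom B) {u w : M} (k : B u w = 0) (c : F) :
    g * ee B u w c * g⁻¹ = ee B (lin g u) (lin g w) c := by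
  rw [ee, ee, ← h.tT_conj, ← h.tE_conj g k]
  group

theorem Mo.tE_comm (h : Mo B) {u w : M} (k : B u w = 0) : tE B u w = tE B w u :=
  lin_ext fun x => by rw [h.lin_tE k, h.lin_tE (h.swap k), add_right_comm]

theorem Mo.tE_smul (h : Mo B) {u w : M} (k : B u w = 0) (a : F) :
    tE B (a • u) w = tE B u (a • w) := by
  refine lin_ext fun x => ?_
  rw [h.lin_tE (by simp [k]), h.lin_tE (by simp [k])]
  simp only [map_smul, LinearMap.smul_apply, smul_eq_mul]
  module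

theorem Mo.tE_self (h : Mo B) (u : M) (a : F) : tE B u (a • u) = 1 := by
  refine lin_ext fun x => ?_
  rw [h.lin_tE (by simp [h.alt]), lin_one]
  simp only [map_smul, LinearMap.smul_apply, smul_eq_mul]
  match_scalars
  · ring
  · linear_combination (a * B u x) * h.two

theorem Mo.ee_zero (h : Mo B) (u x : M) : ee B u x 0 = tE B u x := by rw [ee, h.tT_zero, mul_one]

theorem Mo.ee_zero' (h : Mo B) (u : M) (c : F) : ee B u 0 c = tT B u c := by
  rw [ee, h.tE_zero, one_mul]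

theorem Mo.ee_self (h : Mo B) (u : M) (a c : F) : ee B u (a • u) c = tT B u c := by
  rw [ee, h.tE_self, one_mul]

theorem Mo.ee_mul (h : Mo B) {u x y : M} (k : B u x = 0) (k' : B u y = 0) (c d : F) :
    ee B u x c * ee B u y d = ee B u (x + y) (c + d + B x y) := by
  refine lin_ext fun v => ?_
  simp only [lin_mul, h.lin_ee k, h.lin_ee k', h.lin_ee (show B u (x + y) = 0 by simp [k, k']),
    map_add, map_smul, LinearMap.add_apply, smul_eq_mul, h.alt, k', h.swap k]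
  module

theorem Mo.tE_mul (h : Mo B) {u w x : M} (k : B u w = 0) (k' : B u x = 0) :
    tE B u w * tE B u x = ee B u (w + x) (B w x) := by
  rw [← h.ee_zero, ← h.ee_zero, h.ee_mul k k', zero_add, zero_add]

theorem Mo.tE_add (h : Mo B) {u w x : M} (k : O3 B u w x) :
    tE B u (w + x) = tE B u w * tE B u x := by rw [h.tE_mul k.uw k.ux, k.wx, h.ee_zero]

theorem Mo.tE_add' (h : Mo B) {u w x : M} (k : O3 B u x w) :
    tE B (u + x) w = tE B u w * tE B x w := by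
  rw [h.tE_comm (show B (u + x) w = 0 by simp [k.ux, k.wx]), h.tE_comm k.ux, h.tE_comm k.wx,
    h.tE_add ⟨h.swap k.ux, h.swap k.wx, k.uw⟩]

theorem Mo.tE_add_self (h : Mo B) {u w : M} (k : B u w = 0) (a : F) :
    tE B u (w + a • u) = tE B u w := by
  rw [h.tE_add ⟨k, by simp [h.alt], by simp [h.swap k]⟩, h.tE_self, mul_one]

theorem Mo.ee_add_self (h : Mo B) {u x : M} (k : B u x = 0) (a c : F) :
    ee B u (x + a • u) c = ee B u x c := by rw [ee, ee, h.tE_add_self k]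

theorem Mo.ee_smul (h : Mo B) {u x : M} (k : B u x = 0) (a c : F) :
    ee B (a • u) x c = ee B u (a • x) (a * a * c) := by rw [ee, ee, h.tE_smul k, h.tT_smul]

theorem Mo.tT_sq (h : Mo B) (u : M) (c : F) : tT B u c * tT B u c = 1 := by
  rw [← h.tT_add, h.add_self, h.tT_zero]

theorem Mo.ee_sq (h : Mo B) {u w : M} (k : B u w = 0) (c : F) : ee B u w c * ee B u w c = 1 := by
  rw [h.ee_mul k k, h.vadd_self, h.add_self, h.alt, add_zero, h.ee_zero, h.tE_zero]

theorem Mo.tE_sq (h : Mo B) {u w : M} (k : B u w = 0) : tE B u w * tE B u w = 1 := by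
  rw [← h.ee_zero, h.ee_sq k]

theorem Mo.tE_eq (h : Mo B) {u w : M} (k : B u w = 0) :
    tE B u w = tT B (u + w) 1 * tT B u 1 * tT B w 1 := by
  refine lin_ext fun x => ?_
  simp only [lin_mul, h.lin_tT, h.lin_tE k, map_add, map_smul, LinearMap.add_apply, smul_eq_mul,
    h.alt, k, h.swap k]
  match_scalars
  · ring
  · linear_combination (-B w x) * h.two
  · linear_combination (-B u x) * h.two

theorem Mo.tT_inj (h : Mo B) {u : M} (u0 : u ≠ 0) {c d : F} (e : tT B u c = tT B u d) : c = d := by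
  obtain ⟨x, hx⟩ := h.exists_eq u0 1
  have := h.lin_tT u c x
  rw [e, h.lin_tT, add_right_inj, hx, mul_one, mul_one] at this
  exact (smul_left_injective F u0 this).symm

theorem Mo.tT_ne (h : Mo B) {u : M} (u0 : u ≠ 0) {c : F} (c0 : c ≠ 0) : tT B u c ≠ 1 := fun e =>
  c0 (h.tT_inj u0 (e.trans (h.tT_zero u).symm))

theorem Mo.ee_eq_one (h : Mo B) {u x : M} (u0 : u ≠ 0) (k : B u x = 0) {c : F} :
    ee B u x c = 1 ↔ x ∈ F ∙ u ∧ c = 0 := by
  refine ⟨fun e => ?_, fun ⟨hx, hc⟩ => ?_⟩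
  · obtain ⟨f, hf⟩ := h.exists_eq u0 1
    have e1 := h.lin_ee k c f
    rw [e, lin_one, hf, one_smul, add_assoc, left_eq_add, add_eq_zero_iff_eq_neg, ← neg_smul] at e1
    refine ⟨Submodule.mem_span_singleton.2 ⟨_, e1.symm⟩, h.tT_inj u0 ?_⟩
    rw [e1, h.ee_self] at e
    rw [e, h.tT_zero]
  · obtain ⟨a, rfl⟩ := Submodule.mem_span_singleton.1 hx
    rw [h.ee_self, hc, h.tT_zero]

theorem Mo.ee_inj (h : Mo B) {u x y : M} (u0 : u ≠ 0) (k : B u x = 0) (k' : B u y = 0) {c d : F} :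
    ee B u x c = ee B u y d ↔ x + y ∈ F ∙ u ∧ c = d := by
  have key : x + y ∈ F ∙ u → ∃ a : F, x = y + a • u := fun hm => by
    obtain ⟨a, e⟩ := Submodule.mem_span_singleton.1 hm
    exact ⟨a, by rw [e, add_comm x, ← add_assoc, h.vadd_self, zero_add]⟩
  refine ⟨fun e => ?_, fun ⟨hm, e⟩ => ?_⟩
  · have e1 := h.ee_sq k' d
    nth_rewrite 1 [← e] at e1
    rw [h.ee_mul k k', h.ee_eq_one u0 (by simp [k, k'])] at e1
    obtain ⟨a, rfl⟩ := key e1.1
    refine ⟨e1.1, ?_⟩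
    have e2 := e1.2
    simp only [map_add, map_smul, LinearMap.add_apply, LinearMap.smul_apply, h.alt, k',
      smul_zero, add_zero] at e2
    linear_combination e2 - d * h.two
  · obtain ⟨a, rfl⟩ := key hm
    rw [h.ee_add_self k', e]

theorem Mo.tT_shift (h : Mo B) {u y : M} (k : B u y = 0) (a : F) :
    tT B (y + a • u) 1 = tT B y 1 * ee B u (a • y) (a * a) := by
  refine lin_ext fun x => ?_
  simp only [lin_mul, h.lin_tT, h.lin_ee (show B u (a • y) = 0 by simp [k]), map_add, map_smul,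
    LinearMap.add_apply, LinearMap.smul_apply, smul_eq_mul, h.alt, h.swap k]
  module

theorem Mo.comm_TT (h : Mo B) {u w : M} (k : B u w = 0) (c d : F) :
    Commute (tT B u c) (tT B w d) := by
  refine lin_ext fun x => ?_
  simp only [lin_mul, h.lin_tT, map_add, map_smul, smul_eq_mul, k, h.swap k]
  module

theorem Mo.ee_TT (h : Mo B) {u x : M} (k : B u x = 0) {a : F} (ha : a ≠ 0) :
    ee B u x (a * a) = tT B (a • u + a⁻¹ • x) 1 * tT B (a⁻¹ • x) 1 := by
  have k' : B u (a⁻¹ • x) = 0 := by simp [k]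
  rw [← h.comm_TT (by simp [h.alt, h.swap k]), add_comm, h.tT_shift k', ← mul_assoc, h.tT_sq,
    one_mul, smul_smul, mul_inv_cancel₀ ha, one_smul]

theorem Mo.TT_ee (h : Mo B) {u w : M} (k : B u w = 0) :
    tT B u 1 * tT B w 1 = ee B (u + w) w 1 := by
  have := h.ee_TT (u := u + w) (x := w) (by simp [k, h.alt]) one_ne_zero
  rw [mul_one, inv_one, one_smul, one_smul, add_assoc, h.vadd_self, add_zero] at this
  exact this.symm

theorem Mo.comm_T (h : Mo B) {u x y : M} (k : B u x = 0) (k' : B u y = 0) (c d : F) :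
    ⁅tT B y d, ee B u x c⁆ = ee B u ((d * B y x) • y) (d * B y x * B y x) := by
  have e1 : lin (tT B y d) u = u := by rw [h.lin_tT, h.swap k', mul_zero, zero_smul, add_zero]
  rw [commutatorElement_def, h.ee_conj _ k, e1, h.lin_tT, inv_eq_of_mul_eq_one_right (h.ee_sq k c),
    h.ee_mul (by simp [k, k']) k, add_right_comm, h.vadd_self, zero_add, h.add_self, zero_add]
  simp [h.alt]

theorem Mo.tE_ne (h : Mo B) {u w : M} (k : P2 B u w) : tE B u w ≠ 1 := fun e =>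
  k.not_mem ((h.ee_eq_one k.ne k.uw).1 ((h.ee_zero u w).trans e)).1

theorem Mo.tT_dep (h : Mo B) {u w : M} (u0 : u ≠ 0) {c d : F} (c0 : c ≠ 0)
    (e : tT B u c = tT B w d) : ∃ a : F, a ≠ 0 ∧ w = a • u ∧ a * a * d = c := by
  obtain ⟨x, hx⟩ := h.exists_eq u0 1
  have e1 := h.lin_tT u c x
  rw [e, h.lin_tT, add_right_inj, hx, mul_one] at e1
  have h2 : d * B w x ≠ 0 := fun k => smul_ne_zero c0 u0 (by rw [← e1, k, zero_smul])
  have h3 : w = ((d * B w x)⁻¹ * c) • u := by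
    rw [mul_smul, ← e1, smul_smul, inv_mul_cancel₀ h2, one_smul]
  refine ⟨_, mul_ne_zero (inv_ne_zero h2) c0, h3, ?_⟩
  generalize (d * B w x)⁻¹ * c = a at h3
  rw [h3, h.tT_smul] at e
  exact (h.tT_inj u0 e).symm

theorem Mo.tT_inj' (h : Mo B) {u w : M} (e : tT B u 1 = tT B w 1) : u = w := by
  by_cases u0 : u = 0
  · by_contra w0
    rw [u0] at w0
    rw [u0, h.tT_zero'] at e
    exact h.tT_ne (Ne.symm w0) one_ne_zero e.symm
  obtain ⟨a, -, e1, e2⟩ := h.tT_dep u0 one_ne_zero e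
  rw [e1, h.sq_inj (a := a) (b := 1) (by linear_combination e2), one_smul]

theorem Mo.tT_sqrt (h : Mo B) (u : M) (c : F) :
    ∃ a : F, a * a = c ∧ tT B u c = tT B (a • u) 1 := by
  obtain ⟨a, ha⟩ := h.exists_sq c
  exact ⟨a, ha, by rw [h.tT_smul, mul_one, ha]⟩

theorem Mo.comm_tT (h : Mo B) {g : sIsom B} {u : M} {c : F} (c0 : c ≠ 0) :
    Commute g (tT B u c) ↔ lin g u = u := by
  rw [commute_iff_eq, ← mul_inv_eq_iff_eq_mul, h.tT_conj]
  refine ⟨fun e => ?_, fun e => by rw [e]⟩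
  obtain ⟨a, ha⟩ := h.exists_sq c
  have a0 : a ≠ 0 := fun k => c0 (by rw [← ha, k, mul_zero])
  rw [← mul_one c, ← ha, ← h.tT_smul, ← h.tT_smul] at e
  exact smul_right_injective M a0 (h.tT_inj' e)

theorem Mo.comm_ee (h : Mo B) {g : sIsom B} {u x : M} (u0 : u ≠ 0) (k : B u x = 0)
    (e : lin g u = u) (c : F) : Commute g (ee B u x c) ↔ lin g x + x ∈ F ∙ u := by
  rw [commute_iff_eq, ← mul_inv_eq_iff_eq_mul, h.ee_conj g k, e,
    h.ee_inj u0 (by rw [← k, ← lin_isom g u x, e]) k]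
  simp

theorem Mo.tT_mem (h : Mo B) {W : Submodule F M} {u : M} (hW : u ∈ W) (c : F) :
    tT B u c ∈ VW B W := UM.mem_VW.2 fun x => by
  rw [h.lin_tT, add_sub_cancel_left]
  exact W.smul_mem _ hW

theorem Mo.tE_mem (h : Mo B) {W : Submodule F M} {u w : M} (k : B u w = 0) (hu : u ∈ W)
    (hw : w ∈ W) : tE B u w ∈ VW B W := UM.mem_VW.2 fun x => by
  rw [h.lin_tE k, add_assoc, add_sub_cancel_left]
  exact add_mem (W.smul_mem _ hw) (W.smul_mem _ hu)

theorem Mo.tT_mem_Fx (h : Mo B) {W : Submodule F M} {y : M} (hy : y ∈ orth B W) (c : F) :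
    tT B y c ∈ Fx B W := UM.mem_Fx.2 fun w hw => by
  rw [h.lin_tT, h.swap (mem_orth.1 hy w hw), mul_zero, zero_smul, add_zero]

theorem Mo.tE_mem_Fx (h : Mo B) {W : Submodule F M} {x y : M} (k : B x y = 0) (hx : x ∈ orth B W)
    (hy : y ∈ orth B W) : tE B x y ∈ Fx B W := UM.mem_Fx.2 fun w hw => by
  rw [h.lin_tE k, h.swap (mem_orth.1 hy w hw), h.swap (mem_orth.1 hx w hw), zero_smul, zero_smul,
    add_zero, add_zero]

theorem Mo.ee_mem_Q (h : Mo B) {u x : M} (k : B u x = 0) (c : F) : ee B u x c ∈ Qu B u := by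
  refine UM.mem_QW.2 ⟨UM.mem_Fx1.2 ?_, fun y hy => ?_⟩
  · simp [h.lin_ee k, h.alt, h.swap k]
  · rw [h.lin_ee k, mem_orth_span_singleton.1 hy, zero_smul, add_zero, add_sub_cancel_left]
    exact Submodule.smul_mem _ _ (Submodule.mem_span_singleton_self u)

theorem Mo.tE_mem_Q (h : Mo B) {u x : M} (k : B u x = 0) : tE B u x ∈ Qu B u :=
  h.ee_zero u x ▸ h.ee_mem_Q k 0

theorem Mo.tT_mem_Q (h : Mo B) (u : M) (c : F) : tT B u c ∈ Qu B u :=
  h.ee_zero' u c ▸ h.ee_mem_Q (map_zero _) c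

theorem Mo.mem_RR (h : Mo B) {u : M} {g : sIsom B} : g ∈ RR B u ↔ ∃ c, g = tT B u c := by
  refine ⟨fun hg => ?_, fun ⟨c, e⟩ => e ▸ h.tT_mem (Submodule.mem_span_singleton_self u) c⟩
  have k : ∀ x, ∃ a : F, lin g x = x + a • u := fun x => by
    obtain ⟨a, e⟩ := Submodule.mem_span_singleton.1 (UM.mem_VW.1 hg x)
    exact ⟨a, by rw [e, add_sub_cancel]⟩
  by_cases u0 : u = 0
  · refine ⟨0, (h.tT_zero u).symm ▸ lin_ext fun x => ?_⟩
    obtain ⟨a, e⟩ := k x
    rw [e, u0, smul_zero, add_zero, lin_one]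
  obtain ⟨f, hf⟩ := h.exists_eq u0 1
  obtain ⟨c, hc⟩ := k f
  refine ⟨c, lin_ext fun x => ?_⟩
  obtain ⟨a, e⟩ := k x
  have := lin_isom g x f
  simp only [hc, e, map_add, map_smul, LinearMap.add_apply, LinearMap.smul_apply, h.alt, hf,
    smul_eq_mul, h.symm x u] at this
  rw [e, h.lin_tT, show a = c * B u x by linear_combination this - c * B u x * h.two]

theorem Mo.mem_Q (h : Mo B) {u : M} (u0 : u ≠ 0) {g : sIsom B} :
    g ∈ Qu B u ↔ ∃ x c, B u x = 0 ∧ g = ee B u x c := by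
  refine ⟨fun hg => ?_, fun ⟨x, c, k, e⟩ => e ▸ h.ee_mem_Q k c⟩
  obtain ⟨h1, h2⟩ := UM.mem_QW.1 hg
  have gu : lin g u = u := h1 u (Submodule.mem_span_singleton_self u)
  obtain ⟨f, hf⟩ := h.exists_eq u0 1
  obtain ⟨y, hy⟩ : ∃ y, lin g f = f + y := ⟨lin g f - f, by abel⟩
  have uy : B u y = 0 := by
    have := lin_isom g u f
    rwa [gu, hy, map_add, add_eq_left] at this
  refine ⟨y, B y f, uy, lin_ext fun x => ?_⟩
  have hx : B u (x - B u x • f) = 0 := by simp [hf]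
  obtain ⟨a, e⟩ := Submodule.mem_span_singleton.1 (h2 _ (mem_orth_span_singleton.2 hx))
  have e1 : lin g (x - B u x • f) = x - B u x • f + a • u := by rw [e, add_sub_cancel]
  have e2 := lin_isom g (x - B u x • f) f
  rw [e1, hy] at e2
  simp only [map_add, map_sub, map_smul, LinearMap.add_apply, LinearMap.sub_apply,
    LinearMap.smul_apply, h.alt, hf, uy, smul_eq_mul, h.symm x y, h.symm f y] at e2
  rw [map_sub, map_smul, hy, sub_eq_iff_eq_add] at e1
  rw [e1, h.lin_ee uy, show B y x + B y f * B u x = a by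
    linear_combination e2 + (B y f * B u x - a) * h.two]
  module

theorem Mo.sq_Q (h : Mo B) {u : M} (u0 : u ≠ 0) {g : sIsom B} (hg : g ∈ Qu B u) : g * g = 1 := by
  obtain ⟨x, c, k, rfl⟩ := (h.mem_Q u0).1 hg
  exact h.ee_sq k c

theorem Mo.comm_Q (h : Mo B) {u : M} (u0 : u ≠ 0) {a b : sIsom B} (ha : a ∈ Qu B u)
    (hb : b ∈ Qu B u) : Commute a b := by
  obtain ⟨x, c, k, rfl⟩ := (h.mem_Q u0).1 ha
  obtain ⟨y, d, k', rfl⟩ := (h.mem_Q u0).1 hb
  rw [commute_iff_eq, h.ee_mul k k', h.ee_mul k' k, add_comm x, add_comm c, h.symm x y]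

theorem Mo.of_isom (h : Mo B) (l : M ≃ₗ[F] M) (k : ∀ x y, B (l x) (l y) = B x y) :
    ∃ g : sIsom B, ∀ x, lin g x = l x :=
  ⟨⟨⟨l, k⟩, h.cls.mem_sIsom_of_alt h.alt _⟩, fun _ => rfl⟩

theorem Mo.tw_fix (h : Mo B) {g : sIsom B} (hg : Tw g) {u : M} {a : F} (e : lin g u = a • u) :
    lin g u = u := by
  by_cases u0 : u = 0
  · rw [u0, map_zero]
  obtain ⟨k, hk⟩ := hg
  have h1 := lin_pow_of_eigen e (2 ^ k)
  rw [hk, lin_one] at h1
  have h2 : a ^ 2 ^ k = 1 := smul_left_injective F u0 (h1.symm.trans (one_smul F u).symm)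
  have h3 : ∀ k, a ^ 2 ^ k = 1 → a = 1 := fun k => by
    induction k with
    | zero => simp
    | succ k ih => exact fun e => ih (h.sq_inj (by rw [← pow_two, ← pow_mul, ← pow_succ, e, mul_one]))
  rw [e, h3 k h2, one_smul]

theorem Mo.center_bot (h : Mo B) : center (sIsom B) = ⊥ :=
  eq_bot_iff.2 fun g hg => h.toSp2.pmk_inj (g' := 1) ((QuotientGroup.eq_one_iff g).2 hg)

end Cfsg.Lib.SP6
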