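import Cfsg.Agent.SP6.Defs
import Cfsg.Agent.SP6.K1
import Cfsg.Agent.SP6.K4

/-!
# Standard subgroups of type `Sp_{2k}(2ⁿ)`: automorphisms of the model
-/

set_option autoImplicit false
set_option linter.unusedSectionVars false
set_option linter.unusedVariables false

namespace Cfsg.Lib.SP6

open Subgroup Module Cfsg.Lib.Trans Cfsg.Lib.Gold Cfsg.Lib.Class.Form Cfsg.Lib.Class.FAut
open Cfsg.Lib.UM (tT tE VW RR Fx St QW Cf mp Semi fa Mp cx re Ot kk Mx Fr3)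
open Cfsg.Lib.SG2 (Uq Top)
open Cfsg.Lib.Comp (Tw)
open scoped commutatorElement

variable {F M : Type*} [Field F] [Finite F] [AddCommGroup M] [Module F M] [FiniteDimensional F M]
  {B : M →ₗ[F] M →ₗ[F] F}

theorem Mo.of_semi (h : Mo B) (Γ : M ≃+ M) (τ : F ≃+* F) (h1 : ∀ a x, Γ (a • x) = τ a • Γ x)
    (h2 : ∀ x y, B (Γ x) (Γ y) = τ (B x y)) : ∃ α : MulAut (sIsom B), Semi α Γ τ := by
  have h3 : ∀ a x, Γ.symm (a • x) = τ.symm a • Γ.symm x := fun a x => Γ.injective (by simp [h1])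
  let L : sIsom B → M ≃ₗ[F] M := fun g =>
    { (Γ.symm.trans (lin g).toAddEquiv).trans Γ with
      map_smul' := fun a x => by simp [h1, h3] }
  have hL : ∀ g x y, B (L g x) (L g y) = B x y := fun g x y => by
    change B (Γ (lin g (Γ.symm x))) (Γ (lin g (Γ.symm y))) = _
    rw [h2, lin_isom, ← h2, Γ.apply_symm_apply, Γ.apply_symm_apply]
  choose f hf using fun g => h.of_isom (L g) (hL g)
  have hψ : ∀ g x, lin (f g) (Γ x) = Γ (lin g x) := fun g x => by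
    rw [hf]
    change Γ (lin g (Γ.symm (Γ x))) = _
    rw [Γ.symm_apply_apply]
  let φ : sIsom B →* sIsom B := MonoidHom.mk' f fun g g' => lin_ext (Γ.surjective.forall.2 fun x => by
    rw [lin_mul, hψ, hψ, hψ, lin_mul])
  exact ⟨MulEquiv.ofBijective φ (Finite.injective_iff_bijective.1
    fun g g' e => lin_ext fun x => Γ.injective (by
      rw [← hψ, show f g = f g' from e, hψ])), h1, h2, hψ⟩

theorem Mo.semi (h : Mo B) (α : MulAut (sIsom B)) : ∃ Γ, Semi α Γ (fa α) := by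
  have h6 := h.six
  obtain ⟨u, u', hr⟩ := h.toSp2.exists_rel_of_lt (by omega) (QuotientGroup.congr _ _ α
    (characteristic_iff_map_eq.1 inferInstance α))
  obtain ⟨s, Γ, κ, κ0, -, hb, h1, h2, h3⟩ := h.cls.aut_semilinear (by omega) (by omega) hr
  obtain ⟨c, hc⟩ := h.exists_sq κ⁻¹
  have c0 : c ≠ 0 := right_ne_zero_of_mul (hc ▸ inv_ne_zero κ0)
  have e : ∀ x, ((AddEquiv.ofBijective Γ hb).trans
    (LinearEquiv.smulOfNeZero F M c c0).toAddEquiv) x = c • Γ x := fun _ => rfl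
  obtain ⟨α', k⟩ := h.of_semi _ s (fun b x => by rw [e, e, h1, smul_comm]) fun x y => by
    simp only [e, map_smul, LinearMap.smul_apply, smul_eq_mul, h2]
    rw [← mul_assoc, ← mul_assoc, hc, inv_mul_cancel₀ κ0, one_mul]
  have e1 : α = α' := MulEquiv.ext fun g => h.toSp2.pmk_inj (h3 g _ fun x =>
    smul_right_injective M c0 (by
      have := k.conj g x
      rwa [e, e, map_smul] at this))
  have e2 : ∃ τ, ∃ Γ, Semi α Γ τ := ⟨s, _, e1 ▸ k⟩
  rw [fa, dif_pos e2]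
  exact e2.choose_spec

theorem Mo.semi_tT (h : Mo B) {α : MulAut (sIsom B)} {Γ : M ≃+ M} {τ : F ≃+* F} (k : Semi α Γ τ)
    (u : M) (c : F) : α (tT B u c) = tT B (Γ u) (τ c) :=
  lin_ext (Γ.surjective.forall.2 fun x => by
    rw [k.conj, h.lin_tT, h.lin_tT, map_add, k.smul, map_mul, k.form])

theorem Mo.semi_tE (h : Mo B) {α : MulAut (sIsom B)} {Γ : M ≃+ M} {τ : F ≃+* F} (k : Semi α Γ τ)
    {u w : M} (k' : B u w = 0) : α (tE B u w) = tE B (Γ u) (Γ w) :=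
  lin_ext (Γ.surjective.forall.2 fun x => by
    rw [k.conj, h.lin_tE k', h.lin_tE (by rw [k.form, k', map_zero]), map_add, map_add, k.smul,
      k.smul, k.form, k.form])

theorem Mo.semi_ee (h : Mo B) {α : MulAut (sIsom B)} {Γ : M ≃+ M} {τ : F ≃+* F} (k : Semi α Γ τ)
    {u w : M} (k' : B u w = 0) (c : F) : α (ee B u w c) = ee B (Γ u) (Γ w) (τ c) := by
  rw [ee, ee, map_mul, h.semi_tE k k', h.semi_tT k]

theorem Mo.semi_uniq (h : Mo B) {α : MulAut (sIsom B)} {Γ Δ : M ≃+ M} {τ ρ : F ≃+* F}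
    (k : Semi α Γ τ) (k' : Semi α Δ ρ) : Γ = Δ ∧ τ = ρ := by
  have e : Γ = Δ := AddEquiv.ext fun x => h.tT_inj' (by
    have := (h.semi_tT k x 1).symm.trans (h.semi_tT k' x 1)
    rwa [map_one, map_one] at this)
  subst e
  obtain ⟨u, u0⟩ := h.exists_ne
  exact ⟨rfl, RingEquiv.ext fun a => smul_left_injective F (by simpa using u0 : Γ u ≠ 0)
    ((k.smul a u).symm.trans (k'.smul a u))⟩

theorem Mo.fa_eq (h : Mo B) {α : MulAut (sIsom B)} {Γ : M ≃+ M} {τ : F ≃+* F} (k : Semi α Γ τ) :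
    fa α = τ :=
  let ⟨_, k'⟩ := h.semi α
  (h.semi_uniq k' k).2

theorem Mo.fa_mul (h : Mo B) (α β : MulAut (sIsom B)) : fa (α * β) = fa α * fa β :=
  let ⟨_, k⟩ := h.semi α
  let ⟨_, k'⟩ := h.semi β
  h.fa_eq (k.mul k')

theorem Mo.fa_conj (h : Mo B) (l : sIsom B) : fa (MulAut.conj l) = 1 := h.fa_eq (UM.semi_conj l)

theorem Mo.fa_one (h : Mo B) : fa (1 : MulAut (sIsom B)) = 1 := by
  rw [← map_one MulAut.conj, h.fa_conj]

theorem Mo.fa_inv (h : Mo B) (α : MulAut (sIsom B)) : fa α⁻¹ = (fa α)⁻¹ :=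
  let ⟨_, k⟩ := h.semi α
  h.fa_eq k.inv

theorem Mo.fa_pow (h : Mo B) (α : MulAut (sIsom B)) (n : ℕ) : fa (α ^ n) = fa α ^ n :=
  map_pow (MonoidHom.mk' fa h.fa_mul) α n

theorem semi_P2 {α : MulAut (sIsom B)} {Γ : M ≃+ M} {τ : F ≃+* F} (k : Semi α Γ τ) {u w : M} :
    P2 B (Γ u) (Γ w) ↔ P2 B u w := by
  have e := k.span {u} w
  rw [Set.image_singleton] at e
  rw [P2.iff, P2.iff, ← e, k.form]
  simp

theorem Mo.semi_lin (h : Mo B) {α : MulAut (sIsom B)} {Γ : M ≃+ M} (k : Semi α Γ 1) :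
    ∃ l, α = MulAut.conj l ∧ ∀ x, lin l x = Γ x := by
  obtain ⟨l, hl⟩ := h.of_isom { Γ with map_smul' := k.smul } k.form
  have e : (lin l).toAddEquiv = Γ := AddEquiv.ext hl
  exact ⟨l, k.ext (e ▸ UM.semi_conj l), hl⟩

theorem Mo.inner (h : Mo B) {α : MulAut (sIsom B)} (h1 : fa α = 1) : ∃ l, α = MulAut.conj l :=
  let ⟨_, k⟩ := h.semi α
  let ⟨l, e, _⟩ := h.semi_lin (h1 ▸ k)
  ⟨l, e⟩

theorem Mo.conj_inj (h : Mo B) {a b : sIsom B} (e : MulAut.conj a = MulAut.conj b) : a = b :=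
  lin_ext fun x => DFunLike.congr_fun (h.semi_uniq (UM.semi_conj a) (e ▸ UM.semi_conj b)).1 x

theorem Mo.semi_sq (h : Mo B) {α : MulAut (sIsom B)} {Γ : M ≃+ M} {τ : F ≃+* F} (k : Semi α Γ τ)
    (e : α * α = 1) : (∀ x, Γ (Γ x) = x) ∧ τ * τ = 1 := by
  have k1 := k.mul k
  rw [e, ← map_one MulAut.conj] at k1
  obtain ⟨e1, e2⟩ := h.semi_uniq k1 (UM.semi_conj 1)
  exact ⟨fun x => DFunLike.congr_fun e1 x, e2⟩

theorem aut_inv {τ ρ : F ≃+* F} (h1 : τ * τ = 1) (h2 : ρ * ρ = 1) (h3 : τ ≠ 1) (h4 : ρ ≠ 1) :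
    τ = ρ :=
  Known.ringAut_eq_of_orderOf_eq_two (orderOf_eq_prime (by rw [pow_two, h1]) h3)
    (orderOf_eq_prime (by rw [pow_two, h2]) h4)

theorem aut_cyc (S : Subgroup (F ≃+* F)) : IsCyclic S :=
  haveI : IsCyclic (F ≃+* F) := Known.isCyclic_ringAut
  inferInstance

end Cfsg.Lib.SP6
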