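import Cfsg.Agent.SP6.K4

/-! The defect lemma for a quadratic function. -/

set_option autoImplicit false
set_option linter.unusedSectionVars false
set_option linter.unusedVariables false

namespace Cfsg.Lib.SP6

open Subgroup Module Cfsg.Lib.Trans Cfsg.Lib.Gold Cfsg.Lib.Class.Form Cfsg.Lib.Class.FAut
open Cfsg.Lib.UM (tT tE VW RR Fx St QW Cf mp Semi fa Mp cx re Ot kk Mx Fr3)
open Cfsg.Lib.SG2 (Uq Top)
open Cfsg.Lib.Comp (Tw)
open scoped commutatorElement

variable {F M : Type*} [Field F] [Finite F] [AddCommGroup M] [Module F M] [FiniteDimensional F M]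
  {B : M →ₗ[F] M →ₗ[F] F}

theorem AC2.p2 (h : Mo B) {u y p : M} (u0 : u ≠ 0) (h1 : B u y = 0) (h2 : B u p = 0)
    (h3 : B y p ≠ 0) : P2 B u y :=
  P2.iff.2 ⟨h1, u0, fun k => by
    obtain ⟨a, rfl⟩ := Submodule.mem_span_singleton.1 k
    simp [h2] at h3⟩

theorem Mo.ac2 (h : Mo B) (hx : ∃ a : F, a ≠ 0 ∧ a ≠ 1) {u : M} (u0 : u ≠ 0) (l : M → F) (m : F)
    (h1 : ∀ y (a : F), P2 B u y → l (y + a • u) = l y)
    (h2 : ∀ y (a : F), P2 B u y → a ≠ 0 → l (a • y) = a * l y)
    (h3 : ∀ y z, P2 B u y → P2 B u z → B y z ≠ 0 →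
      l (y + z) * l (y + z) = l y * l y + l z * l z + m * m * B y z)
    {y z : M} (k : P3 B u y z) : l (y + z) = l y + l z := by
  have two := h.two
  obtain ⟨k1, k2, -, k3⟩ := k.p2 h
  have uy := k1.uw
  have uz := k2.uw
  have yz := k.wx
  have zy := h.swap yz
  apply h.sq_inj
  suffices l (y + z) * l (y + z) + l y * l y + l z * l z = 0 by
    linear_combination this - (l y * l y + l z * l z + l y * l z) * two
  obtain ⟨a, a0, a1⟩ := hx
  · obtain ⟨p, p1, p2, p3⟩ := h.dual3 u0 k1.not_mem (P3.iff.1 k).2.2.2 0 1 a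
    have kp : P2 B u p := AC2.p2 h u0 p1 uy (by rw [h.symm, p2]; exact one_ne_zero)
    have e1 := h3 (y + z) p k3 kp (by
      rw [map_add, LinearMap.add_apply, p2, p3]
      exact fun e => a1 (by linear_combination e - two))
    have e2 := h3 y (z + p) k1 (AC2.p2 h u0 (by simp [uz, p1]) uy
      (by simp [zy, h.symm p y, p2])) (by simp [yz, p2])
    have e3 := h3 z p k2 kp (by rwa [p3])
    rw [add_assoc, e2, e3] at e1
    simp only [map_add, LinearMap.add_apply, p2, p3, yz] at e1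
    linear_combination -e1 + (l y * l y + l z * l z) * two

end Cfsg.Lib.SP6
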