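import Cfsg.Agent.SP6.K1

/-!
# Standard subgroups of type `Sp_{2k}(2ⁿ)`: the groups `V_W` and `Q_W`
-/

set_option autoImplicit false
set_option linter.unusedSectionVars false

namespace Cfsg.Lib.SP6

open Subgroup Module Cfsg.Lib.Trans Cfsg.Lib.Gold Cfsg.Lib.Class.Form Cfsg.Lib.Class.FAut
open Cfsg.Lib.UM (tT tE VW RR Fx St QW Cf mp Semi fa Mp cx re Ot kk Mx Fr3)
open Cfsg.Lib.SG2 (Uq Top)
open Cfsg.Lib.Comp (Tw)
open scoped commutatorElement

section Model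
variable {F M : Type*} [Field F] [Finite F] [AddCommGroup M] [Module F M] [FiniteDimensional F M]
  {B : M →ₗ[F] M →ₗ[F] F}

theorem Mo.orth_orth (h : Mo B) (W : Submodule F M) : orth B (orth B W) = W := h.cls.orth_orth W

theorem K2.fix (h : Mo B) {W : Submodule F M} {v : sIsom B} (hv : v ∈ VW B W) {x : M}
    (hx : x ∈ orth B W) : lin v x = x := by
  refine sub_eq_zero.1 (h.cls.sep' _ fun y => ?_)
  have := hx _ (UM.mem_VW.1 (inv_mem hv) y)
  rwa [map_sub, LinearMap.sub_apply, ← lin_right, ← map_sub] at this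

theorem Mo.VW_eq (h : Mo B) (W : Submodule F M) : VW B W = Fx B (orth B W) :=
  le_antisymm (fun _ hv _ hx => K2.fix h hv hx) fun _ hg => UM.mem_VW.2 fun x =>
    (h.orth_orth W).le (UM.K2.Fx_sub hg x)

theorem Mo.VW_le_QW (h : Mo B) {W : Submodule F M} (hW : TotIso B W) : VW B W ≤ QW B W :=
  fun _ hv => ⟨fun _ hw => K2.fix h hv (hW.le_orth hw), fun x _ => hv x⟩

theorem Mo.VW_le_Fx (h : Mo B) {W W' : Submodule F M} (hW : W ≤ orth B W') : VW B W ≤ Fx B W' :=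
  fun _ hv _ hx => K2.fix h hv fun _ hu => h.swap (hW hu _ hx)

theorem Mo.QW_le_St (h : Mo B) {W W' : Submodule F M} (hW' : TotIso B W') (hle : W ≤ W') :
    QW B W ≤ St B W' := fun _ hg => (fun _ => UM.mem_St_of fun x hx => by
  have := add_mem (hle (hg.2 x fun u hu => hW' u (hle hu) x hx)) hx
  rwa [sub_add_cancel] at this) h

theorem Mo.sq_VW (h : Mo B) {W : Submodule F M} (hW : TotIso B W) {v : sIsom B} (hv : v ∈ VW B W) :
    v * v = 1 := lin_ext fun x => by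
  have h1 := (h.VW_le_QW hW hv).1 _ (UM.mem_VW.1 hv x)
  rw [map_sub] at h1
  rw [lin_mul, lin_one]
  linear_combination (norm := module) h1 + h.vadd_self (lin v x - x)

theorem Mo.two_QW (h : Mo B) {W : Submodule F M} (hW : TotIso B W) : IsPGroup 2 (QW B W) := by
  rintro ⟨g, hg⟩
  have k : g * g ∈ VW B W := UM.mem_VW.2 fun x => by
    have h1 := hg.2 _ (UM.K2.Fx_sub hg.1 x)
    rwa [show lin g (lin g x - x) - (lin g x - x) = lin (g * g) x - x by
      rw [map_sub, lin_mul]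
      linear_combination (norm := module) -h.vadd_self (lin g x - x)] at h1
  refine ⟨2, Subtype.ext ?_⟩
  change g ^ (2 * 2) = 1
  rw [pow_mul, pow_two, pow_two, h.sq_VW hW k]

theorem K2.sym (h : Mo B) {W : Submodule F M} (hW : TotIso B W) {v : sIsom B} (hv : v ∈ VW B W)
    (x y : M) : B (lin v x - x) y = B x (lin v y - y) := by
  have h1 := hW _ (UM.mem_VW.1 hv x) _ (UM.mem_VW.1 hv y)
  simp only [map_sub, LinearMap.sub_apply, lin_isom] at h1 ⊢
  linear_combination -h1 + (B x y - B x (lin v y) + B x y) * h.two - B x y * h.two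

theorem Mo.gen_VW (h : Mo B) {W : Submodule F M} (hW : TotIso B W) {H : Subgroup (sIsom B)}
    (k : ∀ x ∈ W, tT B x 1 ∈ H) : VW B W ≤ H := by
  suffices ∀ K : Submodule F M, ∀ v ∈ VW B W,
      LinearMap.eqLocus (lin v : M →ₗ[F] M) LinearMap.id = K → v ∈ H from fun v hv => this _ v hv rfl
  intro K
  induction K using WellFoundedGT.induction with
  | _ K ih =>
  rintro v hv rfl
  by_cases v1 : ∀ x, lin v x = x
  · exact (lin_ext v1 : v = 1) ▸ one_mem H
  obtain ⟨x, hx⟩ := not_forall.1 v1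
  have step : ∀ s ∈ H, s ∈ VW B W → (∀ y, lin v y = y → lin s y = y) → lin s x = lin v x → v ∈ H :=
    fun s s1 s2 s3 s4 => (mul_mem_cancel_right s1).1 (ih _ (lt_of_le_of_ne (fun y hy => by
      change lin v (lin s y) = y
      rw [s3 y hy]; exact hy) fun e => hx (e.ge (show lin v (lin s x) = x by
        rw [s4, ← lin_mul, h.sq_VW hW hv, lin_one]))) _ (mul_mem hv s2) rfl)
  have hu := UM.mem_VW.1 hv x
  have hs := K2.sym h hW hv
  by_cases c : B (lin v x - x) x = 0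
  · obtain ⟨y, hy⟩ := h.exists_eq (sub_ne_zero.2 hx) 1
    have hw := UM.mem_VW.1 hv y
    have e := hW _ hu _ hw
    refine step _ (h.tE_eq e ▸ mul_mem (mul_mem (k _ (add_mem hu hw)) (k _ hu)) (k _ hw))
      (h.tE_mem e hu hw) (fun z hz => ?_) ?_
    · rw [h.lin_tE e, hs, hs, hz, sub_self, map_zero, map_zero, zero_smul, zero_smul, add_zero,
        add_zero]
    · rw [h.lin_tE e, c, hs y, h.symm y, hy, zero_smul, one_smul, add_zero, add_sub_cancel]
  · obtain ⟨a, -, e⟩ := h.tT_sqrt (lin v x - x) (B (lin v x - x) x)⁻¹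
    refine step _ (e ▸ k _ (W.smul_mem a hu)) (h.tT_mem hu _) (fun z hz => ?_) ?_
    · rw [h.lin_tT, hs x z, hz, sub_self, map_zero, mul_zero, zero_smul, add_zero]
    · rw [h.lin_tT, inv_mul_cancel₀ c, one_smul, add_sub_cancel]

theorem K2.Fx_le (h : Mo B) {W : Submodule F M} : Fx B W ≤ Cs (VW B W) := fun g hg =>
  mem_Cs.2 fun v hv => lin_ext fun x => by
    have h1 := K2.fix h hv (UM.K2.Fx_sub hg x)
    have h2 := hg _ (UM.mem_VW.1 hv x)
    rw [map_sub] at h1 h2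
    rw [lin_mul, lin_mul]
    linear_combination (norm := module) h1 - h2

theorem Mo.Cs_VW (h : Mo B) {W : Submodule F M} (hW : TotIso B W) : Cs (VW B W) = Fx B W :=
  (fun _ => le_antisymm (fun _ hg _ hx =>
    (h.comm_tT one_ne_zero).1 (mem_Cs.1 hg _ (h.tT_mem hx 1)).symm) (K2.Fx_le h)) hW

theorem Mo.Cs_Fx (h : Mo B) {W : Submodule F M} (hW : TotIso B W) : Cs (Fx B W) = VW B W :=
  (fun _ => le_antisymm (fun _ hg => (h.VW_eq W).ge fun _ hx =>
    (h.comm_tT one_ne_zero).1 (mem_Cs.1 hg _ (h.tT_mem_Fx hx 1)).symm)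
    fun _ hv => mem_Cs.2 fun _ hg => (mem_Cs.1 (K2.Fx_le h hg) _ hv).symm) hW

theorem Mo.Cs_Q (h : Mo B) {u : M} (u0 : u ≠ 0) : Cs (Qu B u) = Qu B u := by
  refine le_antisymm (fun g hg => ?_) fun a ha => mem_Cs.2 fun b hb => h.comm_Q u0 hb ha
  have e := (h.comm_tT one_ne_zero).1 (mem_Cs.1 hg _ (h.tT_mem_Q u 1)).symm
  refine ⟨UM.mem_Fx1.2 e, fun x hx => ?_⟩
  have k := h.mem_orth1.1 hx
  rw [h.vsub]
  exact (h.comm_ee u0 k e 0).1 (mem_Cs.1 hg _ (h.ee_mem_Q k 0)).symm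

theorem Mo.card_VW (h : Mo B) {W : Submodule F M} (hW : TotIso B W) :
    Nat.card (VW B W) = Nat.card F ^ (finrank F W * (finrank F W + 1) / 2) := by
  classical
  have c : Nat.card {A : Fin (finrank F W) → Fin (finrank F W) → F // ∀ i j, A i j = A j i} =
      Nat.card F ^ (finrank F W * (finrank F W + 1) / 2) := by
    rw [Nat.card_congr Sym2.lift, Nat.card_fun, Nat.card_eq_fintype_card (α := Sym2 _), Sym2.card,
      Fintype.card_fin, Nat.choose_two_right, Nat.add_sub_cancel, mul_comm]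
  rw [← c]
  let b := Module.finBasis F W
  have hli : LinearIndependent F fun i => (b i : M) := b.linearIndependent.map' W.subtype (by simp)
  choose f hf using fun j => h.cls.exists_forall_eq' hli (Pi.single j 1)
  have hf' : ∀ i j, B (f i) (b j) = Pi.single (M := fun _ => F) i 1 j := fun i j => by
    rw [h.symm, hf]
  have hW' : ∀ w ∈ W, ∑ i, B (f i) w • (b i : M) = w := fun w hw => by
    have := congrArg W.subtype (b.sum_repr ⟨w, hw⟩)
    simp only [map_sum, map_smul, Submodule.subtype_apply] at this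
    refine (Finset.sum_congr rfl fun i _ => ?_).trans this
    conv_lhs => rw [← this]
    simp [hf', Pi.single_apply]
  have hx : ∀ x, x - ∑ j, B (b j) x • f j ∈ orth B W := fun x w hw => by
    rw [← hW' w hw]
    simp [hf, Pi.single_apply]
  refine Nat.card_congr (Equiv.ofBijective (fun v => ⟨fun i j => B (f i) (lin v.1 (f j) - f j),
    fun i j => (h.symm _ _).trans (K2.sym h hW v.2 _ _)⟩) ⟨fun v v' e => ?_, fun ⟨A, hA⟩ => ?_⟩)
  · have e1 : ∀ j, lin v.1 (f j) = lin v'.1 (f j) := fun j => by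
      rw [← sub_left_inj (a := f j), ← hW' _ (UM.mem_VW.1 v.2 _), ← hW' _ (UM.mem_VW.1 v'.2 _)]
      exact Finset.sum_congr rfl fun i _ =>
        congrArg (· • _) (congrFun (congrFun (congrArg Subtype.val e) i) j)
    refine Subtype.ext (lin_ext fun x => ?_)
    rw [← sub_add_cancel x (∑ j, B (b j) x • f j), map_add, map_add, K2.fix h v.2 (hx x),
      K2.fix h v'.2 (hx x)]
    simp only [map_sum, map_smul, e1]
  · let N : M →ₗ[F] M := ∑ i, ∑ j, (A i j • B (b j)).smulRight (b i : M)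
    have hN : ∀ x, N x = ∑ i, ∑ j, (A i j * B (b j) x) • (b i : M) := fun x => by simp [N]
    have hNW : ∀ x, N x ∈ W := fun x => hN x ▸ sum_mem fun i _ => sum_mem fun j _ =>
      W.smul_mem _ (b i).2
    have hNs : ∀ x y, B (N x) y = B x (N y) := fun x y => by
      simp only [hN, map_sum, map_smul, LinearMap.sum_apply, LinearMap.smul_apply, smul_eq_mul]
      rw [Finset.sum_comm]
      exact Finset.sum_congr rfl fun i _ => Finset.sum_congr rfl fun j _ => by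
        rw [hA j, h.symm x]; ring
    have hNN : ∀ x, N (N x) = 0 := fun x => h.cls.sep _ fun y => by
      rw [hNs]
      exact hW _ (hNW _) _ (hNW _)
    have hi : ∀ x y, B ((1 + N) x) ((1 + N) y) = B x y := fun x y => by
      simp only [LinearMap.add_apply, Module.End.one_apply, map_add, hNs, hNN, map_zero]
      linear_combination B x (N y) * h.two
    let g : sIsom B := ⟨h.cls.ofLin _ hi, h.cls.mem_sIsom_of_alt h.alt _⟩
    have hg : ∀ x, lin g x - x = N x := fun x => add_sub_cancel_left x (N x)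
    refine ⟨⟨g, UM.mem_VW.2 fun x => hg x ▸ hNW x⟩, Subtype.ext (funext₂ fun i j => ?_)⟩
    change B _ (lin g _ - _) = A i j
    simp [hg, hN, hf, hf', Pi.single_apply]

theorem Mo.card_RR (h : Mo B) {u : M} (u0 : u ≠ 0) : Nat.card (RR B u) = Nat.card F :=
  (Nat.card_eq_of_bijective (fun c : F => (⟨tT B u c, h.mem_RR.2 ⟨c, rfl⟩⟩ : RR B u))
    ⟨fun _ _ e => h.tT_inj u0 (congrArg Subtype.val e), fun g =>
      (h.mem_RR.1 g.2).imp fun _ e => Subtype.ext e.symm⟩).symm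

theorem K2.card (h : Mo B) {u : M} (u0 : u ≠ 0) {T : Submodule F M} (hu : u ∈ T)
    (hT : ∀ x ∈ T, B u x = 0) {H : Subgroup (sIsom B)}
    (hH : ∀ g, g ∈ H ↔ ∃ x ∈ T, ∃ c, g = ee B u x c) : Nat.card H = Nat.card F ^ finrank F T := by
  obtain ⟨z, hz⟩ := h.exists_eq u0 1
  rw [h.symm] at hz
  rw [← Module.natCard_eq_pow_finrank]
  refine (Nat.card_eq_of_bijective (fun x : T =>
    (⟨ee B u x (B z x), (hH _).2 ⟨x, x.2, _, rfl⟩⟩ : H)) ⟨fun x y e => ?_, fun g => ?_⟩).symm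
  · obtain ⟨e1, e2⟩ := (h.ee_inj u0 (hT _ x.2) (hT _ y.2)).1 (congrArg Subtype.val e)
    obtain ⟨a, ha⟩ := Submodule.mem_span_singleton.1 e1
    have := congrArg (B z) ha
    rw [map_smul, hz, map_add, e2, h.add_self, smul_eq_mul, mul_one] at this
    rw [this, zero_smul, ← h.vsub, eq_comm, sub_eq_zero] at ha
    exact Subtype.ext ha
  · obtain ⟨x, hx, c, e⟩ := (hH _).1 g.2
    refine ⟨⟨x + (c - B z x) • u, add_mem hx (T.smul_mem _ hu)⟩, Subtype.ext ?_⟩
    simp only [e, h.ee_add_self (hT x hx), map_add, map_smul, hz, smul_eq_mul, mul_one,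
      add_sub_cancel]

theorem Mo.card_Q (h : Mo B) {u : M} (u0 : u ≠ 0) :
    Nat.card (Qu B u) = Nat.card F ^ (2 * kk F M - 1) := by
  have := h.cls.finrank_orth (F ∙ u)
  rw [finrank_span_singleton u0, h.rank_eq] at this
  rw [K2.card h u0 (T := orth B (F ∙ u)) (h.mem_orth1.2 (h.alt u)) (fun x => h.mem_orth1.1) fun g =>
    (h.mem_Q u0).trans ⟨fun ⟨x, c, a, b⟩ => ⟨x, h.mem_orth1.2 a, c, b⟩,
      fun ⟨x, a, c, b⟩ => ⟨x, c, h.mem_orth1.1 a, b⟩⟩, ← this, Nat.add_sub_cancel]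

theorem Mo.card_QF (h : Mo B) {u y : M} (k : P2 B u y) :
    Nat.card ↥(Qu B u ⊓ Pu B y) = Nat.card F ^ (2 * kk F M - 2) := by
  have := h.cls.finrank_orth (l2 F u y)
  rw [k.rank, h.rank_eq] at this
  have e : ∀ x c, B u x = 0 → (ee B u x c ∈ Pu B y ↔ B y x = 0) := fun x c a => by
    rw [UM.mem_Fx1, h.lin_ee a, k.uw, h.symm x]
    simp [k.ne]
  rw [K2.card h k.ne (T := orth B (l2 F u y)) (h.mem_orth2.2 ⟨h.alt u, h.swap k.uw⟩)
    (fun x a => (h.mem_orth2.1 a).1) fun g => ⟨fun a => ?_, ?_⟩, ← this, Nat.add_sub_cancel]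
  · obtain ⟨x, c, a1, rfl⟩ := (h.mem_Q k.ne).1 a.1
    exact ⟨x, h.mem_orth2.2 ⟨a1, (e x c a1).1 a.2⟩, c, rfl⟩
  · rintro ⟨x, a, c, rfl⟩
    obtain ⟨a1, a2⟩ := h.mem_orth2.1 a
    exact ⟨h.ee_mem_Q a1 c, (e x c a1).2 a2⟩

theorem Mo.VW_inj (h : Mo B) {W W' : Submodule F M} (e : VW B W ≤ VW B W') : W ≤ W' := fun x hx => by
  by_cases x0 : x = 0
  · exact x0 ▸ zero_mem W'
  obtain ⟨y, hy⟩ := h.exists_eq x0 1
  simpa [h.lin_tT, hy] using UM.mem_VW.1 (e (h.tT_mem hx 1)) y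

theorem Mo.Q_inj (h : Mo B) {u w : M} (u0 : u ≠ 0) (e : Qu B u ≤ Qu B w) : u ∈ F ∙ w := by
  by_contra c
  obtain ⟨x, h1, h2⟩ := h.cls.exists_orth_of_notMem c
  have := (e ((fun _ => h.tT_mem_Q u 1) u0)).2 x fun a ha => h.swap (h1 a ha)
  rw [h.lin_tT, add_sub_cancel_left, one_mul, Submodule.smul_mem_iff _ fun k => h2 (h.swap k)] at this
  exact c this

theorem Mo.mx_iff (h : Mo B) {W : Submodule F M} : Mx B W ↔ orth B W = W := by
  have := h.cls.finrank_orth W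
  rw [h.rank_eq] at this
  refine ⟨fun k => (Submodule.eq_of_le_of_finrank_eq k.ti.le_orth (by have := k.dim; omega)).symm,
    fun e => ⟨fun u hu v hv => e.ge hv u hu, ?_⟩⟩
  rw [e] at this
  omega

theorem Mo.Fx_mx (h : Mo B) {W : Submodule F M} (hW : Mx B W) : Fx B W = VW B W := by
  rw [h.VW_eq, h.mx_iff.1 hW]

theorem Mo.V_fix (h : Mo B) {v : sIsom B} {y z z' : M} (k : P2 B z z') (hz : lin v z = z)
    (hz' : lin v z' = z') (e : B z y = 0) (e' : B z' y = 0) (c : Commute v (tE B z y))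
    (c' : Commute v (tE B z' y)) : lin v y = y := by
  obtain ⟨a, ha⟩ := Submodule.mem_span_singleton.1 ((h.comm_ee k.ne e hz 0).1 (h.ee_zero z y ▸ c))
  obtain ⟨b, hb⟩ := Submodule.mem_span_singleton.1
    ((h.comm_ee k.ne' e' hz' 0).1 (h.ee_zero z' y ▸ c'))
  have := (LinearIndependent.pair_iff.1 k.li a b (by rw [ha, hb, h.vadd_self])).1
  rwa [this, zero_smul, ← h.vsub, eq_comm, sub_eq_zero] at ha

theorem Mo.cVSt (h : Mo B) {W : Submodule F M} (hW : TotIso B W) (h3 : 3 ≤ finrank F W)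
    {v : sIsom B} (hv : v ∈ VW B W) (hc : ∀ y ∈ St B W, Commute v y) : v = 1 := lin_ext fun y => by
  have s1 : ∀ z : M, finrank F (F ∙ z) ≤ 1 := fun z => by simpa using finrank_span_le_card {z}
  have a1 := Submodule.finrank_sup_add_finrank_inf_eq W (orth B (F ∙ y))
  have a2 := h.cls.finrank_orth (F ∙ y)
  have a3 := (W ⊔ orth B (F ∙ y)).finrank_le
  have a4 := s1 y
  have ex : ∀ z : M, ∃ z' ∈ W ⊓ orth B (F ∙ y), z' ∉ F ∙ z := fun z =>
    SetLike.not_le_iff_exists.1 fun e => by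
      have := Submodule.finrank_mono e
      have := s1 z
      omega
  obtain ⟨z, hz, z0⟩ := ex 0
  obtain ⟨z', hz', z1⟩ := ex z
  have st : ∀ z ∈ W ⊓ orth B (F ∙ y), B z y = 0 ∧ tE B z y ∈ St B W := fun z hz => by
    have e := h.swap (h.mem_orth1.1 hz.2)
    refine ⟨e, UM.mem_St_of fun x hx => ?_⟩
    rw [h.lin_tE e, hW z hz.1 x hx, zero_smul, add_zero]
    exact add_mem hx (W.smul_mem _ hz.1)
  have f := (h.VW_le_QW hW hv).1
  exact h.V_fix (P2.iff.2 ⟨hW z hz.1 z' hz'.1, fun e => z0 (by simp [e]), z1⟩) (f z hz.1)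
    (f z' hz'.1) (st z hz).1 (st z' hz').1 (hc _ (st z hz).2) (hc _ (st z' hz').2)

theorem Mo.Im_ti (h : Mo B) {v : sIsom B} (e : v * v = 1) : TotIso B (Im v) := by
  rintro _ ⟨x, rfl⟩ _ ⟨y, rfl⟩
  change B (lin v x - x) (lin v y - y) = 0
  simp only [map_sub, LinearMap.sub_apply, lin_isom]
  rw [lin_left, inv_eq_of_mul_eq_one_right e]
  linear_combination (B x y - B x (lin v y)) * h.two

theorem Im_eq_bot {v : sIsom B} : Im v = ⊥ ↔ v = 1 :=
  ⟨fun e => lin_ext fun x => sub_eq_zero.1 (e.le (mem_Im.2 ⟨x, rfl⟩)), by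
    rintro rfl
    exact eq_bot_iff.2 (Im_le.2 (one_mem _))⟩

theorem Mo.Im_T (h : Mo B) {u : M} {c : F} (c0 : c ≠ 0) : Im (tT B u c) = F ∙ u := by
  refine le_antisymm (Im_le.2 (h.tT_mem (Submodule.mem_span_singleton_self u) c))
    ((Submodule.span_singleton_le_iff_mem _ _).2 ?_)
  by_cases u0 : u = 0
  · exact u0 ▸ zero_mem _
  obtain ⟨y, hy⟩ := h.exists_eq u0 c⁻¹
  exact mem_Im.2 ⟨y, by simp [h.lin_tT, hy, c0]⟩

theorem K2.dual2 (h : Mo B) {u w : M} (k : P2 B u w) (a b : F) : ∃ y, B u y = a ∧ B w y = b :=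
  (h.cls.exists_forall_eq' k.li ![a, b]).imp fun _ e => ⟨e 0, e 1⟩

theorem Mo.Im_ee (h : Mo B) {u x : M} (k : P2 B u x) (c : F) : Im (ee B u x c) = l2 F u x := by
  have hu : u ∈ l2 F u x := Submodule.subset_span (by simp)
  refine le_antisymm (Im_le.2 (mul_mem (h.tE_mem k.uw hu (Submodule.subset_span (by simp)))
    (h.tT_mem hu c))) (Submodule.span_le.2 ?_)
  rintro _ (rfl | rfl)
  · obtain ⟨y, h1, h2⟩ := K2.dual2 h k 0 1
    exact mem_Im.2 ⟨y, by simp [h.lin_ee k.uw, h1, h2]⟩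
  · obtain ⟨y, h1, h2⟩ := K2.dual2 h k 1 c
    exact mem_Im.2 ⟨y, by simp [h.lin_ee k.uw, h1, h2, h.add_self]⟩

theorem Mo.Q_inf_V (h : Mo B) {u : M} (u0 : u ≠ 0) {W : Submodule F M} (hW : TotIso B W)
    (hu : u ∈ W) {g : sIsom B} : g ∈ Qu B u ⊓ VW B W ↔ ∃ x ∈ W, ∃ c, g = ee B u x c := by
  refine ⟨fun a => ?_, ?_⟩
  · obtain ⟨x, c, a1, rfl⟩ := (h.mem_Q u0).1 a.1
    obtain ⟨z, hz⟩ := h.exists_eq u0 1
    have := UM.mem_VW.1 a.2 z
    rw [h.lin_ee a1, hz, one_smul, add_assoc, add_sub_cancel_left] at this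
    exact ⟨x, (W.add_mem_iff_left (W.smul_mem _ hu)).1 this, c, rfl⟩
  · rintro ⟨x, hx, c, rfl⟩
    exact ⟨h.ee_mem_Q (hW u hu x hx) c, mul_mem (h.tE_mem (hW u hu x hx) hu hx) (h.tT_mem hu c)⟩

theorem Mo.Q_inf_Q (h : Mo B) {u w : M} (k : P2 B u w) {g : sIsom B} :
    g ∈ Qu B u ⊓ Qu B w ↔ ∃ a : F, g = tE B u (a • w) := by
  refine ⟨fun a => ?_, ?_⟩
  · obtain ⟨x, c, a1, rfl⟩ := (h.mem_Q k.ne).1 a.1
    obtain ⟨z, h1, h2⟩ := K2.dual2 h k 1 0
    obtain ⟨b, hb⟩ := Submodule.mem_span_singleton.1 (a.2.2 z (h.mem_orth1.2 h2))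
    rw [h.lin_ee a1, h1, one_smul, add_assoc, add_sub_cancel_left, mul_one] at hb
    have := congrArg (B · z) hb
    simp only [map_add, map_smul, LinearMap.add_apply, LinearMap.smul_apply, h1, h2, smul_eq_mul]
      at this
    obtain rfl : c = 0 := by linear_combination -this - B x z * h.two
    refine ⟨b, ?_⟩
    rw [hb, h.tE_add_self a1, h.ee_zero]
  · rintro ⟨a, rfl⟩
    have e : B w (a • u) = 0 := by simp [h.swap k.uw]
    refine ⟨h.tE_mem_Q (by simp [k.uw]), ?_⟩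
    rw [← h.tE_smul k.uw, h.tE_comm (h.swap e)]
    exact h.tE_mem_Q e

end Model

end Cfsg.Lib.SP6
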