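import Cfsg.Agent.SP6.Defs
import Cfsg.Agent.UM.A1
import Cfsg.Agent.UM.K2
import Cfsg.Agent.UM.RK
import Cfsg.Agent.UM.DS

/-!
# Standard subgroups of type `Sp_{2k}(2ⁿ)`, `k ≥ 3`: the intermediate structures
-/

set_option autoImplicit false
set_option linter.unusedSectionVars false

noncomputable section

namespace Cfsg.Lib.SP6

open Subgroup Module Cfsg.Lib.Trans Cfsg.Lib.Gold Cfsg.Lib.Class.Form Cfsg.Lib.Class.FAut
open Cfsg.Lib.UM (tT tE VW RR Fx St QW Cf mp Semi fa Mp cx re Ot kk Mx Fr3)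
open Cfsg.Lib.SG2 (Uq Top)
open scoped commutatorElement

section Model

variable {F M : Type*} [Field F] [AddCommGroup M] [Module F M] (B : M →ₗ[F] M →ₗ[F] F)

/-- `P_u`. -/
abbrev Pu (u : M) : Subgroup (sIsom B) := Fx B (F ∙ u)

/-- `Q_u`. -/
abbrev Qu (u : M) : Subgroup (sIsom B) := QW B (F ∙ u)

/-- The line through two points. -/
abbrev l2 (F : Type*) {M : Type*} [Field F] [AddCommGroup M] [Module F M] (u w : M) :
    Submodule F M := Submodule.span F {u, w}

/-- Three pairwise orthogonal independent vectors. -/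
structure P3 (u w x : M) : Prop extends O3 B u w x where
  li : LinearIndependent F ![u, w, x]

variable {B} in
/-- The commutator space `[M, v]`. -/
def Im (v : sIsom B) : Submodule F M := LinearMap.range ((lin v : M →ₗ[F] M) - LinearMap.id)

/-- `(Q_u ∩ Fx ℓ) V_ℓ` for `ℓ = ⟨u, w⟩`. -/
def BV (u w : M) : Subgroup (sIsom B) := (Qu B u ⊓ Fx B (l2 F u w)) ⊔ VW B (l2 F u w)

theorem Im_eq_1' : type_of% @Im.eq_1 := @Im.eq_1
theorem BV_eq_1' : type_of% @BV.eq_1 := @BV.eq_1

variable {B}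

theorem mem_Im {v : sIsom B} {y : M} : y ∈ Im v ↔ ∃ x, lin v x - x = y := Iff.rfl

theorem Im_le {v : sIsom B} {W : Submodule F M} : Im v ≤ W ↔ v ∈ VW B W :=
  ⟨fun h x => h ⟨x, rfl⟩, fun h _ ⟨x, e⟩ => e ▸ h x⟩

end Model

section Hyp

variable {G F M : Type*} [Group G] [Field F] [AddCommGroup M] [Module F M]
  {B : M →ₗ[F] M →ₗ[F] F} (φ : sIsom B →* G) (t : G)

/-- `n` maps `t` to `t e(x, c)` and acts trivially on `Q_u / R_u`. -/
def KK (n : G) (u x : M) (c : F) : Prop :=
  n * t * n⁻¹ = t * φ (ee B u x c) ∧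
    ∀ y, B u y = 0 → ∀ c', ∃ c'', n * φ (ee B u y c') * n⁻¹ = φ (ee B u y c'')

/-- `n` maps `t` to `t e(x, c)` and acts in the standard way on `Q_u`. -/
def KS (κ : F) (n : G) (u x : M) (c : F) : Prop :=
  n * t * n⁻¹ = t * φ (ee B u x c) ∧
    ∀ y, B u y = 0 → ∀ c', n * φ (ee B u y c') * n⁻¹ = φ (ee B u y (c' + κ * B x y))

/-- A long translation. -/
structure LD (d : G) (u : M) : Prop where
  cq : d ∈ Cs ((Qu B u).map φ)
  np : d ∈ Ns ((Pu B u).map φ)
  tr : d * t * d⁻¹ = t * φ (tT B u 1)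

/-- Only the short root elements occur. -/
structure NA : Prop where
  nb : ∀ u, u ≠ 0 → ¬ IsConj t (t * φ (tT B u 1))
  nc : ∀ u w, P2 B u w → ¬ IsConj t (t * φ (tT B u 1 * tT B w 1))

/-- All long translations exist. -/
def AL : Prop := ∀ u, u ≠ 0 → ∃ d, LD φ t d u

/-- After phase 2, the short root elements occurring. -/
structure H2 : Prop extends H1 φ t where
  ha : ∀ u w, P2 B u w → IsConj t (t * φ (tE B u w))
  cas : NA φ t ∨ AL φ t

/-- All short translations exist. -/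
structure H3 (κ : F) : Prop extends H1 φ t where
  cas : (κ = 1 ∧ NA φ t) ∨ AL φ t
  ks : ∀ u x, u ≠ 0 → B u x = 0 → ∃ n, KS φ t κ n u x 0

/-- A short translation. -/
structure SH (κ : F) (h : G) (u w : M) : Prop where
  ku : KS φ t κ h u w 0
  kw : KS φ t κ h w u 0
  cF : h ∈ Cs ((Fx B (l2 F u w)).map φ)
  cO : h ∈ Cs (Ot φ t)
  tw : Comp.Tw h

/-- The good short translations exist. -/
structure H4 (κ : F) : Prop extends H3 φ t κ where
  sh : ∀ u w, P2 B u w → ∃ h, SH φ t κ h u w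

/-- An equivariant family of short translations. -/
structure H5 (κ : F) (H : M → M → G) : Prop extends H3 φ t κ where
  sh : ∀ u w, P2 B u w → SH φ t κ (H u w) u w
  eqv : ∀ g u w, P2 B u w → φ g * H u w * (φ g)⁻¹ = H (lin g u) (lin g w)
  sq : ∀ u w, P2 B u w → H u w * H u w = 1
  add : ∀ u x y, P3 B u x y → H u (x + y) = H u x * H u y
  swap : ∀ u w, P2 B u w → H w u = H u w * φ (tE B u (κ • w))

/-- The family on all pairs of vectors. -/
structure TA (κ : F) (H : M → M → G) : Prop extends H3 φ t κ where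
  junk : ∀ u w, B u w ≠ 0 → H u w = 1
  ht : ∀ u w, B u w = 0 → H u w * t * (H u w)⁻¹ = t * φ (tE B u w)
  sq : ∀ u w, H u w * H u w = 1
  eqv : ∀ g u w, φ g * H u w * (φ g)⁻¹ = H (lin g u) (lin g w)
  cO : ∀ u w, H u w ∈ Cs (Ot φ t)
  add1 : ∀ u x w, O3 B u x w → H (u + x) w = H u w * H x w
  add2 : ∀ u w x, O3 B u w x → H u (w + x) = H u w * H u x
  smul : ∀ (a : F) u w, H (a • u) w = H u (a • w)
  swap : ∀ u w, B u w = 0 → H w u = H u w * φ (tE B u (κ • w))
  self : ∀ (a : F) u, H u (a • u) = φ (tT B u (κ * a))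
  actQ : ∀ u w y, B u w = 0 → B u y = 0 →
    H u w * φ (tE B u y) * (H u w)⁻¹ = φ (ee B u y (κ * B w y))

/-- The additivity defect. -/
def XX (H : M → M → G) (w y y' : M) : G := H w y * H w y' * H w (y + y')

/-- With the commutation relations on totally isotropic subspaces. -/
structure TA2 (κ : F) (H : M → M → G) : Prop extends TA φ t κ H where
  com : ∀ u w x y, O3 B u w x → O3 B u w y → B x y = 0 → Commute (H u w) (H x y)

/-- With the properties of the additivity defect. -/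
structure TA3 (κ : F) (H : M → M → G) : Prop extends TA2 φ t κ H where
  xc : ∀ w y y', B w y = 0 → B w y' = 0 → XX H w y y' ∈ Cs ((Pu B w).map φ)
  xH : ∀ w y y' p, B w y = 0 → B w y' = 0 → Commute (XX H w y y') (H w p)
  comw : ∀ w y y', Commute (H w y) (H w y')

/-- The multiplication rule for `κ = 1`. -/
def MU (H : M → M → G) (b : F) : Prop := ∀ w y y', B w y = 0 → B w y' = 0 →
  H w y * H w y' = H w (y + y') * φ (tT B w (b * B y y'))

/-- A good long translation. -/
structure GD (H : M → M → G) (d : G) (u : M) : Prop where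
  cp : d ∈ Cs ((Pu B u).map φ)
  tr : d * t * d⁻¹ = t * φ (tT B u 1)
  cH : ∀ x, Commute d (H u x)

theorem KK_eq_1' : type_of% @KK.eq_1 := @KK.eq_1
theorem KS_eq_1' : type_of% @KS.eq_1 := @KS.eq_1
theorem AL_eq_1' : type_of% @AL.eq_1 := @AL.eq_1
theorem XX_eq_1' : type_of% @XX.eq_1 := @XX.eq_1
theorem MU_eq_1' : type_of% @MU.eq_1 := @MU.eq_1

end Hyp

end Cfsg.Lib.SP6

end
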