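import Cfsg.Agent.SP6.Defs
import Cfsg.Agent.SP6.Defs2
import Cfsg.Agent.SP6.K1
import Cfsg.Agent.SP6.K4

/-! Automorphisms of `P_u` centralising `Q_u`, step 1. -/

set_option autoImplicit false
set_option linter.unusedSectionVars false

namespace Cfsg.Lib.SP6

open Subgroup Module Cfsg.Lib.Trans Cfsg.Lib.Gold Cfsg.Lib.Class.Form Cfsg.Lib.Class.FAut
open Cfsg.Lib.UM (tT tE VW RR Fx St QW Cf mp Semi fa Mp cx re Ot kk Mx Fr3)
open Cfsg.Lib.SG2 (Uq Top)
open Cfsg.Lib.Comp (Tw)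
open scoped commutatorElement

variable {F M : Type*} [Field F] [Finite F] [AddCommGroup M] [Module F M] [FiniteDimensional F M]
  {B : M →ₗ[F] M →ₗ[F] F}

theorem Mo.ac1 (h : Mo B) {u : M} (u0 : u ≠ 0) (β : Pu B u →* sIsom B)
    (h1 : ∀ p : Pu B u, p.1 ∈ Qu B u → β p = p) (h2 : ∀ p : Pu B u, p.1⁻¹ * β p ∈ Qu B u) :
    ∃ l m : M → F, ∀ y, P2 B u y → ∀ p : Pu B u, p.1 = tT B y 1 →
      β p = tT B (y + l y • u) 1 * tT B u (m y) := by
  have mk : ∀ y, B u y = 0 → tT B y 1 ∈ Pu B u := fun y e => h.tT_mem_Fx (h.mem_orth1.2 e) 1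
  have k1 : ∀ y (e : B u y = 0), ∃ x c, B u x = 0 ∧ β ⟨_, mk y e⟩ = tT B y 1 * ee B u x c :=
    fun y e => by
      obtain ⟨x, c, e1, e2⟩ := (h.mem_Q u0).1 (h2 ⟨_, mk y e⟩)
      exact ⟨x, c, e1, by rw [← e2, mul_inv_cancel_left]⟩
  have k2 : ∀ y x (c : F), B u y = 0 → B u x = 0 →
      ee B u x c * tT B y 1 = tT B y 1 * ee B u (x + B y x • y) c := fun y x c e1 e2 => by
    have := h.ee_conj (tT B y 1) e2 c
    rw [h.lin_tT, h.lin_tT, h.swap e1, mul_zero, zero_smul, add_zero, one_mul,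
      inv_eq_of_mul_eq_one_right (h.tT_sq y 1)] at this
    rw [← this, ← mul_assoc, ← mul_assoc, h.tT_sq, one_mul]
  have key : ∀ y, P2 B u y → ∃ l m : F, ∀ p : Pu B u, p.1 = tT B y 1 →
      β p = tT B (y + l • u) 1 * tT B u m := fun y hy => by
    obtain ⟨x, c, e1, e2⟩ := k1 y hy.uw
    obtain ⟨z₀, z1, z2, z3⟩ := h.out2 hy.uw
    have hx : x ∈ l2 F u y := h.mem_span' (W := l2 F u y) (z₀ := z₀)
      (by rintro _ (rfl | rfl); exacts [z1, z2]) z3 fun z hz hz' => by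
        have uz := hz u (.inl rfl)
        have yz := hz y (.inr rfl)
        obtain ⟨x', c', e1', e2'⟩ := k1 z uz
        have e3 : β ⟨_, mk y hy.uw⟩ * β ⟨_, mk z uz⟩ = β ⟨_, mk z uz⟩ * β ⟨_, mk y hy.uw⟩ := by
          rw [← map_mul, ← map_mul]
          exact congrArg β (Subtype.ext (h.comm_TT yz 1 1).eq)
        have a1 : B u (x + B z x • z) = 0 := by simp [e1, uz]
        have a2 : B u (x' + B y x' • y) = 0 := by simp [e1', hy.uw]
        rw [e2, e2', mul_assoc, ← mul_assoc (ee B u x c), k2 z x c uz e1, mul_assoc (tT B z 1) (ee B u x' c'),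
          ← mul_assoc (ee B u x' c'), k2 y x' c' hy.uw e1', mul_assoc, mul_assoc, ← mul_assoc,
          (h.comm_TT yz 1 1).eq, mul_assoc, mul_right_inj, mul_right_inj, h.ee_mul a1 e1',
          h.ee_mul a2 e1, h.ee_inj u0 (by simp [a1, e1']) (by simp [a2, e1])] at e3
        obtain ⟨a, ha⟩ := Submodule.mem_span_singleton.1 e3.1
        by_contra hc
        refine hz' (Submodule.mem_span_pair.2 ⟨(B z x)⁻¹ * a, (B z x)⁻¹ * B y x', ?_⟩)
        have hc' : B z x ≠ 0 := fun e => hc (h.swap e)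
        rw [mul_smul, mul_smul, ← smul_add, ha, inv_smul_eq_iff₀ hc']
        match_scalars
        · linear_combination h.two
        · ring
        · linear_combination h.two
        · linear_combination B y x' * h.two
    obtain ⟨b, l, rfl⟩ := Submodule.mem_span_pair.1 hx
    refine ⟨l, l * l + c, fun p hp => ?_⟩
    have e4 : B u (l • y) = 0 := by simp [hy.uw]
    rw [show p = ⟨_, mk y hy.uw⟩ from Subtype.ext hp, e2, add_comm (b • u), h.ee_add_self e4,
      h.tT_shift hy.uw, mul_assoc, ← h.ee_zero' u, h.ee_mul e4 (map_zero _), add_zero, map_zero,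
      add_zero, ← add_assoc, h.add_self, zero_add]
  choose! l m hl using key
  exact ⟨l, m, hl⟩

end Cfsg.Lib.SP6
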