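import Cfsg.Agent.SP6.AC1
import Cfsg.Agent.SP6.AC2
import Cfsg.Agent.SP6.K1
import Cfsg.Agent.SP6.K2
import Cfsg.Agent.SP6.K3
import Cfsg.Agent.SP6.K4

/-!
# Standard subgroups of type `Sp_{2k}(2ⁿ)`: automorphisms of `P_u` centralising `Q_u`
-/

set_option autoImplicit false
set_option linter.unusedSectionVars false

namespace Cfsg.Lib.SP6

open Subgroup Module Cfsg.Lib.Trans Cfsg.Lib.Gold Cfsg.Lib.Class.Form Cfsg.Lib.Class.FAut
open Cfsg.Lib.UM (tT tE VW RR Fx St QW Cf mp Semi fa Mp cx re Ot kk Mx Fr3)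
open Cfsg.Lib.SG2 (Uq Top)
open Cfsg.Lib.Comp (Tw)
open scoped commutatorElement

variable {F M : Type*} [Field F] [Finite F] [AddCommGroup M] [Module F M] [FiniteDimensional F M]
  {B : M →ₗ[F] M →ₗ[F] F}

namespace AC3

variable (h : Mo B) {u y : M}
include h

theorem read (k : B u y = 0) (a m : F) :
    tT B (y + a • u) 1 * tT B u m = tT B y 1 * ee B u (a • y) (a * a + m) := by
  rw [h.tT_shift k, ee, ee, h.tT_add u (a * a), mul_assoc, mul_assoc]

theorem coef (k : P2 B u y) {a b c d : F} (e : ee B u (a • y) c = ee B u (b • y) d) :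
    a = b ∧ c = d := by
  have o : ∀ a : F, B u (a • y) = 0 := fun a => by rw [map_smul, k.uw, smul_zero]
  obtain ⟨e1, e2⟩ := (h.ee_inj k.ne (o a) (o b)).1 e
  refine ⟨by_contra fun n => k.not_mem ?_, e2⟩
  rwa [← h.vsub, ← sub_smul, Submodule.smul_mem_iff _ (sub_ne_zero.2 n)] at e1

theorem memP (k : B u y = 0) : tT B y 1 ∈ Pu B u :=
  UM.mem_Fx1.2 (by rw [h.lin_tT, h.swap k, mul_zero, zero_smul, add_zero])

theorem step (β : Pu B u →* sIsom B) {W : Submodule F M} (hW : TotIso B W) (uW : u ∈ W)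
    {p q : Pu B u} {w w' : M} {c c' : F} (hw : w ∈ W ∧ β p = p * ee B u w c) (hy : y ∈ W)
    (hq : q.1 = tT B y 1) (hw' : w' ∈ W ∧ β q = q * ee B u w' c') :
    w + w' ∈ W ∧ β (p * q) = (p * q : Pu B u) * ee B u (w + w') (c + c') := by
  refine ⟨add_mem hw.1 hw'.1, ?_⟩
  have : Commute (ee B u w c) (tT B y 1) := (h.comm_tT one_ne_zero).2 (by
    simp [h.lin_ee (hW u uW w hw.1), hW u uW y hy, hW w hw.1 y hy])
  rw [map_mul, hw.2, hw'.2, coe_mul, hq, mul_assoc, ← mul_assoc (ee B u w c), this.eq, mul_assoc,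
    h.ee_mul (hW u uW w hw.1) (hW u uW w' hw'.1), hW w hw.1 w' hw'.1, add_zero, mul_assoc]

end AC3

open AC3 in
theorem Mo.ac3 (h : Mo B) {u : M} (u0 : u ≠ 0) (β : Pu B u →* sIsom B)
    (h1 : ∀ p : Pu B u, p.1 ∈ Qu B u → β p = p) (h2 : ∀ p : Pu B u, p.1⁻¹ * β p ∈ Qu B u)
    (hx : ∀ (l : M → F) (m : F), (∀ y, P2 B u y → ∀ p : Pu B u, p.1 = tT B y 1 →
        β p = tT B (y + (l y + m) • u) 1 * tT B u (m * m)) →
      (∀ y (a : F), P2 B u y → l (y + a • u) = l y) →
      (∀ y (a : F), P2 B u y → a ≠ 0 → l (a • y) = a * l y) →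
      (∀ y z, P2 B u y → P2 B u z → B y z ≠ 0 →
        l (y + z) * l (y + z) = l y * l y + l z * l z + m * m * B y z) →
      ∀ y z, P3 B u y z → l (y + z) = l y + l z) :
    ∃ (l : M → F) (m : F), l u = 0 ∧ (∀ y (a : F), B u y = 0 → l (a • y) = a * l y) ∧
      (∀ y z, B u y = 0 → B u z = 0 →
        l (y + z) * l (y + z) = l y * l y + l z * l z + m * m * B y z) ∧
      ∀ y, B u y = 0 → ∀ p : Pu B u, p.1 = tT B y 1 →
        β p = tT B (y + (l y + m) • u) 1 * tT B u (m * m) := by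
  classical
  obtain ⟨l, m₀, k⟩ := h.ac1 u0 β h1 h2
  have p2 : ∀ {y}, B u y = 0 → y ∉ F ∙ u → P2 B u y := fun a b => P2.iff.2 ⟨a, u0, b⟩
  have tr : ∀ (p : Pu B u) y (c : F), P2 B u y → lin (β p) y = lin p.1 y + c • u →
      l (lin p.1 y) = c + l y ∧ m₀ (lin p.1 y) = m₀ y := fun p y c ky e => by
    have k' := ky.lin p.1
    rw [UM.mem_Fx1.1 p.2] at k'
    have bu : lin (β p) u = u :=
      UM.mem_Fx1.1 ((mul_mem_cancel_left (inv_mem p.2)).1 (UM.QW_le_Fx (h2 p)))
    have := k _ k' (p * ⟨_, memP h ky.uw⟩ * p⁻¹) (h.tT_conj _ _ _)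
    rw [map_mul, map_mul, map_inv, k y ky ⟨_, memP h ky.uw⟩ rfl, ← conj_mul, h.tT_conj, h.tT_conj, map_add,
      map_smul, bu, e, add_assoc, ← add_smul, read h k'.uw, read h k'.uw, mul_right_inj] at this
    obtain ⟨e1, e2⟩ := coef h k' this
    exact ⟨e1.symm, (add_left_cancel (e1 ▸ e2)).symm⟩
  obtain ⟨y₀, k₀⟩ := h.ext2 u0
  obtain ⟨m, hm⟩ := h.exists_sq (m₀ y₀)
  have mc : ∀ y, P2 B u y → m₀ y = m * m := fun y ky => by
    obtain ⟨g, hg, rfl⟩ := h.trF (h.ti1 u) (h.mem_orth1.2 k₀.uw) k₀.not_mem (h.mem_orth1.2 ky.uw)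
      ky.not_mem
    obtain ⟨c, e⟩ := Submodule.mem_span_singleton.1 ((h2 ⟨g, hg⟩).2 _ (h.mem_orth1.2 k₀.uw))
    refine (tr ⟨g, hg⟩ y₀ c k₀ ?_).2.trans hm.symm
    have := congrArg (lin g) e
    rw [map_smul, UM.mem_Fx1.1 hg, map_sub, ← lin_mul, mul_inv_cancel_left] at this
    rw [this, add_sub_cancel]
  have kk : ∀ y (ky : P2 B u y), β ⟨_, memP h ky.uw⟩ =
      tT B y 1 * ee B u (l y • y) ((l y + m) * (l y + m)) := fun y ky => by
    rw [k y ky _ rfl, read h ky.uw, mc y ky]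
    congr 2
    linear_combination -(l y * m) * h.two
  have a1 : ∀ y (a : F), P2 B u y → l (y + a • u) + m = l y + m := fun y a ky => by
    obtain ⟨x, e1, e2⟩ := h.dual2 u0 ky.not_mem 0 a
    have := (tr ⟨_, UM.QW_le_Fx (h.tE_mem_Q e1)⟩ y 0 ky (by
      rw [h1 _ (h.tE_mem_Q e1), zero_smul, add_zero])).1
    rw [h.lin_tE e1, ky.uw, zero_smul, add_zero, h.symm, e2, zero_add] at this
    rw [this]
  have a2 : ∀ y (a : F), P2 B u y → a ≠ 0 → l (a • y) + m = a * (l y + m) := fun y a ky a0 => by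
    by_cases a1 : 1 + a = 0
    · rw [show a = 1 by linear_combination a1 - h.two, one_smul, one_mul]
    have ka := ky.smul one_ne_zero a0
    have kb := ky.smul one_ne_zero a1
    rw [one_smul] at ka kb
    have yW : y ∈ l2 F u y := Submodule.subset_span (by simp)
    have := (step h β (h.ti2 ky.uw) (Submodule.subset_span (by simp))
      ⟨Submodule.smul_mem _ _ yW, kk y ky⟩ (Submodule.smul_mem _ a yW) rfl
      ⟨Submodule.smul_mem _ _ (Submodule.smul_mem _ a yW), kk _ ka⟩).2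
    have e : (⟨_, memP h ky.uw⟩ * ⟨_, memP h ka.uw⟩ : Pu B u) = ⟨_, memP h kb.uw⟩ :=
      Subtype.ext (by
        change tT B y 1 * tT B (a • y) 1 = tT B ((1 + a) • y) 1
        rw [h.tT_smul, h.tT_smul, ← h.tT_add]
        congr 1
        linear_combination -a * h.two)
    rw [e, kk _ kb, mul_right_inj, smul_smul, smul_smul, ← add_smul] at this
    obtain ⟨e1, e2⟩ := coef h ky this
    have e3 := h.sq_inj (a := l ((1 + a) • y) + m) (b := l y + l (a • y)) (by
      linear_combination e2 + (m * m + m * l y + m * l (a • y) - l y * l (a • y)) * h.two)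
    linear_combination e1 - (1 + a) * e3 + (m - a * l y) * h.two
  have a3 : ∀ y z, P2 B u y → P2 B u z → B y z ≠ 0 → (l (y + z) + m) * (l (y + z) + m) =
      (l y + m) * (l y + m) + (l z + m) * (l z + m) + m * m * B y z := fun y z ky kz n => by
    obtain ⟨r, hr⟩ := h.exists_sq (B y z)
    have r0 : r ≠ 0 := left_ne_zero_of_mul (hr ▸ n)
    obtain ⟨z, rfl⟩ : ∃ z', z = r • z' := ⟨r⁻¹ • z, (smul_inv_smul₀ r0 z).symm⟩
    have kz' := kz.smul one_ne_zero (inv_ne_zero r0)
    rw [one_smul, inv_smul_smul₀ r0] at kz'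
    have e : B z y = r := by
      rw [map_smul, smul_eq_mul, mul_right_inj' r0] at hr
      rw [h.symm, hr]
    have := (tr ⟨_, memP h kz'.uw⟩ y (r * l z) ky (by
      rw [k z kz' _ rfl]
      simp only [lin_mul, h.lin_tT, ky.uw, map_add, map_smul, LinearMap.add_apply,
        LinearMap.smul_apply, e]
      module)).1
    rw [h.lin_tT, e, one_mul] at this
    rw [this, a2 z r kz' r0, ← hr]
    linear_combination (r * l z * (l y + m) - r * r * m * (l z + m)) * h.two
  have a4 := hx (fun y => l y + m) m (fun y ky p hp => by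
    rw [k y ky p hp, mc y ky, add_assoc, h.add_self, add_zero]) a1 a2 a3
  have sh : ∀ y (a : F), B u y = 0 → (if y + a • u ∈ F ∙ u then 0 else l (y + a • u) + m) =
      if y ∈ F ∙ u then 0 else l y + m := fun y a e => by
    rw [Submodule.add_mem_iff_left _ (Submodule.smul_mem _ a (Submodule.mem_span_singleton_self u))]
    split_ifs with c
    exacts [rfl, a1 y a (p2 e c)]
  have sm : ∀ y (a : F), B u y = 0 → (if a • y ∈ F ∙ u then 0 else l (a • y) + m) =
      a * if y ∈ F ∙ u then 0 else l y + m := fun y a e => by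
    by_cases a0 : a = 0
    · simp [a0]
    rw [Submodule.smul_mem_iff _ a0]
    split_ifs with c
    exacts [(mul_zero a).symm, a2 y a (p2 e c) a0]
  refine ⟨fun y => if y ∈ F ∙ u then 0 else l y + m, m,
    if_pos (Submodule.mem_span_singleton_self u), sm, fun y z e e' => ?_, fun y e p hp => ?_⟩
  · by_cases c : y ∈ F ∙ u
    · obtain ⟨a, rfl⟩ := Submodule.mem_span_singleton.1 c
      simp only [add_comm (a • u), sh z a e', if_pos c, map_smul, LinearMap.smul_apply, e']
      simp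
    by_cases c' : z ∈ l2 F u y
    · obtain ⟨a, b, rfl⟩ := Submodule.mem_span_pair.1 c'
      have := sm y (1 + b) e
      rw [← sh _ a (by rw [map_smul, e, smul_zero]), show (1 + b) • y + a • u = y + (a • u + b • y) by
        module] at this
      beta_reduce
      rw [this, add_comm (a • u), sh (b • y) a (by rw [map_smul, e, smul_zero]), sm y b e,
        map_add, map_smul, map_smul, h.alt, h.swap e, smul_zero, smul_zero, if_neg c]
      linear_combination b * (l y + m) * (l y + m) * h.two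
    have cz : z ∉ F ∙ u := fun k => c' (Submodule.span_mono (by simp) k)
    have cs : y + z ∉ F ∙ u := fun k => c' ((Submodule.add_mem_iff_right _
      (Submodule.subset_span (by simp))).1 (Submodule.span_mono (by simp) k))
    simp only [if_neg c, if_neg cz, if_neg cs]
    by_cases n : B y z = 0
    · have := a4 y z (P3.iff.2 ⟨p2 e c, e', n, c'⟩)
      rw [this, n]
      linear_combination ((l y + m) * (l z + m)) * h.two
    · exact a3 y z (p2 e c) (p2 e' cz) n
  · by_cases c : y ∈ F ∙ u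
    · obtain ⟨a, rfl⟩ := Submodule.mem_span_singleton.1 c
      rw [h1 p (by rw [hp, h.tT_smul]; exact h.tT_mem_Q _ _), hp]
      simp only [if_pos c]
      rw [← add_smul, h.tT_smul, h.tT_smul, ← h.tT_add]
      congr 1
      linear_combination -(a * m + m * m) * h.two
    · simp only [if_neg c]
      rw [k y (p2 e c) p hp, mc y (p2 e c), add_assoc, h.add_self, add_zero]

end Cfsg.Lib.SP6
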