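import Cfsg.Agent.SP6.SEM

/-! Affine groups containing the symplectic group contain the translations. -/

set_option autoImplicit false
set_option linter.unusedSectionVars false

namespace Cfsg.Lib.SP6

open Subgroup Module Cfsg.Lib.Trans Cfsg.Lib.Gold Cfsg.Lib.Class.Form Cfsg.Lib.Class.FAut
open Cfsg.Lib.UM (tT tE VW RR Fx St QW Cf mp Semi fa Mp cx re Ot kk Mx Fr3)
open Cfsg.Lib.SG2 (Uq Top)
open Cfsg.Lib.Comp (Tw)
open scoped commutatorElement

variable {F M : Type*} [Field F] [Finite F] [AddCommGroup M] [Module F M] [FiniteDimensional F M]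
  {B : M →ₗ[F] M →ₗ[F] F}

open SEM in
theorem aff {N : Type*} [AddCommGroup N] [Module F N] [FiniteDimensional F N]
    {D : N →ₗ[F] N →ₗ[F] F} (h : Sp2 D) (h4 : 4 ≤ finrank F N) (S : Subgroup (Equiv.Perm N))
    (ha : ∀ g ∈ S, ∀ x y, g (x + y) = g x + g y + g 0)
    (hI : ∀ l : N ≃ₗ[F] N, (∀ x y, D (l x) (l y) = D x y) → ∃ g ∈ S, ∀ x, g x = l x)
    (hs : ∀ a : F, a ≠ 0 → ∃ g ∈ S, ∀ x, g x = a • x)
    (h0 : ∀ g ∈ S, g 0 = 0 → ∃ ρ : F → F, ∀ (a : F) x, g (a • x) = ρ a • g x)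
    (hR : ∀ g ∈ S, ∀ y, D y (g 0) = 0 → ∃ y', ∀ x, g (x + D y' x • y') = g x + D y (g x) • y)
    (hn : ∃ g ∈ S, g 0 ≠ 0) (x₀ : N) : ∃ g ∈ S, ∀ x, g x = x + x₀ := by
  have vv : ∀ x : N, x + x = 0 := fun x => by rw [← two_smul F, h.two, zero_smul]
  have vv' : ∀ x y : N, x + y + y = x := fun x y => by rw [add_assoc, vv, add_zero]
  have cj : ∀ (χ : F → F) (x x' : N), x ≠ 0 → x' ≠ 0 →
      (∃ w ∈ S, ∀ p, w p = p + χ (D x p) • x) → ∃ w ∈ S, ∀ p, w p = p + χ (D x' p) • x' := by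
    rintro χ x x' x0 x0' ⟨w, hw, e⟩
    obtain ⟨l, hl⟩ := h.cls.witt_family (x := ![x]) (y := ![x'])
      (linearIndependent_unique_iff.2 x0) (linearIndependent_unique_iff.2 x0')
      fun i j => by simp [h.alt]
    have hl : (l : N ≃ₗ[F] N) x = x' := hl 0
    obtain ⟨g, hg, e1⟩ := hI l (isom_apply l)
    refine ⟨g * w * g⁻¹, mul_mem (mul_mem hg hw) (inv_mem hg), fun p => ?_⟩
    obtain ⟨q, rfl⟩ := g.surjective p
    simp only [Equiv.Perm.mul_apply, Equiv.Perm.coe_inv, Equiv.symm_apply_apply]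
    rw [e, e1, e1, map_add, map_smul, ← hl, isom_apply]
  suffices H : ∃ b : N, b ≠ 0 ∧ ∃ g ∈ S, ∀ x, g x = x + b by
    obtain ⟨b, b0, g, hg, e⟩ := H
    by_cases x0 : x₀ = 0
    · exact ⟨1, one_mem _, fun x => by simp [x0]⟩
    · simpa using cj (fun _ => 1) b x₀ b0 x0 ⟨g, hg, by simpa using e⟩
  obtain ⟨g, hg, u0⟩ := hn
  obtain ⟨u, hu⟩ : ∃ u, u = g 0 := ⟨_, rfl⟩
  rw [← hu] at u0
  let Λ : N ≃+ N :=
    { toEquiv := g.trans (Equiv.addRight u)
      map_add' := fun x y => by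
        change g (x + y) + u = g x + u + (g y + u)
        rw [ha g hg, ← hu]; abel }
  have eg : ∀ x, g x = Λ x + u := fun x => (vv' _ _).symm
  have mY : ∀ y, y ∈ orth D (F ∙ u) ↔ D u y = 0 := fun y => mem_orth_span_singleton
  have hY : 2 ≤ finrank F (orth D (F ∙ u)) := by
    have := h.cls.finrank_orth (F ∙ u)
    rw [finrank_span_singleton u0] at this
    omega
  obtain ⟨ρ, μ, μ0, k1, k2⟩ := semi_of_T h _ hY Λ.symm fun y hy => by
    have e0 : D y u = 0 := by rw [h.symm, (mY y).1 hy]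
    obtain ⟨y', e⟩ := hR g hg y (hu ▸ e0)
    refine ⟨y', fun x => Λ.symm_apply_eq.2 ?_⟩
    have := e (Λ.symm x)
    rw [eg, eg, Λ.apply_symm_apply, map_add (D y), e0, add_zero, add_right_comm x u,
      add_left_inj] at this
    exact this.symm
  by_cases hF : ∀ a : F, a = 0 ∨ a = 1
  · have k3 : ∀ y, D u y = 0 → ∀ x, D (Λ.symm y) (Λ.symm x) = D y x := fun y hy x => by
      rw [k2 y ((mY y).2 hy), (hF μ).resolve_left μ0, one_mul]
      rcases hF (D y x) with e | e <;> simp [e]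
    obtain ⟨g1, hg1, e⟩ := hI (Λ.symm.toLinearEquiv fun a x => by
        rcases hF a with rfl | rfl <;> simp) fun x y => by
      change D (Λ.symm x) (Λ.symm y) = D x y
      rcases hF (D u x) with e1 | e1
      · exact k3 x e1 y
      rcases hF (D u y) with e2 | e2
      · rw [h.symm, k3 y e2, h.symm]
      · have := k3 (x + y) (by rw [map_add, e1, e2, one_add_one_eq_two, h.two]) y
        simpa [h.alt] using this
    refine ⟨u, u0, g * g1, mul_mem hg hg1, fun x => ?_⟩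
    rw [Equiv.Perm.mul_apply, e, eg]
    exact congrArg (· + u) (Λ.apply_symm_apply x)
  obtain ⟨a, hF⟩ := not_forall.1 hF
  obtain ⟨a0, a1⟩ := not_or.1 hF
  obtain ⟨c, rfl⟩ := ρ.surjective a
  have c0 : c ≠ 0 := fun e => a0 (by rw [e, map_zero])
  have c1 : c ≠ 1 := fun e => a1 (by rw [e, map_one])
  let δ : N → N := fun p => Λ (ρ c • Λ.symm p) + c • p
  have d1 : ∀ p q, δ (p + q) = δ p + δ q := fun p q => by
    simp only [δ, map_add, smul_add]; abel
  have d2 : ∀ y, D u y = 0 → δ y = 0 := fun y hy => by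
    simp only [δ]
    rw [← k1 c y ((mY y).2 hy), Λ.apply_symm_apply, vv]
  have d3 : ∀ p, ∃ s : F, s • u = δ p := fun p => by
    rw [← Submodule.mem_span_singleton, ← h.cls.orth_orth (F ∙ u), mem_orth]
    intro y hy
    have e1 := k2 y hy (Λ (ρ c • Λ.symm p))
    rw [Λ.symm_apply_apply, map_smul, k2 y hy, smul_eq_mul, mul_left_comm, ← map_mul,
      mul_right_inj' μ0] at e1
    simp only [δ, map_add, map_smul, smul_eq_mul, ← ρ.injective e1]
    linear_combination (c * D y p) * h.two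
  choose ψ hψ using d3
  obtain ⟨z, hz⟩ := ex1 h u0 1
  let χ : F → F := fun s => c⁻¹ * ψ (s • z)
  have x1 : ∀ s t, χ (s + t) = χ s + χ t := fun s t => by
    simp only [χ]
    rw [← mul_add, smul_left_injective F u0 (show ψ ((s + t) • z) • u =
      (ψ (s • z) + ψ (t • z)) • u by rw [add_smul (ψ _), hψ, hψ, hψ, add_smul, d1])]
  have x0 : χ 0 = 0 := by simpa using x1 0 0
  have d4 : ∀ p, δ p = (c * χ (D u p)) • u := fun p => by
    simp only [χ]
    rw [mul_inv_cancel_left₀ c0, hψ, ← add_zero (δ (_ • z)), ← d2 (D u p • z + p) (by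
      rw [map_add, map_smul, hz, smul_eq_mul]; linear_combination D u p * h.two), ← d1,
      ← add_assoc, vv, zero_add]
  have W : ∀ x : N, x ≠ 0 → ∃ w ∈ S, ∀ p, w p = p + (1 + c⁻¹ + χ (D x p)) • x := fun x hx => by
    refine cj (fun s => 1 + c⁻¹ + χ s) u x u0 hx ?_
    obtain ⟨s, hs1, e1⟩ := hs _ a0
    obtain ⟨s', hs2, e2⟩ := hs _ (inv_ne_zero c0)
    refine ⟨s' * (g * s * g⁻¹), mul_mem hs2 (mul_mem (mul_mem hg hs1) (inv_mem hg)), fun p => ?_⟩
    have e3 : g⁻¹ p = Λ.symm (p + u) := by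
      rw [Equiv.Perm.inv_eq_iff_eq, eg, Λ.apply_symm_apply, vv']
    have e4 := d4 (p + u)
    simp only [δ] at e4
    simp only [Equiv.Perm.mul_apply]
    rw [e2, e1, e3, eg, ← vv' (Λ _) (c • (p + u)), e4, map_add, h.alt, add_zero]
    match_scalars <;> field_simp
    ring
  obtain ⟨v, hv, hn⟩ := exists_out hY u
  have uv := (mY v).1 hv
  have vu : D v u = 0 := by rw [h.symm, uv]
  obtain ⟨w1, hw1, e1⟩ := W u u0
  obtain ⟨w2, hw2, e2⟩ := W v fun e => hn 0 (by rw [e, zero_smul])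
  obtain ⟨w3, hw3, e3⟩ := W (u + v) fun e => hn (-1) (by
    rw [neg_one_smul, neg_eq_iff_add_eq_zero, e])
  have em : ∀ p, (w3 * w1 * w2) p = p + χ (D v p) • u + χ (D u p) • v := fun p => by
    simp only [Equiv.Perm.mul_apply, e1, e2, e3, map_add, map_smul, LinearMap.add_apply, uv, vu,
      h.alt, smul_zero, add_zero, x1]
    match_scalars
    · ring
    · linear_combination (1 + c⁻¹ + χ (D v p)) * h.two
    · linear_combination (1 + c⁻¹ + χ (D u p)) * h.two
  obtain ⟨r, hr⟩ := h0 _ (mul_mem (mul_mem hw3 hw1) hw2) (by simp [em, x0])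
  have r1 : ∀ s, r s = s := fun s => by
    have := hr s u
    simp only [em, map_smul, vu, h.alt, smul_zero, x0, zero_smul, add_zero] at this
    exact (smul_left_injective F u0 this).symm
  have x2 : ∀ s, χ s = s * χ 1 := fun s => by
    obtain ⟨p, p1, p2⟩ := ex2 h u0 hn 1 0
    have := hr s p
    simp only [em, map_smul, p1, p2, x0, zero_smul, add_zero, r1, smul_eq_mul, mul_one,
      smul_add, smul_smul, mul_zero, add_right_inj] at this
    exact smul_left_injective F (fun e : v = 0 => hn 0 (by rw [e, zero_smul])) this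
  obtain ⟨T, hT, e4⟩ := hI (h.cls.refl u (χ 1) (by simp [h.alt])) (isom_apply _)
  refine ⟨(1 + c⁻¹) • u, smul_ne_zero (fun e => c1 ?_) u0, w1 * T, mul_mem hw1 hT, fun p => ?_⟩
  · rw [← inv_eq_one]; linear_combination e - h.two
  · simp only [Equiv.Perm.mul_apply, e1, e4, Good.refl_apply, map_add, map_smul, h.alt, smul_zero,
      add_zero]
    rw [x2 (D u p)]
    match_scalars
    · ring
    · linear_combination (χ 1 * D u p) * h.two

end Cfsg.Lib.SP6
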