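import Cfsg.Agent.SP6.K1
import Cfsg.Agent.SP6.K3
import Cfsg.Agent.SP6.K4

/-!
# Standard subgroups of type `Sp_{2k}(2ⁿ)`: generation by transvections
-/

set_option autoImplicit false
set_option linter.unusedSectionVars false
set_option linter.unusedVariables false

namespace Cfsg.Lib.SP6

open Subgroup Module Cfsg.Lib.Trans Cfsg.Lib.Gold Cfsg.Lib.Class.Form Cfsg.Lib.Class.FAut
open Cfsg.Lib.UM (tT tE VW RR Fx St QW Cf mp Semi fa Mp cx re Ot kk Mx Fr3)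
open Cfsg.Lib.SG2 (Uq Top)
open Cfsg.Lib.Comp (Tw)
open scoped commutatorElement

section Model
variable {F M : Type*} [Field F] [Finite F] [AddCommGroup M] [Module F M] [FiniteDimensional F M]
  {B : M →ₗ[F] M →ₗ[F] F}

theorem GEN.one (h : Mo B) {W : Submodule F M} {H : Subgroup (sIsom B)}
    (k : ∀ y ∈ orth B W, tT B y 1 ∈ H) {x y : M} (hx : x ∈ orth B W) (hy : y ∈ orth B W)
    (e : B y x ≠ 0) : ∃ g ∈ H, lin g x = y := by
  obtain ⟨a, -, ha⟩ := h.tT_sqrt (x + y) (B y x)⁻¹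
  refine ⟨_, ha ▸ k _ (Submodule.smul_mem _ a (add_mem hx hy)), ?_⟩
  rw [h.lin_tT, map_add, LinearMap.add_apply, h.alt, zero_add, inv_mul_cancel₀ e, one_smul,
    ← add_assoc, h.vadd_self, zero_add]

theorem GEN.orth_mem {W : Submodule F M} {g : sIsom B} (hg : g ∈ Fx B W) {x : M}
    (hx : x ∈ orth B W) : lin g x ∈ orth B W := fun w hw => by
  rw [← hg w hw, lin_isom, hx w hw]

theorem GEN.fx_sup {W : Submodule F M} {g : sIsom B} {x : M} (h1 : g ∈ Fx B W) (h2 : lin g x = x) :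
    g ∈ Fx B (W ⊔ F ∙ x) :=
  have : W ⊔ F ∙ x ≤ LinearMap.eqLocus (lin g : M →ₗ[F] M) LinearMap.id :=
    sup_le (fun w hw => h1 w hw) ((Submodule.span_singleton_le_iff_mem _ _).2 h2)
  fun _ hy => this hy

theorem GEN.step (h : Mo B) {W : Submodule F M} {H : Subgroup (sIsom B)} {x : M}
    (h1 : x ∈ orth B W) (h2 : x ∉ W) (ih : Fx B (W ⊔ F ∙ x) ≤ H)
    (k : ∀ y ∈ orth B W, tT B y 1 ∈ H) : Fx B W ≤ H := by
  intro g hg
  have k' : ∀ y ∈ orth B W, tT B y 1 ∈ H ⊓ Fx B W := fun y hy => ⟨k y hy, h.tT_mem_Fx hy 1⟩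
  have n : lin g x ∉ W := fun e => h2 (by rwa [(lin g).injective (hg _ e)] at e)
  obtain ⟨z, z1, z2, z3⟩ := h.cls.exists_orth_of_notMem₂ h2 n
  have z0 : z ∈ orth B W := fun w hw => h.swap (z1 w hw)
  obtain ⟨a, a1, a2⟩ := GEN.one h k' (GEN.orth_mem hg h1) z0 z3
  obtain ⟨b, b1, b2⟩ := GEN.one h k' z0 h1 fun e => z2 (h.swap e)
  obtain ⟨a0, a1⟩ := mem_inf.1 a1
  obtain ⟨b0, b1⟩ := mem_inf.1 b1
  have f : b * a * g ∈ Fx B W := mul_mem (mul_mem b1 a1) hg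
  have f' : b * a * g ∈ Fx B (W ⊔ F ∙ x) := GEN.fx_sup f (by rw [lin_mul, lin_mul, a2, b2])
  exact (H.mul_mem_cancel_left (H.mul_mem b0 a0)).1 (ih f')

theorem Mo.gen_Fx (h : Mo B) {W : Submodule F M} (hW : TotIso B W) {H : Subgroup (sIsom B)}
    (k : ∀ y ∈ orth B W, tT B y 1 ∈ H) : Fx B W ≤ H :=
  K4.ind h (P := fun W => (∀ y ∈ orth B W, tT B y 1 ∈ H) → Fx B W ≤ H)
    (fun W hW k => (h.Fx_mx hW).trans_le (h.gen_VW hW.ti fun x hx => k x (hW.ti.le_orth hx)))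
    (fun W _ x h1 h2 ih k => GEN.step h h1 h2
      (ih fun y hy => k y fun w hw => hy w (Submodule.mem_sup_left hw)) k) hW k

theorem Mo.gen_T (h : Mo B) {H : Subgroup (sIsom B)} (k : ∀ u, tT B u 1 ∈ H) : H = ⊤ :=
  eq_top_iff.2 fun g _ => h.gen_Fx (W := ⊥) (fun u hu v _ => by simp [(Submodule.mem_bot F).1 hu])
    (fun u _ => k u) fun u hu => by simp [(Submodule.mem_bot F).1 hu]

theorem Mo.hom_ext (h : Mo B) {Γ : Type*} [Group Γ] {φ ψ : sIsom B →* Γ}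
    (k : ∀ u, φ (tT B u 1) = ψ (tT B u 1)) : φ = ψ :=
  MonoidHom.ext fun g => (h.gen_T (H := φ.eqLocus ψ) k).ge (mem_top g)

theorem Mo.perf (h : Mo B) : commutator (sIsom B) = ⊤ := h.gen_T fun u => by
  by_cases u0 : u = 0
  · rw [u0, h.tT_zero']; exact one_mem _
  · exact commutator_mono le_top le_top (h.cert u0 (h.tT_mem_Q u 1))

theorem GEN.fix (h : Mo B) {W V : Submodule F M} {N : Subgroup (sIsom B)} (h1 : IsPGroup 2 N)
    (hW : ∀ g ∈ N, ∀ x ∈ W, lin g x ∈ W) (hV : ∀ g ∈ N, ∀ x ∈ V, lin g x ∈ V) (hn : ¬ V ≤ W) :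
    ∃ x ∈ V, x ∉ W ∧ ∀ g ∈ N, lin g x - x ∈ W := by
  have : Finite M := Module.finite_of_finite F
  have : Fact (Nat.Prime 2) := ⟨Nat.prime_two⟩
  have : Finite (M ⧸ W) := Finite.of_surjective _ W.mkQ_surjective
  let : MulAction N (M ⧸ W) :=
    { smul := fun g => W.mapQ W (lin g.1 : M →ₗ[F] M) (hW g g.2)
      one_smul := fun q => Submodule.Quotient.induction_on W q fun _ => rfl
      mul_smul := fun a b q => Submodule.Quotient.induction_on W q fun _ => rfl }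
  let X : SubMulAction N (M ⧸ W) := ⟨V.map W.mkQ, by
    rintro g _ ⟨x, hx, rfl⟩
    exact ⟨_, hV g g.2 x hx, rfl⟩⟩
  obtain ⟨x, hx, hx0⟩ := SetLike.not_le_iff_exists.1 hn
  have hd : 2 ∣ Nat.card X := by
    have h1 : addOrderOf (⟨W.mkQ x, x, hx, rfl⟩ : V.map W.mkQ) = 2 := addOrderOf_eq_prime
      (Subtype.ext (show 2 • W.mkQ x = 0 by rw [two_nsmul, ← map_add, h.vadd_self, map_zero]))
      fun e => hx0 ((Submodule.Quotient.mk_eq_zero W).1 (congrArg Subtype.val e))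
    exact h1 ▸ addOrderOf_dvd_natCard _
  obtain ⟨⟨_, y, hy, rfl⟩, hv, hv0⟩ := h1.exists_fixed_point_of_prime_dvd_card_of_fixed_point X hd
    (a := ⟨0, zero_mem (V.map W.mkQ)⟩) fun g =>
      Subtype.ext (map_zero (W.mapQ W (lin g.1 : M →ₗ[F] M) (hW g g.2)))
  exact ⟨y, hy, fun e => hv0 (Subtype.ext ((Submodule.Quotient.mk_eq_zero W).2 e).symm),
    fun g hg => (Submodule.Quotient.eq W).1 (congrArg Subtype.val (hv ⟨g, hg⟩))⟩

theorem Mo.O2 (h : Mo B) {W : Submodule F M} (hW : TotIso B W) {N : Subgroup (sIsom B)}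
    (h1 : IsPGroup 2 N) (h2 : N ≤ Fx B W) (h3 : Fx B W ≤ Ns N) : N ≤ QW B W := by
  refine fun g hg => ⟨h2 hg, fun x hx => ?_⟩
  by_cases c : x ∈ W
  · rw [h2 hg x c, sub_self]; exact zero_mem W
  obtain ⟨y, a1, a2, a3⟩ := GEN.fix h h1 (fun g hg x hx => (h2 hg x hx).symm ▸ hx)
    (fun g hg x => GEN.orth_mem (h2 hg)) fun e => c (e hx)
  obtain ⟨s, hs, rfl⟩ := h.trF hW a1 a2 hx c
  have := a3 _ ((mem_normalizer_iff''.1 (h3 hs) g).1 hg)
  rwa [← hs _ this, map_sub, lin_mul, lin_mul, lin_lin_inv] at this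

theorem Mo.sup_VW (h : Mo B) {Y : Submodule F M} (hY : TotIso B Y) {H : Subgroup (sIsom B)}
    (k : ∀ W, Mx B W → Y ≤ W → VW B W ≤ H) : Fx B Y ≤ H := h.gen_Fx hY fun y hy => by
  obtain ⟨W, a, b⟩ := h.le_Mx (K4.ti_sup h hY hy)
  exact k W a (le_sup_left.trans b)
    (h.tT_mem (b (Submodule.mem_sup_right (Submodule.mem_span_singleton_self y))) 1)

end Model

end Cfsg.Lib.SP6
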