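import Cfsg.Agent.SP6.Defs3

/-! Additive maps preserving transvections are semilinear. -/

set_option autoImplicit false
set_option linter.unusedSectionVars false

namespace Cfsg.Lib.SP6

open Subgroup Module Cfsg.Lib.Trans Cfsg.Lib.Gold Cfsg.Lib.Class.Form Cfsg.Lib.Class.FAut
open Cfsg.Lib.UM (tT tE VW RR Fx St QW Cf mp Semi fa Mp cx re Ot kk Mx Fr3)
open Cfsg.Lib.SG2 (Uq Top)
open Cfsg.Lib.Comp (Tw)
open scoped commutatorElement

variable {F M : Type*} [Field F] [Finite F] [AddCommGroup M] [Module F M] [FiniteDimensional F M]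
  {B : M →ₗ[F] M →ₗ[F] F}

namespace SEM

variable {N : Type*} [AddCommGroup N] [Module F N] [FiniteDimensional F N]
  {D : N →ₗ[F] N →ₗ[F] F}

theorem ex1 (h : Sp2 D) {y : N} (y0 : y ≠ 0) (a : F) : ∃ x, D y x = a := by
  obtain ⟨v, hv⟩ := h.cls.exists_ne y0
  exact ⟨(a / D y v) • v, by rw [map_smul, smul_eq_mul, div_mul_cancel₀ _ hv]⟩

theorem ex2 (h : Sp2 D) {y z : N} (y0 : y ≠ 0) (hz : ∀ a : F, a • y ≠ z) (a b : F) :
    ∃ x, D y x = a ∧ D z x = b := by
  obtain ⟨x, hx⟩ := h.cls.exists_forall_eq' ((LinearIndependent.pair_iff' y0).2 hz) ![a, b]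
  exact ⟨x, hx 0, hx 1⟩

theorem exists_out {Y : Submodule F N} (h2 : 2 ≤ finrank F Y) (y : N) :
    ∃ z ∈ Y, ∀ a : F, a • y ≠ z := by
  by_contra hc
  have : Y ≤ F ∙ y := fun z hz => by
    by_contra h1
    exact hc ⟨z, hz, fun a e => h1 (Submodule.mem_span_singleton.2 ⟨a, e⟩)⟩
  have h3 := (Submodule.finrank_mono this).trans (finrank_span_le_card ({y} : Set N))
  simp at h3
  omega

theorem not_smul {y z : N} (y0 : y ≠ 0) (hz : ∀ a : F, a • y ≠ z) : ∀ a : F, a • z ≠ y :=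
  fun a e => by
    by_cases ha : a = 0
    · rw [ha, zero_smul] at e; exact y0 e.symm
    · exact hz a⁻¹ (by rw [← e, inv_smul_smul₀ ha])

end SEM

open SEM in
theorem semi_of_T {N : Type*} [AddCommGroup N] [Module F N] [FiniteDimensional F N]
    {D : N →ₗ[F] N →ₗ[F] F} (h : Sp2 D) (Y : Submodule F N) (h2 : 2 ≤ finrank F Y) (θ : N ≃+ N)
    (k : ∀ y ∈ Y, ∃ y', ∀ x, θ (x + D y x • y) = θ x + D y' (θ x) • y') :
    ∃ (ρ : F ≃+* F) (μ : F), μ ≠ 0 ∧ (∀ (a : F), ∀ y ∈ Y, θ (a • y) = ρ a • θ y) ∧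
      ∀ y ∈ Y, ∀ x, D (θ y) (θ x) = μ * ρ (D y x) := by
  have t0 : ∀ {y : N}, y ≠ 0 → θ y ≠ 0 := fun y0 e => y0 (θ.injective (by rw [e, map_zero]))
  have A : ∀ y ∈ Y, y ≠ 0 → ∃ (r : F → F) (m : F), m ≠ 0 ∧ (∀ a, θ (a • y) = r a • θ y) ∧
      ∀ x, D (θ y) (θ x) = m * r (D y x) := fun y hy y0 => by
    obtain ⟨y', e⟩ := k y hy
    have e1 : ∀ x, θ (D y x • y) = D y' (θ x) • y' := fun x => by
      have := e x
      rwa [map_add, add_right_inj] at this
    obtain ⟨x1, hx1⟩ := ex1 h y0 1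
    have e2 := e1 x1
    rw [hx1, one_smul] at e2
    generalize D y' (θ x1) = s at e2
    have s0 : s ≠ 0 := fun e3 => t0 y0 (by rw [e2, e3, zero_smul])
    have e3 : ∀ a : F, ∃ c : F, θ (a • y) = c • θ y := fun a => by
      obtain ⟨x, rfl⟩ := ex1 h y0 a
      exact ⟨D y' (θ x) * s⁻¹, by rw [e1, e2, smul_smul, inv_mul_cancel_right₀ s0]⟩
    choose r hr using e3
    refine ⟨r, s * s, mul_ne_zero s0 s0, hr, fun x => ?_⟩
    have e4 := (hr _).symm.trans (e1 x)
    have y'0 : y' ≠ 0 := fun e5 => t0 y0 (by rw [e2, e5, smul_zero])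
    rw [e2, smul_smul] at e4
    rw [e2, map_smul, LinearMap.smul_apply, ← smul_left_injective F y'0 e4, smul_eq_mul]
    ring
  choose! r m hm hr hD using A
  have r0 : ∀ y ∈ Y, y ≠ 0 → r y 0 = 0 := fun y hy y0 =>
    smul_left_injective F (t0 y0) (by simpa using (hr y hy y0 0).symm)
  have r1 : ∀ y ∈ Y, y ≠ 0 → r y 1 = 1 := fun y hy y0 =>
    smul_left_injective F (t0 y0) (by simpa using (hr y hy y0 1).symm)
  have li : ∀ y ∈ Y, y ≠ 0 → ∀ z, (∀ a : F, a • y ≠ z) → ∀ c : F, c • θ y ≠ θ z :=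
    fun y hy y0 z hz c e => by
      have : Function.Injective (r y) := fun a b e1 => smul_left_injective F y0 (θ.injective (by
        simp only [hr y hy y0, e1]))
      obtain ⟨a, rfl⟩ := Finite.injective_iff_surjective.1 this c
      exact hz a (θ.injective (by rw [hr y hy y0, e]))
  have half : ∀ y ∈ Y, ∀ z ∈ Y, y ≠ 0 → (∀ a : F, a • y ≠ z) →
      r (y + z) = r y ∧ m (y + z) = m y := fun y hy z hz y0 hn => by
    have z0 : z ≠ 0 := fun e => hn 0 (by rw [e, zero_smul])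
    have yz0 : y + z ≠ 0 := fun e => hn (-1) (by rw [neg_one_smul, neg_eq_iff_add_eq_zero, e])
    have hyz := Y.add_mem hy hz
    refine ⟨funext fun a => ?_, ?_⟩
    · have e := hr _ hyz yz0 a
      rw [smul_add, map_add, map_add, hr y hy y0, hr z hz z0] at e
      exact sub_eq_zero.1 (LinearIndependent.pair_iff.1
        ((LinearIndependent.pair_iff' (t0 y0)).2 (li y hy y0 z hn)) (r (y + z) a - r y a)
        (r (y + z) a - r z a) (by rw [sub_smul, sub_smul, sub_add_sub_comm, e, smul_add, sub_self])).1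
    · obtain ⟨x, e1, e2⟩ := ex2 h y0 hn 1 0
      have e := hD _ hyz yz0 x
      rw [map_add, map_add, map_add, LinearMap.add_apply, LinearMap.add_apply, hD y hy y0,
        hD z hz z0, e1, e2, add_zero, r1 _ hy y0, r1 _ hyz yz0, r0 _ hz z0] at e
      simpa using e.symm
  have same : ∀ y ∈ Y, ∀ z ∈ Y, y ≠ 0 → (∀ a : F, a • y ≠ z) → r z = r y ∧ m z = m y :=
    fun y hy z hz y0 hn => by
      have h1 := half y hy z hz y0 hn
      have h3 := half z hz y hy (fun e => hn 0 (by rw [e, zero_smul])) (not_smul y0 hn)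
      rw [add_comm] at h3
      exact ⟨h3.1.symm.trans h1.1, h3.2.symm.trans h1.2⟩
  obtain ⟨u, hu, u0⟩ := exists_out h2 0
  have u0 : u ≠ 0 := fun e => u0 0 (by rw [e, zero_smul])
  obtain ⟨w, hw, hn⟩ := exists_out h2 u
  have all : ∀ y ∈ Y, y ≠ 0 → r y = r u ∧ m y = m u := fun y hy y0 => by
    by_cases h1 : ∀ a : F, a • u ≠ y
    · exact same u hu y hy u0 h1
    · obtain ⟨a, ha⟩ := not_forall.1 h1
      obtain rfl := not_not.1 ha
      have h3 := same _ hy w hw y0 fun b e => hn (b * a) (by rw [← e, smul_smul])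
      have h4 := same u hu w hw u0 hn
      exact ⟨h3.1.symm.trans h4.1, h3.2.symm.trans h4.2⟩
  have hs : ∀ (a : F), ∀ y ∈ Y, θ (a • y) = r u a • θ y := fun a y hy => by
    by_cases y0 : y = 0
    · simp [y0]
    · rw [hr y hy y0, (all y hy y0).1]
  let ρ : F →+* F :=
    { toFun := r u
      map_one' := r1 u hu u0
      map_zero' := r0 u hu u0
      map_mul' := fun a b => smul_left_injective F (t0 u0) (by
        simp only [← hs _ u hu, mul_smul, ← hs a _ (Y.smul_mem b hu)])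
      map_add' := fun a b => smul_left_injective F (t0 u0) (by
        simp only [← hs _ u hu, add_smul, map_add]) }
  refine ⟨RingEquiv.ofBijective ρ (Finite.injective_iff_bijective.1 ρ.injective), m u,
    hm u hu u0, hs, fun y hy x => ?_⟩
  change _ = m u * r u _
  by_cases y0 : y = 0
  · simp [y0, r0 u hu u0]
  · rw [hD y hy y0, (all y hy y0).1, (all y hy y0).2]

end Cfsg.Lib.SP6
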