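import Cfsg.Agent.SP6.A1
import Cfsg.Agent.SP6.AP0
import Cfsg.Agent.SP6.K1
import Cfsg.Agent.SP6.K4
import Cfsg.Agent.SP6.KIT
import Cfsg.Agent.SP6.SEM

/-!
# Standard subgroups of type `Sp_{2k}(2ⁿ)`: automorphisms of the parabolic subgroup
-/

set_option autoImplicit false
set_option linter.unusedSectionVars false

namespace Cfsg.Lib.SP6

open Subgroup Module Cfsg.Lib.Trans Cfsg.Lib.Gold Cfsg.Lib.Class.Form Cfsg.Lib.Class.FAut
open Cfsg.Lib.UM (tT tE VW RR Fx St QW Cf mp Semi fa Mp cx re Ot kk Mx Fr3)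
open Cfsg.Lib.SG2 (Uq Top)
open Cfsg.Lib.Comp (Tw)
open scoped commutatorElement

variable {F M : Type*} [Field F] [Finite F] [AddCommGroup M] [Module F M] [FiniteDimensional F M]
  {B : M →ₗ[F] M →ₗ[F] F}

namespace AP

variable (h : Mo B) {u z : M} (e : B u z = 1)
include h e

theorem ne : u ≠ 0 := fun k => by simp [k] at e

theorem exP (x : M) (k : B u x = 0) : ∃ (w : hypU B u z) (a : F), x = w + a • u :=
  ⟨⟨_, h.cls.hproj_mem (h.alt u) (h.alt z) e x⟩, -B z x, by simp [hproj_apply, k]⟩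

theorem exE {g : sIsom B} (hg : g ∈ Qu B u) : ∃ (x : hypU B u z) (c : F), g = ee B u x c := by
  obtain ⟨x, c, k, rfl⟩ := (h.mem_Q (ne h e)).1 hg
  obtain ⟨w, a, rfl⟩ := exP h e x k
  exact ⟨w, c, h.ee_add_self (mem_hypU.1 w.2).1 a c⟩

theorem uq {x y : hypU B u z} {c d : F} (k : ee B u x c = ee B u y d) : x = y := by
  obtain ⟨a, ha⟩ := Submodule.mem_span_singleton.1
    ((h.ee_inj (ne h e) (mem_hypU.1 x.2).1 (mem_hypU.1 y.2).1).1 k).1
  have := congrArg (B z) ha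
  rw [map_smul, map_add, (mem_hypU.1 x.2).2, (mem_hypU.1 y.2).2, h.symm, e, smul_eq_mul, mul_one,
    add_zero] at this
  rw [this, zero_smul, ← h.vsub] at ha
  exact Subtype.ext (sub_eq_zero.1 ha.symm)

omit e in
theorem exq (x : hypU B u z) (c : F) : ∃ p : Pu B u, p.1 = ee B u x c :=
  ⟨⟨_, UM.QW_le_Fx (h.ee_mem_Q (mem_hypU.1 x.2).1 c)⟩, rfl⟩

theorem ex0 (β : MulAut (Pu B u)) : ∃ Φ : hypU B u z → hypU B u z,
    ∀ (p : Pu B u) (x : hypU B u z) c, p.1 = ee B u x c → ∃ d, (β p).1 = ee B u (Φ x) d := by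
  refine (Classical.skolem (p := fun (x y : hypU B u z) => ∀ (p : Pu B u) c, p.1 = ee B u x c →
    ∃ d, (β p).1 = ee B u y d)).1 (fun x => ?_) |>.imp fun Φ k p x => k x p
  obtain ⟨q, hq⟩ := exq h x 0
  obtain ⟨y, d, k⟩ := exE h e ((h.ap_Q (ne h e) β q).1.2 (hq ▸ h.ee_mem_Q (mem_hypU.1 x.2).1 0))
  refine ⟨y, fun p c hp => ?_⟩
  obtain ⟨c', k'⟩ := h.mem_RR.1 ((h.ap_Q (ne h e) β ⟨_, UM.QW_le_Fx (h.tT_mem_Q u c)⟩).2.2
    (h.mem_RR.2 ⟨c, rfl⟩))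
  obtain rfl : p = q * ⟨_, UM.QW_le_Fx (h.tT_mem_Q u c)⟩ :=
    Subtype.ext (by rw [hp, coe_mul, hq, h.ee_zero, ee])
  exact ⟨d + c', by rw [map_mul, coe_mul, k, k', ee, ee, h.tT_add, mul_assoc]⟩

theorem exΦ (β : MulAut (Pu B u)) : ∃ Φ : hypU B u z ≃+ hypU B u z,
    ∀ (p : Pu B u) (x : hypU B u z) c, p.1 = ee B u x c → ∃ d, (β p).1 = ee B u (Φ x) d := by
  obtain ⟨Φ, hΦ⟩ := ex0 h e β
  obtain ⟨Ψ, hΨ⟩ := ex0 h e β.symm
  suffices H : (∀ w, Ψ (Φ w) = w) ∧ (∀ w, Φ (Ψ w) = w) ∧ ∀ w w', Φ (w + w') = Φ w + Φ w' from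
    ⟨⟨⟨Φ, Ψ, H.1, H.2.1⟩, H.2.2⟩, hΦ⟩
  refine ⟨fun w => ?_, fun w => ?_, fun w w' => ?_⟩
  · obtain ⟨q, k⟩ := exq h w 0
    obtain ⟨b1, k1⟩ := hΦ _ _ _ k
    obtain ⟨b2, k2⟩ := hΨ _ _ _ k1
    rw [MulEquiv.symm_apply_apply] at k2
    exact uq h e (k2.symm.trans k)
  · obtain ⟨q, k⟩ := exq h w 0
    obtain ⟨b1, k1⟩ := hΨ _ _ _ k
    obtain ⟨b2, k2⟩ := hΦ _ _ _ k1
    rw [MulEquiv.apply_symm_apply] at k2
    exact uq h e (k2.symm.trans k)
  · obtain ⟨q, k⟩ := exq h w 0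
    obtain ⟨q', k'⟩ := exq h w' 0
    obtain ⟨b1, k1⟩ := hΦ _ _ _ k
    obtain ⟨b2, k2⟩ := hΦ _ _ _ k'
    obtain ⟨b3, k3⟩ := hΦ (q * q') (w + w') _ (by
      rw [coe_mul, k, k', h.ee_mul (mem_hypU.1 w.2).1 (mem_hypU.1 w'.2).1]; rfl)
    rw [map_mul, coe_mul, k1, k2, h.ee_mul (mem_hypU.1 (Φ w).2).1 (mem_hypU.1 (Φ w').2).1] at k3
    exact (uq h e (x := Φ w + Φ w') k3).symm

theorem exΓ {Φ : hypU B u z ≃+ hypU B u z} {τ : F ≃+* F} (hτ : ∀ a w, Φ (a • w) = τ a • Φ w)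
    {x : F} (x0 : x ≠ 0) (hκ : ∀ v w : hypU B u z, B (Φ v) (Φ w) = x * x * τ (B v w)) :
    ∃ (α : MulAut (sIsom B)) (Γ : M ≃+ M), Semi α Γ τ ∧ Γ u = x • u ∧
      ∀ w : hypU B u z, Γ w = x⁻¹ • (Φ w : M) := by
  let pr : M →ₗ[F] hypU B u z :=
    (hproj B (-1) u z).codRestrict _ (h.cls.hproj_mem (h.alt u) (h.alt z) e)
  have hpr : ∀ m, m = -B z m • u + pr m + B u m • z := fun m => by
    change m = -B z m • u + hproj B (-1) u z m + B u m • z
    rw [hproj_apply, neg_one_mul]; abel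
  have uw : ∀ w : hypU B u z, B u w = 0 := fun w => (mem_hypU.1 w.2).1
  have zw : ∀ w : hypU B u z, B z w = 0 := fun w => (mem_hypU.1 w.2).2
  have wu : ∀ w : hypU B u z, B w u = 0 := fun w => h.swap (uw w)
  have wz : ∀ w : hypU B u z, B w z = 0 := fun w => h.swap (zw w)
  have e' : B z u = 1 := (h.symm _ _).trans e
  let Γ0 : M →+ M := AddMonoidHom.mk'
    (fun m => (τ (B z m) * x) • u + x⁻¹ • (Φ (pr m) : M) + (τ (B u m) * x⁻¹) • z)
    fun m m' => by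
      simp only [map_add, Submodule.coe_add]
      module
  have hΓ : ∀ m, Γ0 m =
    (τ (B z m) * x) • u + x⁻¹ • (Φ (pr m) : M) + (τ (B u m) * x⁻¹) • z := fun _ => rfl
  have h1 : ∀ a m, Γ0 (a • m) = τ a • Γ0 m := fun a m => by
    simp only [hΓ, map_smul, smul_eq_mul, map_mul, hτ, Submodule.coe_smul]
    module
  have h2 : ∀ m m', B (Γ0 m) (Γ0 m') = τ (B m m') := fun m m' => by
    have e1 : B m m' = B z m * B u m' + B (pr m) (pr m') + B u m * B z m' := by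
      conv_lhs => rw [hpr m]
      have e2 : B (pr m) m' = B (pr m) (pr m') := by
        conv_lhs => rw [hpr m']
        simp [wu, wz]
      simp only [map_add, map_smul, LinearMap.add_apply, LinearMap.smul_apply, smul_eq_mul, e2]
      linear_combination -(B z m * B u m') * h.two
    rw [e1]
    simp only [hΓ, map_add, map_smul, LinearMap.add_apply, LinearMap.smul_apply, smul_eq_mul,
      h.alt, e, e', uw, zw, wu, wz, hκ, map_mul]
    field_simp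
    ring
  have : Finite M := Module.finite_of_finite F
  have inj : Function.Injective Γ0 := (injective_iff_map_eq_zero _).2 fun m hm => by
    by_contra m0
    obtain ⟨v, hv⟩ := h.exists_eq m0 1
    have := h2 m v
    rw [hm, hv] at this
    simp at this
  obtain ⟨α, hα⟩ := h.of_semi (AddEquiv.ofBijective Γ0 (Finite.injective_iff_bijective.1 inj)) τ h1 h2
  refine ⟨α, _, hα, ?_, fun w => ?_⟩
  · have : pr u = 0 := Subtype.ext (by
      change hproj B (-1) u z u = 0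
      simp only [hproj_apply, h.alt, e', zero_smul, sub_zero, mul_one, neg_smul, one_smul,
        sub_neg_eq_add, h.vadd_self])
    change Γ0 u = _
    simp [hΓ, this, h.alt, e']
  · have : pr w = w := Subtype.ext (hproj_of_mem w.2)
    change Γ0 w = _
    simp [hΓ, this, uw, zw]

end AP

open AP in
theorem Mo.ap1 (h : Mo B) {u : M} (u0 : u ≠ 0) (β : MulAut (Pu B u)) :
    ∃ α : MulAut (sIsom B), mp α (Pu B u) = Pu B u ∧
      ∀ p : Pu B u, p.1 ∈ Qu B u → (β p).1 = α p := by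
  obtain ⟨z, e⟩ := h.exists_eq u0 1
  obtain ⟨Φ, hΦ⟩ := exΦ h e β
  have uw : ∀ w : hypU B u z, B u w = 0 := fun w => (mem_hypU.1 w.2).1
  have cj : ∀ y, B u y = 0 → ∀ (w : hypU B u z) c, tT B y 1 * ee B u w c * (tT B y 1)⁻¹ =
      ee B u (w + B y w • y) c := fun y hy w c => by
    rw [h.ee_conj _ (uw w), h.lin_tT, h.lin_tT, h.swap hy, mul_zero, zero_smul, add_zero, one_mul]
  obtain ⟨τ, μ, μ0, hτ, hκ⟩ := semi_of_T (D := restr B (hypU B u z))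
    ⟨h.cls.restrict (h.cls.nondegOn_hypU (h.alt u) (h.alt z) e), fun _ => rfl, fun x => h.alt _,
      h.two⟩ ⊤ (by
      have := h.cls.finrank_hypU (h.alt u) e
      have := h.six
      rw [finrank_top]
      omega) Φ fun y _ => by
    have m : tT B y 1 ∈ Pu B u := UM.mem_Fx1.2 (by
      rw [h.lin_tT, h.swap (uw y), mul_zero, zero_smul, add_zero])
    obtain ⟨y', k, k'⟩ := h.ap_T u0 β ⟨_, m⟩ rfl (uw y)
    obtain ⟨w, a, rfl⟩ := exP h e y' k
    refine ⟨w, fun x => ?_⟩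
    obtain ⟨q, hq⟩ := exq h x 0
    obtain ⟨d, hd⟩ := hΦ q _ _ hq
    obtain ⟨d', hd'⟩ := hΦ (⟨_, m⟩ * q * ⟨_, m⟩⁻¹) (x + B y x • y) 0 (hq ▸ cj _ (uw y) x 0 :)
    rw [map_mul, map_mul, map_inv, coe_mul, coe_mul, coe_inv, hd, k' _ (h.ee_mem_Q (uw _) d),
      cj _ k, map_add, LinearMap.add_apply, map_smul, LinearMap.smul_apply, uw, smul_zero, add_zero,
      smul_add, smul_smul, ← add_assoc,
      h.ee_add_self (by rw [map_add, map_smul, uw, uw, smul_zero, add_zero])] at hd'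
    exact (uq h e (x := Φ x + B w (Φ x) • w) hd').symm
  obtain ⟨x, rfl⟩ := h.exists_sq μ
  have x0 : x ≠ 0 := left_ne_zero_of_mul μ0
  obtain ⟨α, Γ, hα, e1, e2⟩ := exΓ h e (fun a w => hτ a w trivial) x0 fun v w => hκ v trivial w
  have ea : ∀ (w : hypU B u z) c, α (ee B u w c) = ee B u (Φ w) (x * x * τ c) := fun w c => by
    rw [h.semi_ee hα (uw w), e1, e2, h.ee_smul (by rw [map_smul, uw, smul_zero]), smul_smul,
      mul_inv_cancel₀ x0, one_smul]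
  have hP : ∀ g, α g ∈ Pu B u ↔ g ∈ Pu B u := fun g => by
    rw [UM.mem_Fx1, UM.mem_Fx1, ← Γ.injective.eq_iff (a := lin g u), ← hα.conj, e1, map_smul,
      (smul_right_injective M x0).eq_iff]
  refine ⟨α, le_antisymm (by rintro _ ⟨g, hg, rfl⟩; exact (hP g).2 hg) fun g hg =>
    ⟨α.symm g, (hP _).1 (by rwa [α.apply_symm_apply]), α.apply_symm_apply g⟩, fun p hp => ?_⟩
  refine α.symm_apply_eq.1 (h.ap0 u0 (α.symm.toMonoidHom.comp ((Pu B u).subtype.comp β.toMonoidHom))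
    (fun p => (hP _).1 (by simp)) (fun p hp => ?_) p hp)
  obtain ⟨w, c, k⟩ := exE h e hp
  obtain ⟨d, hd⟩ := hΦ p w c k
  refine ⟨c + τ.symm ((x * x)⁻¹ * d), α.symm_apply_eq.2 (hd.trans ?_)⟩
  rw [k, ee.eq_1 B u w, mul_assoc, ← h.tT_add, ← add_assoc, h.add_self, zero_add, ← ee, ea,
    τ.apply_symm_apply, mul_inv_cancel_left₀ μ0]

end Cfsg.Lib.SP6
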