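import Cfsg.Agent.SP6.A2
import Cfsg.Agent.SP6.K1
import Cfsg.Agent.SP6.K3
import Cfsg.Agent.SP6.K4
import Cfsg.Agent.SP6.KIT

/-!
# Standard subgroups of type `Sp_{2k}(2ⁿ)`, `k ≥ 3`: the centraliser of `t`
-/

set_option autoImplicit false
set_option linter.unusedSectionVars false

namespace Cfsg.Lib.SP6

open Subgroup Module Cfsg.Lib.Trans Cfsg.Lib.Gold Cfsg.Lib.Class.Form Cfsg.Lib.Class.FAut
open Cfsg.Lib.UM (tT tE VW RR Fx St QW Cf mp Semi fa Mp cx re Ot kk Mx Fr3)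
open Cfsg.Lib.SG2 (Uq Top)
open Cfsg.Lib.Comp (Tw)
open scoped commutatorElement

variable {G F M : Type*} [Group G] [Finite G] [Field F] [Finite F] [AddCommGroup M] [Module F M]
  [FiniteDimensional F M] {B : M →ₗ[F] M →ₗ[F] F} {φ φ' : sIsom B →* G} {t : G}

namespace P1a

theorem split (h : H1 φ t) {l : sIsom B} {o : G} (ho : o ∈ Ot φ t) (e : φ l * o = 1) :
    l = 1 ∧ o = 1 := by
  have k : o = 1 := h.toHyp.Ot_AA ho (h.toHyp.mem_AA.2
    ⟨l⁻¹, mem_top _, .inl (by rw [map_inv]; exact eq_inv_of_mul_eq_one_right e)⟩)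
  rw [k, mul_one] at e
  exact ⟨h.inj (e.trans (map_one φ).symm), k⟩

theorem odd {y o : G} (y2 : y * y = 1) (ho : o ∈ Ot φ t) (c : Commute y o)
    (k : Odd (orderOf (y * o))) : y = 1 := by
  have e := pow_orderOf_eq_one (y * o)
  obtain ⟨j, hj⟩ := k
  rw [hj, c.mul_pow, pow_succ, pow_mul, pow_two, y2, one_pow, one_mul] at e
  exact Ot_sq (eq_inv_of_mul_eq_one_left e ▸ inv_mem (pow_mem ho _)) y2

theorem Ot_t {o : G} (ho : o ∈ Ot φ t) : Commute o t := mem_C1.1 (Ot_le ho).1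

theorem tv_sq (h : H1 φ t) {v : sIsom B} (v2 : v * v = 1) : t * φ v * (t * φ v) = 1 := by
  rw [(h.tc v).symm.mul_mul_mul_comm, h.t2, ← map_mul, v2, map_one, one_mul]

theorem Ns_Q {u : M} {g : sIsom B} (e : lin g u = u) : φ g ∈ Ns ((Qu B u).map φ) :=
  Comp.mem_Ns_of (by
    rintro _ ⟨v, hv, rfl⟩
    exact ⟨g * v * g⁻¹, (mem_normalizer_iff.1
      (UM.St_le_Ns (UM.Fx_le_St (UM.mem_Fx1.2 e))).1.2 v).1 hv, by simp⟩)

end P1a

open P1a

theorem H1.comm_le (h : H1 φ t) : ⁅C1 t, C1 t⁆ ≤ φ.range ⊔ Ot φ t := by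
  obtain ⟨ρ, hρ⟩ := h.toMod.exists_ind
  let θ : C1 t →* (F ≃+* F) := MonoidHom.mk' (fun c => fa (ρ (inclusion h.cn c))) fun a b => by
    rw [map_mul, map_mul, h.toMo.fa_mul]
  have hN : φ.range ⊔ Ot φ t ≤ C1 t := sup_le h.toHyp.L_le (Ot_le.trans inf_le_left)
  haveI : ((φ.range ⊔ Ot φ t).subgroupOf (C1 t)).Normal :=
    (normal_subgroupOf_iff_le_normalizer hN).2 (le_Ns_sup h.cn h.toHyp.Ns_Ot)
  let q := QuotientGroup.mk' ((φ.range ⊔ Ot φ t).subgroupOf (C1 t))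
  have q1 : ∀ c : C1 t, q c = 1 ↔ c.1 ∈ φ.range ⊔ Ot φ t := fun c => QuotientGroup.eq_one_iff c
  have ker : ∀ c : C1 t, θ c = 1 → ∀ d : C1 t, Commute (q c) (q d) := fun c e d => by
    obtain ⟨l, hl⟩ := h.toMo.inner e
    have k := hρ (inclusion h.cn c)
    rw [hl] at k
    obtain ⟨o, ho, e'⟩ := h.dec' (mem_C1.1 c.2) k
    have m : φ l * o ∈ φ.range ⊔ Ot φ t := mul_mem_sup ⟨l, rfl⟩ ho
    rcases e' with e' | e'
    · rw [(q1 c).2 (e' ▸ m)]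
      exact Commute.one_left _
    · have : c = ⟨t, mem_C1.2 rfl⟩ * ⟨_, hN m⟩ := Subtype.ext (e'.trans (mul_assoc _ _ _))
      rw [this, map_mul, (q1 ⟨_, hN m⟩).2 m, mul_one]
      exact Commute.map (Subtype.ext (mem_C1.1 d.2).symm) q
  obtain ⟨⟨_, c0, rfl⟩, hc⟩ := (aut_cyc θ.range).exists_generator
  have dec : ∀ c : C1 t, ∃ (i : ℤ) (k : C1 t), θ k = 1 ∧ c = c0 ^ i * k := fun c => by
    obtain ⟨i, hi⟩ := hc ⟨θ c, c, rfl⟩
    have hi' : θ c0 ^ i = θ c := congrArg Subtype.val hi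
    exact ⟨i, (c0 ^ i)⁻¹ * c, by rw [map_mul, map_inv, map_zpow, hi', inv_mul_cancel],
      (mul_inv_cancel_left _ _).symm⟩
  refine commutator_le.2 fun a ha b hb => (q1 ⁅(⟨a, ha⟩ : C1 t), (⟨b, hb⟩ : C1 t)⁆).1 ?_
  obtain ⟨i, k, hk, e⟩ := dec ⟨a, ha⟩
  obtain ⟨j, k', hk', e'⟩ := dec ⟨b, hb⟩
  rw [map_commutatorElement, commutatorElement_eq_one_iff_commute, e, e']
  refine Commute.symm ?_
  rw [map_mul q (c0 ^ i)]
  refine Commute.mul_right ?_ (ker k hk _).symm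
  rw [map_mul]
  exact (((Commute.refl c0).zpow_zpow j i).map q).mul_left (ker k' hk' _)

theorem H1.comm_two (h : H1 φ t) {x : G} (hx : x ∈ ⁅C1 t, C1 t⁆) (h2 : x * x = 1) :
    x ∈ φ.range := by
  obtain ⟨_, ⟨l, rfl⟩, o, ho, rfl⟩ := (SG2.mem_sup_Cs L_le_Cs_Ot).1 (h.comm_le hx)
  rw [(Ot_comm ho l).symm.symm.mul_mul_mul_comm, ← map_mul] at h2
  rw [Ot_sq ho (split h (mul_mem ho ho) h2).2, mul_one]
  exact ⟨l, rfl⟩

theorem H1.nQ (h : H1 φ t) {u : M} (u0 : u ≠ 0) {v : sIsom B} (hv : v ∈ Qu B u) :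
    ¬ IsConj t (φ v) := fun e => by
  obtain ⟨g, hg⟩ := isConj_iff.1 e
  have k : (C1 v ⊓ Pu B u).map φ ≤ C1 (g * t * g⁻¹) := by
    rintro _ ⟨a, ha, rfl⟩
    rw [hg, mem_C1, ← map_mul, mem_C1.1 ha.1, map_mul]
  have m := mem_map_of_mem φ (h.toMo.cert u0 hv)
  rw [map_commutator, ← hg] at m
  exact (h.cx g).toHyp.t_not ((h.cx g).comm_two (commutator_mono k k m) (h.cx g).t2)

theorem H1.cK (h : H1 φ t) {u : M} (u0 : u ≠ 0) {c : G} (k : KK φ t c u 0 0) :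
    ∃ v ∈ Qu B u, ∃ o ∈ Ot φ t, c = φ v * o ∨ c = t * φ v * o := by
  have ct : Commute c t := by
    have := k.1
    rw [h.toMo.ee_zero', h.toMo.tT_zero, map_one, mul_one] at this
    exact mul_inv_eq_iff_eq_mul.1 this
  obtain ⟨α, hα⟩ := h.toMod.ind (h.cn (mem_C1.2 ct))
  obtain ⟨v, hv, rfl⟩ := h.toMo.cQ u0 (α := α) fun y c hy => by
    obtain ⟨d, e⟩ := k.2 y hy c
    exact ⟨d, h.inj ((hα _).symm.trans e)⟩
  exact ⟨v, hv, h.dec' ct hα⟩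

theorem H1.cQ (h : H1 φ t) {u : M} (u0 : u ≠ 0) {c : G} (h1 : Commute c t)
    (h2 : c ∈ Cs ((Qu B u).map φ)) :
    ∃ v ∈ Qu B u, ∃ o ∈ Ot φ t, c = φ v * o ∨ c = t * φ v * o :=
  h.cK u0 ⟨by rw [h.toMo.ee_zero', h.toMo.tT_zero, map_one, mul_one, h1.eq, mul_inv_cancel_right],
    fun y hy d => ⟨d, by
      rw [← mem_Cs.1 h2 _ (mem_map_of_mem φ (h.toMo.ee_mem_Q hy d)), mul_inv_cancel_right]⟩⟩

theorem H1.cF (h : H1 φ t) {W : Submodule F M} (hW : TotIso B W) {c : G} (h1 : Commute c t)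
    (h2 : c ∈ Cs ((Fx B W).map φ)) :
    ∃ v ∈ VW B W, ∃ o ∈ Ot φ t, c = φ v * o ∨ c = t * φ v * o := by
  obtain ⟨α, hα⟩ := h.toMod.ind (h.cn (mem_C1.2 h1))
  have ne : orth B W ≠ ⊥ := fun e => by
    obtain ⟨u, u0⟩ := h.toMo.exists_ne
    have a : u ∈ W := by
      rw [← h.toMo.orth_orth W, e]
      intro x hx
      rw [(Submodule.mem_bot F).1 hx, map_zero, LinearMap.zero_apply]
    have b : u ∈ orth B W := fun x hx => hW x hx u a
    exact u0 ((Submodule.mem_bot F).1 (e ▸ b))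
  obtain ⟨v, hv, rfl⟩ := h.toMo.cT ne (α := α) fun y hy => (h.toMod.mp_fix hα).1
    (mem_Cs.1 h2 _ (mem_map_of_mem φ (h.toMo.tT_mem_Fx hy 1))).symm
  exact ⟨v, hv, h.dec' h1 hα⟩

theorem H1.nO (h : H1 φ t) {W : Submodule F M} (hW : TotIso B W) {n : G}
    (h1 : n ∈ Cs ((Fx B W).map φ)) {v : sIsom B} (hv : v ∈ VW B W) (h2 : n * t * n⁻¹ = t * φ v) :
    n ∈ Ns (Ot φ t) := by
  refine Comp.mem_Ns_of fun o ho => ?_
  have nv : Commute (φ v) n := mem_Cs.1 h1 _ (mem_map_of_mem φ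
    (h.toMo.VW_le_Fx (fun u a x hx => hW x hx u a) hv))
  have e : t = n * (t * (φ v)⁻¹) * n⁻¹ := by
    rw [← mul_assoc, mul_assoc _ _ n⁻¹, nv.inv_inv.eq, ← mul_assoc, h2, mul_inv_cancel_right]
  have zt : Commute (n * o * n⁻¹) t := by
    have := ((Ot_t ho).mul_right (Ot_comm ho v).inv_right).map (MulAut.conj n)
    rwa [MulAut.conj_apply, MulAut.conj_apply, ← e] at this
  have od : Odd (orderOf (n * o * n⁻¹)) := by
    rw [← MulAut.conj_apply, MulEquiv.orderOf_eq]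
    exact odd_Ot ho
  obtain ⟨w, hw, o', ho', k⟩ := h.cF hW zt (mul_mem (mul_mem h1
    (Cs_anti (map_le_range _ _) (Ot_le ho).2)) (inv_mem h1))
  have w2 := h.toMo.sq_VW hW hw
  rcases k with k | k
  · rw [k] at od ⊢
    rwa [odd (by rw [← map_mul, w2, map_one]) ho' (Ot_comm ho' w).symm od, one_mul]
  · rw [k] at od ⊢
    rwa [odd (tv_sq h w2) ho' ((Ot_t ho').mul_right (Ot_comm ho' w)).symm od, one_mul]

theorem H1.inverted (h : H1 φ t) {a z o : G} {v w : sIsom B} (ha : a ∈ Cs (Ot φ t))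
    (ho : o ∈ Ot φ t) (v2 : v * v = 1) (w1 : w ≠ 1) (h1 : a * t * a⁻¹ = t * φ w)
    (h2 : Commute a (φ v)) (h3 : z = φ v * o ∨ z = t * φ v * o) (h4 : a * z * a⁻¹ = z⁻¹) :
    z = φ v := by
  have ao : Commute o a := mem_Cs.1 ha o ho
  have p2 : φ v * φ v = 1 := by rw [← map_mul, v2, map_one]
  have k : a * (φ v * o) * a⁻¹ = φ v * o := by
    rw [(h2.mul_right ao.symm).eq, mul_inv_cancel_right]
  rcases h3 with rfl | rfl
  · rw [k, eq_inv_iff_mul_eq_one, (Ot_comm ho v).mul_mul_mul_comm, p2, one_mul] at h4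
    rw [Ot_sq ho h4, mul_one]
  · rw [mul_assoc t, ← conj_mul, h1, k, eq_inv_iff_mul_eq_one] at h4
    refine absurd (split h (mul_mem ho ho) ?_).1 w1
    have c1 : Commute t (φ w * (φ v * o)) :=
      (h.tc w).mul_right ((h.tc v).mul_right (Ot_t ho).symm)
    rw [mul_assoc t, c1.eq, mul_assoc, ← mul_assoc t, h.t2, one_mul, mul_assoc,
      (Ot_comm ho v).mul_mul_mul_comm, p2, one_mul] at h4
    exact h4

theorem H1.ratio (h : H1 φ t) {a b o : G} {v w x : sIsom B} (ha : a ∈ Cs (Ot φ t))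
    (ho : o ∈ Ot φ t) (a2 : a * a = 1) (b2 : b * b = 1) (h1 : a * t * a⁻¹ = t * φ w)
    (h2 : a * φ v * a⁻¹ = φ x) (h3 : w * x * v ≠ 1) (h4 : b = a * φ v * o ∨ b = a * t * φ v * o) :
    b = a * φ v := by
  have ao : Commute o a := mem_Cs.1 ha o ho
  rw [inv_eq_of_mul_eq_one_right a2] at h1 h2
  rcases h4 with rfl | rfl
  · rw [(ao.mul_right (Ot_comm ho v)).mul_mul_mul_comm, ← mul_assoc _ a, h2, ← map_mul] at b2
    rw [Ot_sq ho (split h (mul_mem ho ho) b2).2, mul_one]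
  · rw [((ao.mul_right (Ot_t ho)).mul_right (Ot_comm ho v)).mul_mul_mul_comm] at b2
    refine absurd (split h (mul_mem ho ho) (Eq.trans ?_ b2)).1 h3
    congr 1
    calc φ (w * x * v) = t * (t * φ (w * x)) * φ v := by
          rw [← mul_assoc, h.t2, one_mul, ← map_mul]
      _ = t * φ w * φ x * t * φ v := by rw [(h.tc _).eq, map_mul, ← mul_assoc, ← mul_assoc]
      _ = a * t * (a * a) * φ v * (a * t * φ v) := by
          rw [← h1, ← h2]; simp only [mul_assoc]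
      _ = _ := by rw [a2, mul_one]

theorem H1.rf (h : H1 φ t) {u : M} (u0 : u ≠ 0) {n : G} (hn : n ∈ Ns ((Qu B u).map φ)) {x y : M}
    {c : F} (hx : B u x = 0) (e : n * t * n⁻¹ = t * φ (ee B u x c)) (hy : B u y = 0)
    (hxy : B x y = 0) : ∃ y', B u y' = 0 ∧ ∀ v ∈ Qu B u,
      n⁻¹ * φ (tT B y 1) * n * φ v * (n⁻¹ * φ (tT B y 1) * n)⁻¹ =
        φ (tT B y' 1 * v * (tT B y' 1)⁻¹) := by
  have m := h.toMo
  have fu : lin (tT B y 1) u = u := by rw [m.lin_tT, m.swap hy, mul_zero, zero_smul, add_zero]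
  have c1 : Commute (tT B y 1) (ee B u x c) := (m.comm_ee u0 hx fu c).2 (by
    rw [m.lin_tT, m.swap hxy, mul_zero, zero_smul, add_zero, m.vadd_self]
    exact zero_mem _)
  have st : Commute (n⁻¹ * φ (tT B y 1) * n) t := by
    have := ((h.tc _).symm.mul_right (c1.map φ)).map (MulAut.conj n⁻¹)
    rwa [← e, MulAut.conj_apply, MulAut.conj_apply, inv_inv,
      show n⁻¹ * (n * t * n⁻¹) * n = t by group] at this
  obtain ⟨α, hα⟩ := h.toMod.ind (h.cn (mem_C1.2 st))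
  have s2 : n⁻¹ * φ (tT B y 1) * n * (n⁻¹ * φ (tT B y 1) * n) = 1 := by
    rw [show n⁻¹ * φ (tT B y 1) * n * (n⁻¹ * φ (tT B y 1) * n) =
      n⁻¹ * (φ (tT B y 1) * φ (tT B y 1)) * n by group, ← map_mul, m.tT_sq, map_one, mul_one,
      inv_mul_cancel]
  have le : cj n⁻¹ ((Qu B u ⊓ C1 (tT B y 1)).map φ) ≤ (Qu B u ⊓ Cf α).map φ := cj_le_iff.2 (by
    rintro _ ⟨p, hp, rfl⟩
    obtain ⟨p', hp', e'⟩ := (mem_normalizer_iff.1 (inv_mem hn) _).1 (mem_map_of_mem φ hp.1)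
    refine ⟨p', ⟨hp', (h.toMod.mp_fix hα).1 ?_⟩, e'⟩
    have := ((show Commute p (tT B y 1) from mem_C1.1 hp.2).symm.map φ).map (MulAut.conj n⁻¹)
    rwa [MulAut.conj_apply, MulAut.conj_apply, ← e', inv_inv] at this)
  have cd := Trans.card_le_of_le le
  rw [card_cj, h.toMod.card_map, h.toMod.card_map] at cd
  have lb : Nat.card F ^ (2 * kk F M - 2) ≤ Nat.card ↥(Qu B u ⊓ C1 (tT B y 1)) := by
    by_cases yu : y ∈ F ∙ u
    · obtain ⟨a, rfl⟩ := Submodule.mem_span_singleton.1 yu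
      rw [inf_of_le_left fun g hg => mem_C1.2 ((m.comm_tT one_ne_zero).2 (by
        rw [map_smul, UM.mem_Fx1.1 (UM.QW_le_Fx hg)])), m.card_Q u0]
      exact Nat.pow_le_pow_right (by have := m.two_le; omega) (by omega)
    · rw [← m.card_QF (P2.iff.2 ⟨hy, u0, yu⟩)]
      exact Trans.card_le_of_le fun g hg =>
        ⟨hg.1, mem_C1.2 ((m.comm_tT one_ne_zero).2 (UM.mem_Fx1.1 hg.2))⟩
  obtain ⟨y', a, b⟩ := m.rf u0 (h.toMod.mp_sq hα s2) (by
    rintro _ ⟨v, hv, rfl⟩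
    refine h.toMod.mem_map.1 ?_
    have := (mem_normalizer_iff.1 (mul_mem (mul_mem (inv_mem hn) (Ns_Q fu)) hn) _).1
      (mem_map_of_mem φ hv)
    rwa [hα] at this) (lb.trans cd)
  exact ⟨y', a, fun v hv => by rw [hα, b v hv]⟩

end Cfsg.Lib.SP6
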