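import Cfsg.Agent.SPO.Defs
import Cfsg.Agent.SP6.A1
import Cfsg.Agent.SP6.GEN
import Cfsg.Agent.SP6.K1
import Cfsg.Agent.SP6.K2
import Cfsg.Agent.SP6.K3
import Cfsg.Agent.SP6.K4
import Cfsg.Agent.SP6.KIT
import Cfsg.Agent.SP6.P1a
import Cfsg.Agent.SP6.P1b

/-!
# Standard subgroups of type `Sp_{2k}(2ⁿ)`, `k ≥ 3`: the interface for type II
-/

set_option autoImplicit false
set_option linter.unusedSectionVars false

namespace Cfsg.Lib.SP6

open Subgroup Module Cfsg.Lib.Trans Cfsg.Lib.Gold Cfsg.Lib.Class.Form Cfsg.Lib.Class.FAut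
open Cfsg.Lib.UM (tT tE VW RR Fx St QW Cf mp Semi fa Mp cx re Ot kk Mx Fr3)
open Cfsg.Lib.SG2 (Uq Top)
open Cfsg.Lib.Comp (Tw)
open scoped commutatorElement

section Tower
variable {G F M : Type*} [Group G] [Finite G] [Field F] [Finite F] [AddCommGroup M] [Module F M]
  [FiniteDimensional F M] {B : M →ₗ[F] M →ₗ[F] F} {φ φ' : sIsom B →* G} {t : G}

namespace II

theorem lag (h : Mo B) {U : Submodule F M} : SPO.Lag B U ↔ Mx B U :=
  (h.mx_iff.trans ⟨fun e v => by rw [← mem_orth, e], fun e => Submodule.ext fun v => (e v).symm⟩).symm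

theorem c0 (h : Mo B) : t * φ (tT B 0 1) = t := by rw [h.tT_zero', map_one, mul_one]

theorem clos (h : Mo B) {U : Submodule F M} (hU : TotIso B U) :
    closure ((fun v => t * φ (tT B v 1)) '' U) = AA φ t (VW B U) := by
  have ht : t ∈ closure ((fun v => t * φ (tT B v 1)) '' U) :=
    subset_closure ⟨0, U.zero_mem, c0 h⟩
  refine le_antisymm ((closure_le _).2 ?_) (sup_le (zpowers_le.2 ht) ?_)
  · rintro _ ⟨w, hw, rfl⟩
    exact mul_mem (mem_sup_left (mem_zpowers t)) (mem_sup_right (mem_map_of_mem φ (h.tT_mem hw 1)))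
  · refine map_le_iff_le_comap.2 (h.gen_VW hU fun w hw => ?_)
    exact (mul_mem_cancel_left ht).1 (subset_closure ⟨w, hw, rfl⟩)

theorem mul (h : Hyp φ t) (a b : sIsom B) : t * φ a * (t * φ b) = φ (a * b) := by
  rw [mul_assoc, ← mul_assoc (φ a), ← (h.tc a).eq, ← mul_assoc, ← mul_assoc, h.t2, one_mul, map_mul]

theorem sq (h : Hyp φ t) {d : G} (e : IsConj t d) : d * d = 1 := by
  obtain ⟨g, rfl⟩ := isConj_iff.1 e
  rw [conj_mul, h.t2]; group

theorem ef2 (h : H1 φ t) (k : ∀ U, Mx B U → ∀ d ∈ AA φ t (VW B U), IsConj t d →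
    ∃ w, d = t * φ (tT B w 1)) {d : G} (e : IsConj t d) (c : Commute d t) :
    ∃ U, Mx B U ∧ d ∈ AA φ t (VW B U) := by
  have d2 := sq h.toHyp e
  by_cases hd : d ∈ AA φ t ⊤
  · obtain ⟨v, -, hv⟩ := h.toHyp.mem_AA.1 hd
    have v2 : v * v = 1 := h.inj (by
      rcases hv with rfl | rfl
      · rw [map_mul, d2, map_one]
      · rw [← mul h.toHyp, d2, map_one])
    obtain ⟨W, hW, hv'⟩ := h.toMo.inv v2
    exact ⟨W, hW, h.toHyp.mem_AA.2 ⟨v, hv', hv⟩⟩
  obtain ⟨g, rfl⟩ := isConj_iff.1 e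
  obtain ⟨A, h1, -, h2, h3⟩ := h.toHyp.field c hd
  have h4 : A ≤ φ.range := fun a ha => h.comm_two (h2 ha).1 (h3 a ha).1
  have h5 := h.toMo.T_group (A := A.comap φ) fun a ha => by
    obtain ⟨W, hW, hv⟩ := h.toMo.inv (g := a) (h.inj (by rw [map_mul, (h3 _ ha).1, map_one]))
    obtain ⟨w, e'⟩ := k W hW _ (h.toHyp.mem_AA.2 ⟨a, hv, Or.inr rfl⟩) (h3 _ ha).2
    exact ⟨w, h.inj (mul_left_cancel e')⟩
  rw [← h.toMod.card_map, map_comap_eq_self h4] at h5
  omega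

theorem pt (h : TB φ t) {u : M} (u0 : u ≠ 0) {d : G} (e : IsConj t d) (c : Commute d t)
    (k : ∀ (w : M) (a : F), B u w = 0 →
      Commute d (t * φ (tT B w 1) * (t * φ (tT B (w + a • u) 1)))) :
    ∃ v, d = t * φ (tT B v 1) := by
  have d2 := sq h.toHyp e
  have h1 : d ∈ Cs ((Qu B u).map φ) := mem_centralizer_iff.2 (by
    rintro _ ⟨v, hv, rfl⟩
    obtain ⟨x, s, hx, rfl⟩ := (h.toMo.mem_Q u0).1 hv
    refine mem_centralizer_singleton_iff.1 (h.toMo.gen_B (x := 0) (H := (C1 d).comap φ) u0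
      (map_zero _) (fun y a hy _ _ => ?_) hx (by simp) s)
    have := k y a hy
    rw [mul h.toHyp, h.toMo.tT_shift hy, ← mul_assoc, h.toMo.tT_sq, one_mul] at this
    exact mem_centralizer_singleton_iff.2 this.symm.eq)
  obtain ⟨v, hv, o, ho, h2⟩ := h.toH1.cQ u0 c h1
  have v2 := h.toMo.sq_Q u0 hv
  have c1 := Ot_comm ho v
  have c2 : Commute o t := mem_centralizer_singleton_iff.1 (Ot_le ho).1
  obtain rfl : o = 1 := Ot_sq ho (by
    rcases h2 with rfl | rfl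
    · rwa [c1.mul_mul_mul_comm, ← map_mul, v2, map_one, one_mul] at d2
    · rwa [(c2.mul_right c1).mul_mul_mul_comm, mul h.toHyp, v2, map_one, one_mul] at d2)
  rw [mul_one, mul_one] at h2
  rcases h2 with rfl | rfl
  · exact (h.toH1.nQ u0 hv e).elim
  obtain ⟨x, s, hx, rfl⟩ := (h.toMo.mem_Q u0).1 hv
  by_cases hxu : x ∈ F ∙ u
  · obtain ⟨a, rfl⟩ := Submodule.mem_span_singleton.1 hxu
    obtain ⟨b, -, e'⟩ := h.toMo.tT_sqrt u s
    exact ⟨_, by rw [h.toMo.ee_self, e']⟩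
  have p : P2 B u x := P2.iff.2 ⟨hx, u0, hxu⟩
  obtain ⟨a, rfl⟩ := h.toMo.exists_sq s
  by_cases ha : a = 0
  · rw [ha, mul_zero, h.toMo.ee_zero] at e
    exact (h.na _ _ p e).elim
  rw [h.toMo.ee_TT hx ha] at e
  have p' := (((p.smul ha (inv_ne_zero ha)).symm h.toMo).add h.toMo 1).symm h.toMo
  rw [one_smul] at p'
  exact (h.nc _ _ p' e).elim

end II

theorem TB.ii (h : TB φ t) : SPO.II B fun v => t * φ (tT B v 1) where
  two := h.two
  alt := h.alt
  nd v hv := by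
    by_contra v0
    obtain ⟨y, hy⟩ := h.toMo.exists_eq v0 1
    exact zero_ne_one ((hv y).symm.trans hy)
  six := h.six
  sq v := by rw [II.mul h.toHyp, h.toMo.tT_sq, map_one]
  inj v w e := h.toMo.tT_inj' (h.inj (mul_left_cancel e))
  conj v w := by
    have := h.toHyp.conj_t (tT B v 1) (tT B w 1)
    rw [h.toMo.tT_conj, h.toMo.lin_tT, one_mul] at this
    calc _ = t * (φ (tT B v 1) * (t * φ (tT B w 1)) * (φ (tT B v 1))⁻¹) * t⁻¹ := by group
      _ = _ := by rw [this, mul_assoc t, mul_assoc t, (h.tc _).mul_inv_cancel_assoc]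
  aut g hg v := by
    rw [II.c0 h.toMo] at hg
    obtain ⟨α, Γ, τ, h1, h2⟩ := h.toHyp.semi hg
    refine ⟨Γ v, ?_⟩
    rw [← conj_mul, hg.mul_inv_cancel, h1, h.toMo.semi_tT h2, map_one]
  tr U hU a ha := h.tr U hU a ha
  ef1 U hU d hd e := by
    have hU' := (II.lag h.toMo).1 hU
    rw [II.clos h.toMo hU'.ti] at hd ⊢
    rw [II.c0 h.toMo] at e ⊢
    exact h.toHyp.trJ hU' hd e
  ef2 k d e c := by
    rw [II.c0 h.toMo] at k e c
    obtain ⟨U, hU, hd⟩ := II.ef2 h.toH1 (fun U hU d hd e => by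
      obtain ⟨w, -, e'⟩ := k U ((II.lag h.toMo).2 hU) d (by rwa [II.clos h.toMo hU.ti]) e
      exact ⟨w, e'⟩) e c
    exact ⟨U, (II.lag h.toMo).2 hU, by rwa [II.clos h.toMo hU.ti]⟩
  pt u u0 d e c k := by
    rw [II.c0 h.toMo] at e c
    exact II.pt h u0 e c k
  odd z z2 k := by
    have c : Commute z t := II.c0 (φ := φ) (t := t) h.toMo ▸ k 0
    rw [II.c0 h.toMo]
    refine h.toHyp.inv_eq (mem_centralizer_iff.2 ?_) z2 c
    rintro _ ⟨g, rfl⟩
    have : (C1 z).comap φ = ⊤ := h.toMo.gen_T fun u => mem_centralizer_singleton_iff.2 (by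
      simpa using (c.inv_right.mul_right (k u)).symm.eq)
    exact mem_centralizer_singleton_iff.1 (this.ge (mem_top g))

end Tower

end Cfsg.Lib.SP6
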