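import Cfsg.Agent.SP6.KIT
import Cfsg.Agent.SP6.AC2

/-!
# Standard subgroups of type `Sp_{2k}(2ⁿ)`: the exotic cocycles over the field with two elements
-/

set_option autoImplicit false
set_option linter.unusedSectionVars false

namespace Cfsg.Lib.SP6

open Subgroup Module Cfsg.Lib.Trans Cfsg.Lib.Gold Cfsg.Lib.Class.Form Cfsg.Lib.Class.FAut
open Cfsg.Lib.UM (tT tE VW RR Fx St QW Cf mp Semi fa Mp cx re Ot kk Mx Fr3)
open Cfsg.Lib.SG2 (Uq Top)
open Cfsg.Lib.Comp (Tw)
open scoped commutatorElement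

variable {G F M : Type*} [Group G] [Finite G] [Field F] [Finite F] [AddCommGroup M] [Module F M]
  [FiniteDimensional F M] {B : M →ₗ[F] M →ₗ[F] F} {φ : sIsom B →* G} {t : G}

namespace Z2

variable (φ t) in
/-- The action of a long translation on `t` and on the transvections of `P_u`. -/
structure Act (d : MulAut G) (u : M) (l : M → F) (m : F) : Prop where
  tr : d t = t * φ (tT B u 1)
  fx : d (φ (tT B u 1)) = φ (tT B u 1)
  act : ∀ x, P2 B u x → d (φ (tT B x 1)) = φ (tT B (x + l x • u) 1) * φ (tT B u m)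
  inn : ∃ c, d = MulAut.conj c

variable {d : MulAut G} {u : M} {l : M → F} {m : F}

theorem Act.adj (h : H1 φ t) (k : Act φ t d u l m) {p : M} (hp : B u p = 0) :
    Act φ t (MulAut.conj (φ (tE B u p)) * d) u (fun x => l x + B p x) m := by
  have e : ∀ x c, MulAut.conj (φ (tE B u p)) (φ (tT B x c)) = φ (tT B (lin (tE B u p) x) c) :=
    fun x c => by rw [MulAut.conj_apply, ← map_inv, ← map_mul, ← map_mul, h.toMo.tT_conj]
  have eu : lin (tE B u p) u = u := by simp [h.toMo.lin_tE hp, h.alt, h.toMo.swap hp]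
  have et : MulAut.conj (φ (tE B u p)) t = t := by
    rw [MulAut.conj_apply, ← (h.tc _).eq, mul_inv_cancel_right]
  refine ⟨?_, ?_, fun x hx => ?_, ?_⟩
  · rw [MulAut.mul_apply, k.tr, map_mul, et, e, eu]
  · rw [MulAut.mul_apply, k.fx, e, eu]
  · rw [MulAut.mul_apply, k.act x hx, map_mul, e, e, eu, map_add, map_smul, eu, h.toMo.lin_tE hp,
      hx.uw, zero_smul, add_zero, add_smul, add_assoc, add_comm (B p x • u)]
  · obtain ⟨c, rfl⟩ := k.inn
    exact ⟨_, (map_mul _ _ _).symm⟩

theorem Act.cj (h : H1 φ t) (k : Act φ t d u l m) (g : sIsom B) :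
    Act φ t (MulAut.conj (φ g) * d * (MulAut.conj (φ g))⁻¹) (lin g u) (fun x => l (lin g⁻¹ x)) m := by
  have e : ∀ g x c, MulAut.conj (φ g) (φ (tT B x c)) = φ (tT B (lin g x) c) :=
    fun g x c => by rw [MulAut.conj_apply, ← map_inv, ← map_mul, ← map_mul, h.toMo.tT_conj]
  have et : ∀ g, MulAut.conj (φ g) t = t := fun g => by
    rw [MulAut.conj_apply, ← (h.tc _).eq, mul_inv_cancel_right]
  rw [← map_inv, ← map_inv]
  refine ⟨?_, ?_, fun x hx => ?_, ?_⟩
  · rw [MulAut.mul_apply, MulAut.mul_apply, et, k.tr, map_mul, et, e]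
  · rw [MulAut.mul_apply, MulAut.mul_apply, e, lin_inv_lin, k.fx, e]
  · have := hx.lin g⁻¹
    rw [lin_inv_lin] at this
    rw [MulAut.mul_apply, MulAut.mul_apply, e, k.act _ this, map_mul, e, e, map_add, map_smul,
      lin_lin_inv]
  · obtain ⟨c, rfl⟩ := k.inn
    exact ⟨_, by rw [← map_mul, ← map_mul]⟩

theorem key (h : H1 φ t) {c : MulAut G} (hc : ∃ g, c = MulAut.conj g) (ht : c t = t)
    {x y x' y' s : M} (h1 : c (φ (tT B x 1)) = φ (tT B x' 1)) (h2 : c (φ (tT B y 1)) = φ (tT B y' 1))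
    (h3 : c (φ (tT B (x + y) 1)) = φ (tT B s 1)) : s = x' + y' := by
  obtain ⟨g, rfl⟩ := hc
  obtain ⟨α, Γ, τ, k1, k2⟩ := h.toHyp.semi (c := g) (mul_inv_eq_iff_eq_mul.1 ht)
  have e : ∀ {a b}, MulAut.conj g (φ (tT B a 1)) = φ (tT B b 1) → b = Γ a := fun {a b} e => by
    rw [MulAut.conj_apply, k1, h.toMo.semi_tT k2, map_one] at e
    exact (h.toMo.tT_inj' (h.inj e)).symm
  rw [e h1, e h2, e h3, map_add]

theorem fin (h : H1 φ t) (k : Act φ t d u l m) (h1 : ∀ x, P2 B u x → l (x + u) = l x) {y z : M}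
    (k3 : P3 B u y z) (hm : m = 0 ∨ m = 1) (e : l (y + z) = l y + l z + 1 + m) : False := by
  have H := h.toMo
  have two := H.two
  obtain ⟨ky, kz, kyz, ks⟩ := k3.p2 H
  obtain ⟨g, g1, g2, g3⟩ := H.tr3 k3 (k3.swap' H)
  have gi : ∀ {a b}, lin g a = b → lin g⁻¹ b = a := fun e => by rw [← e, lin_inv_lin]
  have ad : ∀ a b : F, ∃ d l, Act φ t d u l m ∧ (∀ x, P2 B u x → l (x + u) = l x) ∧ l y = a ∧
      l z = b ∧ l (y + z) = a + b + 1 + m := fun a b => by
    obtain ⟨p, p1, p2, p3⟩ := H.dual3 ky.ne ky.not_mem (P3.iff.1 k3).2.2.2 0 (a + l y) (b + l z)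
    refine ⟨_, _, k.adj h p1, fun x hx => ?_, ?_, ?_, ?_⟩
    · rw [h1 x hx, map_add, H.swap p1, add_zero]
    · rw [H.symm, p2]; linear_combination l y * two
    · rw [H.symm, p3]; linear_combination l z * two
    · rw [e, map_add, H.symm p, H.symm p, p2, p3]; linear_combination (l y + l z) * two
  have sq : ∀ x, φ (tT B x 1) * φ (tT B x 1) = 1 := fun x => by rw [← map_mul, H.tT_sq, map_one]
  have cuy : φ (tT B u 1) * φ (tT B y 1) = φ (tT B y 1) * φ (tT B u 1) :=
    ((H.comm_TT ky.uw 1 1).map φ).eq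
  have zu : P2 B u (z + u) := by simpa using kz.add H 1
  have su : P2 B u (y + z + u) := by simpa using ks.add H 1
  have yu := ky.symm H
  obtain ⟨-, yz, -, yuz⟩ := (k3.swap' H).p2 H
  have yzy : P2 B y (z + y) := by simpa using yz.add H 1
  have yuzy : P2 B y (u + z + y) := by simpa using yuz.add H 1
  rcases hm with rfl | rfl
  · obtain ⟨d, l, k, a0, a1, a2, a3⟩ := ad 0 0
    obtain ⟨d', l', k', b0, b1, b2, b3⟩ := ad 0 1
    have k' := k'.cj h g
    rw [g1] at k'
    generalize MulAut.conj (φ g) * d' * (MulAut.conj (φ g))⁻¹ = e at k'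
    have A : ∀ x, P2 B u x → d (φ (tT B x 1)) = φ (tT B (x + l x • u) 1) := fun x hx => by
      rw [k.act x hx, H.tT_zero, map_one, mul_one]
    have C : ∀ x, P2 B y x → e (φ (tT B x 1)) = φ (tT B (x + l' (lin g⁻¹ x) • y) 1) := fun x hx => by
      rw [k'.act x hx, H.tT_zero, map_one, mul_one]
    have dy := A y ky
    have dzu := A _ zu
    have ds := A _ ks
    have eu := C u yu
    have ez := C z yz
    have euz := C _ yuz
    have euzy := C _ yuzy
    rw [a1, zero_smul, add_zero] at dy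
    rw [a0 z kz, a2, zero_smul, add_zero] at dzu
    rw [a3, show (0 : F) + 0 + 1 + 0 = 1 by ring, one_smul] at ds
    rw [gi g2, b1, zero_smul, add_zero] at eu
    rw [gi g3, b2, one_smul] at ez
    rw [map_add, gi g2, gi g3, b3, show (0 : F) + 1 + 1 + 0 = 0 by linear_combination two,
      zero_smul, add_zero] at euz
    rw [map_add, map_add, gi g1, gi g2, gi g3, b0 _ ks, b3,
      show (0 : F) + 1 + 1 + 0 = 0 by linear_combination two, zero_smul, add_zero] at euzy
    have I : ∀ {a b}, d (e a) = e (d b) → (d⁻¹ * e⁻¹ * d * e) a = b := fun {a b} i => by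
      rw [MulAut.mul_apply, MulAut.mul_apply, MulAut.mul_apply, i, MulAut.inv_apply_self,
        MulAut.inv_apply_self]
    have := key h (c := d⁻¹ * e⁻¹ * d * e) (x := u) (y := z) (x' := u) (y' := y + z) (s := u + z)
      (by
        obtain ⟨a, rfl⟩ := k.inn
        obtain ⟨b, rfl⟩ := k'.inn
        exact ⟨a⁻¹ * b⁻¹ * a * b, by simp only [map_mul, map_inv]⟩)
      (I (by rw [k'.tr, map_mul, k.tr, dy, map_mul, k'.tr, eu, mul_assoc, cuy, mul_assoc]))
      (I (by rw [eu, k.fx, eu]))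
      (I (by rw [ez, add_comm z, ds, show y + z + u = u + z + y by abel, euzy]))
      (I (by rw [euz, add_comm u, dzu, add_comm z, euz]))
    exact ky.ne' (by simpa using this)
  · obtain ⟨d, l, k, a0, a1, a2, a3⟩ := ad 0 0
    have k' := k.cj h g
    rw [g1] at k'
    generalize MulAut.conj (φ g) * d * (MulAut.conj (φ g))⁻¹ = e at k'
    have dy := k.act y ky
    have dz := k.act z kz
    have ds := k.act _ ks
    have eu := k'.act u yu
    have ez := k'.act z yz
    have ezy := k'.act _ yzy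
    rw [a1, zero_smul, add_zero] at dy
    rw [a2, zero_smul, add_zero] at dz
    rw [a3, show (0 : F) + 0 + 1 + 1 = 0 by linear_combination two, zero_smul, add_zero] at ds
    simp only [gi g2, a1, zero_smul, add_zero] at eu
    simp only [gi g3, a2, zero_smul, add_zero] at ez
    simp only [map_add, gi g1, gi g3, a0 z kz, a2, zero_smul, add_zero] at ezy
    have I : ∀ {a b}, d (e a) = e b → (e⁻¹ * d * e) a = b := fun {a b} i => by
      rw [MulAut.mul_apply, MulAut.mul_apply, i, MulAut.inv_apply_self]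
    have J : ∀ a : G, a * φ (tT B u 1) * (φ (tT B y 1) * φ (tT B u 1)) = a * φ (tT B y 1) := fun a => by
      rw [← cuy, mul_assoc, ← mul_assoc (φ (tT B u 1)), sq, one_mul]
    have := key h (c := e⁻¹ * d * e) (x := y) (y := z) (x' := u) (y' := z) (s := y + z)
      (by
        obtain ⟨a, rfl⟩ := k.inn
        obtain ⟨b, rfl⟩ := k'.inn
        exact ⟨b⁻¹ * a * b, by simp only [map_mul, map_inv]⟩)
      (I (by rw [k'.tr, map_mul, k.tr, dy, J]))
      (I (by rw [k'.fx, dy, eu, cuy]))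
      (I (by rw [ez, map_mul, dz, dy, J]))
      (I (by rw [add_comm y, ezy, map_mul, add_comm z, ds, dy, J]))
    exact ky.not_mem (by rw [add_right_cancel this]; exact Submodule.mem_span_singleton_self u)

end Z2

theorem LD.add (h : H1 φ t) {d : G} {u : M} (u0 : u ≠ 0) (k : LD φ t d u) (l : M → F) (m : F)
    (h0 : ∀ y, P2 B u y →
      d * φ (tT B y 1) * d⁻¹ = φ (tT B (y + (l y + m) • u) 1 * tT B u (m * m)))
    (h1 : ∀ y (a : F), P2 B u y → l (y + a • u) = l y)
    (h2 : ∀ y (a : F), P2 B u y → a ≠ 0 → l (a • y) = a * l y)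
    (h3 : ∀ y z, P2 B u y → P2 B u z → B y z ≠ 0 →
      l (y + z) * l (y + z) = l y * l y + l z * l z + m * m * B y z)
    {y z : M} (k3 : P3 B u y z) : l (y + z) = l y + l z := by
  rcases h.toMo.q_cases with hx | ⟨-, hx⟩
  · exact h.toMo.ac2 hx u0 l m h1 h2 h3 k3
  have two := h.two
  by_contra n
  have mm : m * m = m := by rcases hx m with rfl | rfl <;> simp
  refine Z2.fin h (d := MulAut.conj d) (l := fun y => l y + m) (m := m)
    ⟨k.tr, ?_, fun x e => by rw [MulAut.conj_apply, h0 x e, mm, map_mul], _, rfl⟩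
    (fun x e => by simpa using h1 x 1 e) k3 (hx m) ?_
  · rw [MulAut.conj_apply, ← mem_Cs.1 k.cq _ (mem_map_of_mem φ (h.toMo.tT_mem_Q u 1)),
      mul_inv_cancel_right]
  · rcases hx (l (y + z) + l y + l z) with e | e
    · exact (n (by linear_combination e - (l y + l z) * two)).elim
    · linear_combination e - (l y + l z + m) * two

end Cfsg.Lib.SP6
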