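import Cfsg.Agent.SP6.AC3
import Cfsg.Agent.SP6.GEN
import Cfsg.Agent.SP6.Z2
import Cfsg.Agent.SP6.K1
import Cfsg.Agent.SP6.K2
import Cfsg.Agent.SP6.K4
import Cfsg.Agent.SP6.KIT
import Cfsg.Agent.SP6.P1a

/-!
# Standard subgroups of type `Sp_{2k}(2ⁿ)`: long translations
-/

set_option autoImplicit false
set_option linter.unusedSectionVars false
set_option linter.unusedVariables false

namespace Cfsg.Lib.SP6

open Subgroup Module Cfsg.Lib.Trans Cfsg.Lib.Gold Cfsg.Lib.Class.Form Cfsg.Lib.Class.FAut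
open Cfsg.Lib.UM (tT tE VW RR Fx St QW Cf mp Semi fa Mp cx re Ot kk Mx Fr3)
open Cfsg.Lib.SG2 (Uq Top)
open Cfsg.Lib.Comp (Tw)
open scoped commutatorElement

variable {G F M : Type*} [Group G] [Finite G] [Field F] [Finite F] [AddCommGroup M] [Module F M]
  [FiniteDimensional F M] {B : M →ₗ[F] M →ₗ[F] F} {φ φ' : sIsom B →* G} {t : G}

namespace LDa

theorem cj_P (g : sIsom B) (u : M) (x : M) : x ∈ F ∙ u ↔ lin g x ∈ F ∙ lin g u := by
  rw [UM.cj_span _ g, Set.image_singleton]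

theorem cjm (g : sIsom B) (H : Subgroup (sIsom B)) :
    Trans.cj (φ g) (H.map φ) = (Trans.cj g H).map φ := (UM.Mp.self g).cj_map H

theorem cT (h : H1 φ t) {d : G} {u : M} (k : d ∈ Cs ((Qu B u).map φ)) (c : F) :
    Commute (φ (tT B u c)) d := mem_Cs.1 k _ ⟨_, h.toMo.tT_mem_Q u c, rfl⟩

theorem mul0 (h : H1 φ t) {d : G} {u : M} (k : LD φ t d u) {x : G} (h1 : Commute x t)
    (h2 : x ∈ Cs ((Qu B u).map φ)) (h3 : x ∈ Ns ((Pu B u).map φ)) : LD φ t (d * x) u :=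
  ⟨mul_mem k.cq h2, mul_mem k.np h3, by
    rw [← k.tr]
    conv_rhs => rw [← Comp.conj_eq_of_comm h1]
    group⟩

theorem addl (h : Mo B) {a b c : F} (e : a * a = b * b + c * c) : a = b + c :=
  h.sq_inj (by rw [e]; linear_combination (-(b * c)) * h.two)

theorem shift (h : Mo B) {u p y : M} (hp : B u p = 0) (hy : B u y = 0) (a : F) :
    tE B u p * tT B (y + a • u) 1 * (tE B u p)⁻¹ = tT B (y + (a + B p y) • u) 1 := by
  rw [h.tT_conj, h.lin_tE hp]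
  congr 1
  simp only [map_add, map_smul, hy, h.alt u, h.swap hp, smul_eq_mul, mul_zero, add_zero, zero_smul]
  module

end LDa

open LDa

theorem LD.cj (h : H1 φ t) {d : G} {u : M} (k : LD φ t d u) (g : sIsom B) :
    LD φ t (φ g * d * (φ g)⁻¹) (lin g u) := by
  refine ⟨?_, ?_, ?_⟩
  · rw [Qu, ← (UM.cj_sub (cj_P g u)).2.1, ← cjm, ← cj_Cs]
    exact conj_mem_cj.2 k.cq
  · rw [Pu, ← (UM.cj_sub (cj_P g u)).2.2.1, ← cjm, ← cj_Ns]
    exact conj_mem_cj.2 k.np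
  · rw [← h.toMo.tT_conj, ← h.toHyp.conj_t, ← k.tr]
    conv_lhs => rw [← Comp.conj_eq_of_comm (h.tc g).symm]
    group

theorem LD.inv (h : H1 φ t) {d : G} {u : M} (k : LD φ t d u) : LD φ t d⁻¹ u := by
  refine ⟨inv_mem k.cq, inv_mem k.np, ?_⟩
  have h1 : t = d * t * d⁻¹ * φ (tT B u 1) := by
    rw [k.tr, mul_assoc, ← map_mul, h.toMo.tT_sq, map_one, mul_one]
  conv_lhs => rw [h1]
  calc _ = t * (d⁻¹ * φ (tT B u 1) * d⁻¹⁻¹) := by group
    _ = _ := by rw [Comp.conj_eq_of_comm (cT h k.cq 1).symm.inv_left]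

theorem LD.mul (h : H1 φ t) {d : G} {u : M} (u0 : u ≠ 0) (k : LD φ t d u) {v : sIsom B}
    (hv : v ∈ Qu B u) {o : G} (ho : o ∈ Ot φ t) :
    LD φ t (d * (φ v * o)) u ∧ LD φ t (d * (t * φ v * o)) u := by
  have c1 : Commute (φ v * o) t := (h.tc v).symm.mul_left (mem_C1.1 (Ot_le ho).1)
  have c2 : φ v * o ∈ Cs ((Qu B u).map φ) := mul_mem (mem_Cs.2 (by
    rintro _ ⟨p, hp, rfl⟩
    exact (h.toMo.comm_Q u0 hp hv).map φ)) (Cs_anti (map_le_range _ _) (Ot_le ho).2)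
  have c3 : φ v * o ∈ Ns ((Pu B u).map φ) := mul_mem (le_normalizer ⟨v, UM.QW_le_Fx hv, rfl⟩)
    (Cs_le_Ns (Cs_anti (map_le_range _ _) (Ot_le ho).2))
  refine ⟨mul0 h k c1 c2 c3, ?_⟩
  rw [mul_assoc t]
  exact mul0 h k ((Commute.refl t).mul_left c1) (mul_mem (Cs_anti (map_le_range _ _) h.toHyp.tC) c2)
    (mul_mem (Cs_le_Ns (Cs_anti (map_le_range _ _) h.toHyp.tC)) c3)

theorem LD.of_cq (h : H1 φ t) (hA : AL φ t) {d : G} {u : M} (u0 : u ≠ 0)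
    (h1 : d ∈ Cs ((Qu B u).map φ)) (h2 : d * t * d⁻¹ = t * φ (tT B u 1)) : LD φ t d u := by
  obtain ⟨d0, k⟩ := hA u u0
  obtain ⟨v, hv, o, ho, e⟩ := h.cQ u0 (c := d0⁻¹ * d) (Comp.comm_of_conj_eq (by
    calc _ = d0⁻¹ * (d * t * d⁻¹) * d0 := by group
      _ = _ := by rw [h2, ← k.tr]; group)) (mul_mem (inv_mem k.cq) h1)
  have := LD.mul h u0 k hv ho
  rcases e with e | e
  · have h3 := this.1
    rwa [← e, mul_inv_cancel_left] at h3
  · have h3 := this.2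
    rwa [← e, mul_inv_cancel_left] at h3

theorem LD.act (h : H1 φ t) {d : G} {u : M} (u0 : u ≠ 0) (k : LD φ t d u) :
    ∃ (l : M → F) (m : F), l u = 0 ∧ (∀ y (a : F), B u y = 0 → l (a • y) = a * l y) ∧
      (∀ y z, B u y = 0 → B u z = 0 →
        l (y + z) * l (y + z) = l y * l y + l z * l z + m * m * B y z) ∧
      ∀ y, B u y = 0 →
        d * φ (tT B y 1) * d⁻¹ = φ (tT B (y + (l y + m) • u) 1 * tT B u (m * m)) := by
  obtain ⟨β, hβ⟩ := h.toMod.hom_P k.np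
  have fx : ∀ q ∈ Qu B u, d * φ q * d⁻¹ = φ q := fun q hq =>
    Comp.conj_eq_of_comm (mem_Cs.1 k.cq _ ⟨q, hq, rfl⟩).symm
  obtain ⟨l, m, h1, h2, h3, h4⟩ := h.toMo.ac3 u0 ((Pu B u).subtype.comp β.toMonoidHom)
    (fun p hp => h.inj ((hβ p).symm.trans (fx p hp))) (fun p => by
      rw [← h.toMo.Cs_Q u0]
      refine mem_Cs.2 fun q hq => h.inj ?_
      have hq' : p.1 * q * p.1⁻¹ ∈ Qu B u :=
        mem_normalizer_conj (UM.St_le_Ns (UM.Fx_le_St p.2)).1.2 hq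
      have e1 := fx _ hq'
      have e2 := fx _ hq
      rw [map_mul, map_mul, map_inv] at e1
      change φ (q * (p.1⁻¹ * (β p).1)) = φ (p.1⁻¹ * (β p).1 * q)
      simp only [map_mul, map_inv, ← hβ p]
      calc _ = (φ p.1)⁻¹ * (φ p.1 * φ q * (φ p.1)⁻¹) * (d * φ p.1 * d⁻¹) := by group
        _ = (φ p.1)⁻¹ * (d * φ p.1 * d⁻¹) * (d * φ q * d⁻¹) := by rw [← e1]; group
        _ = _ := by rw [e2])
    fun l m a0 a1 a2 a3 y z k3 => k.add h u0 l m (fun y hy =>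
      (hβ ⟨_, h.toMo.tT_mem_Fx (h.toMo.mem_orth1.2 hy.uw) 1⟩).trans (congrArg φ (a0 y hy _ rfl)))
      a1 a2 a3 k3
  refine ⟨l, m, h1, h2, h3, fun y hy => ?_⟩
  have hp : tT B y 1 ∈ Pu B u := h.toMo.tT_mem_Fx (h.toMo.mem_orth1.2 hy) 1
  exact (hβ ⟨_, hp⟩).trans (congrArg φ (h4 y hy ⟨_, hp⟩ rfl))

theorem LD.as_E (h : H1 φ t) {d : G} {u : M} (u0 : u ≠ 0) {l : M → F} (h0 : l u = 0)
    (h1 : ∀ y (a : F), B u y = 0 → l (a • y) = a * l y)
    (h2 : ∀ y z, B u y = 0 → B u z = 0 → l (y + z) * l (y + z) = l y * l y + l z * l z)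
    (h3 : ∀ y, B u y = 0 → d * φ (tT B y 1) * d⁻¹ = φ (tT B (y + l y • u) 1)) :
    ∃ p, B u p = 0 ∧ (∀ y, B u y = 0 → B p y = l y) ∧ φ (tE B u p) * d ∈ Cs ((Pu B u).map φ) := by
  have mo := h.toMo
  obtain ⟨p, hp⟩ := mo.dualW (orth B (F ∙ u)) l
    (fun x hx y hy => addl mo (h2 x y (mo.mem_orth1.1 hx) (mo.mem_orth1.1 hy)))
    fun a x hx => h1 x a (mo.mem_orth1.1 hx)
  have pu : B u p = 0 := mo.swap ((hp u (mo.mem_orth1.2 (mo.alt u))).trans h0)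
  refine ⟨p, pu, fun y hy => hp y (mo.mem_orth1.2 hy), mem_Cs.2 ?_⟩
  rintro _ ⟨q, hq, rfl⟩
  refine mem_C1.1 (mo.gen_Fx (mo.ti1 u) (H := (C1 (φ (tE B u p) * d)).comap φ) (fun y hy => ?_) hq)
  refine mem_C1.2 (Comp.comm_of_conj_eq ?_).symm
  have hy' := mo.mem_orth1.1 hy
  calc _ = φ (tE B u p) * (d * φ (tT B y 1) * d⁻¹) * (φ (tE B u p))⁻¹ := by group
    _ = _ := by
      rw [h3 y hy', ← map_inv, ← map_mul, ← map_mul, shift mo pu hy', hp y hy, mo.add_self,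
        zero_smul, add_zero]

theorem H1.tb (h : H1 φ t) (na : ∀ u w, P2 B u w → ¬ IsConj t (t * φ (tE B u w)))
    (nc : ∀ u w, P2 B u w → ¬ IsConj t (t * φ (tT B u 1 * tT B w 1))) (hA : AL φ t) : TB φ t := by
  have mo := h.toMo
  refine ⟨h, na, nc, fun U hU a ha => ?_⟩
  by_cases a0 : a = 0
  · exact ⟨1, fun w _ => by rw [a0, add_zero]; group⟩
  obtain ⟨d, k⟩ := hA a a0
  obtain ⟨l, m, h1, h2, h3, h4⟩ := LD.act h a0 k
  have h5 : ∀ y, B a y = 0 → d * (t * φ (tT B y 1)) * d⁻¹ =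
      t * φ (tT B ((1 + m) • a) 1 * tT B (y + (l y + m) • a) 1) := fun y hy => by
    have c : B (y + (l y + m) • a) a = 0 := by
      simp only [map_add, map_smul, LinearMap.add_apply, LinearMap.smul_apply, mo.swap hy, mo.alt a,
        smul_eq_mul, mul_zero, add_zero]
    rw [← conj_mul', k.tr, h4 y hy, mul_assoc, ← map_mul, (mo.comm_TT c 1 (m * m)).eq, ← mul_assoc,
      ← mo.tT_add, mo.tT_smul]
    congr 4
    linear_combination (-m) * mo.two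
  obtain rfl : m = 1 := by
    by_contra m1
    obtain ⟨y, ky⟩ := mo.ext2 a0
    obtain ⟨d', k'⟩ := hA y ky.ne'
    have m1' : 1 + m ≠ 0 := fun e => m1 (by linear_combination e - mo.two)
    refine nc _ _ (by simpa only [one_smul] using (ky.add mo (l y + m)).smul m1' one_ne_zero) ?_
    exact (isConj_iff.2 ⟨d', k'.tr⟩).trans (isConj_iff.2 ⟨d, h5 y ky.uw⟩)
  obtain ⟨p, hp⟩ := mo.dualW U l (fun x hx y hy => addl mo (by
    rw [h3 x y (hU a ha x hx) (hU a ha y hy), hU x hx y hy, mul_zero, add_zero]))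
    fun c x hx => h2 x c (hU a ha x hx)
  have pa : B a p = 0 := mo.swap ((hp a ha).trans h1)
  refine ⟨φ (tE B a p) * d, fun w hw => ?_⟩
  calc _ = φ (tE B a p) * (d * (t * φ (tT B w 1)) * d⁻¹) * (φ (tE B a p))⁻¹ := by group
    _ = _ := by
      rw [h5 w (hU a ha w hw), mo.add_self, zero_smul, mo.tT_zero', one_mul, h.toHyp.conj_t,
        shift mo pa (hU a ha w hw), hp w hw, add_right_comm, mo.add_self, zero_add, one_smul]

end Cfsg.Lib.SP6
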