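import Cfsg.Agent.SP6.AP
import Cfsg.Agent.SP6.AC1
import Cfsg.Agent.SP6.P1a

/-!
# Standard subgroups of type `Sp_{2k}(2ⁿ)`: the normaliser of `⟨t⟩ × P_u` normalises `P_u`
-/

set_option autoImplicit false
set_option linter.unusedSectionVars false

namespace Cfsg.Lib.SP6

open Subgroup Module Cfsg.Lib.Trans Cfsg.Lib.Gold Cfsg.Lib.Class.Form Cfsg.Lib.Class.FAut
open Cfsg.Lib.UM (tT tE VW RR Fx St QW Cf mp Semi fa Mp cx re Ot kk Mx Fr3)
open Cfsg.Lib.SG2 (Uq Top)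
open Cfsg.Lib.Comp (Tw)
open scoped commutatorElement

variable {G F M : Type*} [Group G] [Finite G] [Field F] [Finite F] [AddCommGroup M] [Module F M]
  [FiniteDimensional F M] {B : M →ₗ[F] M →ₗ[F] F} {φ : sIsom B →* G} {t : G}

namespace Z1

theorem proj (h : Hyp φ t) {A : Subgroup (sIsom B)} {n : G} (hn : n ∈ Ns (AA φ t A))
    (ht : n * t * n⁻¹ ∉ φ.range) : ∃ β : MulAut A, ∀ p : A,
      n⁻¹ * φ p * n = φ (β p) ∨ n⁻¹ * φ p * n = t * φ (β p) := by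
  have k : ∀ p : A, ∃ v : A, n⁻¹ * φ p * n = φ v ∨ n⁻¹ * φ p * n = t * φ v := fun p => by
    have : n⁻¹ * φ p * n ∈ AA φ t A :=
      mem_cj.1 ((mem_Ns_iff.1 hn).symm ▸ h.mem_AA.2 ⟨p, p.2, .inl rfl⟩)
    obtain ⟨v, hv, e⟩ := h.mem_AA.1 this
    exact ⟨⟨v, hv⟩, e⟩
  choose b hb using k
  have tt : ∀ a : G, t * (t * a) = a := fun a => by rw [← mul_assoc, h.t2, one_mul]
  have tm : ∀ a b, φ a * (t * b) = t * (φ a * b) := fun a b => by
    rw [← mul_assoc, ← (h.tc a).eq, mul_assoc]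
  have uq : ∀ {x : G} {v w : A}, (x = φ v ∨ x = t * φ v) → (x = φ w ∨ x = t * φ w) → v = w := by
    rintro x v w (rfl | rfl) (e | e)
    · exact Subtype.ext (h.inj e)
    · exact (h.t_ne _ _ e.symm).elim
    · exact (h.t_ne _ _ e).elim
    · exact Subtype.ext (h.inj (mul_left_cancel e))
  let β : A →* A := MonoidHom.mk' b fun p q => uq (hb (p * q)) (by
    have e : n⁻¹ * φ (p * q : A) * n = (n⁻¹ * φ p * n) * (n⁻¹ * φ q * n) := by
      rw [coe_mul, map_mul]; group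
    rw [e, coe_mul, map_mul]
    rcases hb p with e1 | e1 <;> rcases hb q with e2 | e2 <;> rw [e1, e2]
    · exact .inl rfl
    · exact .inr (tm _ _)
    · exact .inr (mul_assoc _ _ _)
    · exact .inl (by rw [mul_assoc, tm, tt]))
  have inj : Function.Injective β := (injective_iff_map_eq_one β).2 fun p e => by
    have e : b p = 1 := e
    rcases hb p with e1 | e1 <;> rw [e, coe_one, map_one] at e1
    · refine Subtype.ext (h.inj ?_)
      rw [coe_one, map_one, ← mul_left_inj n, ← mul_right_inj n⁻¹, ← mul_assoc, e1]; group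
    · exact (ht ⟨p, by rw [← mul_one t, ← e1]; group⟩).elim
  exact ⟨MulEquiv.ofBijective β (Finite.injective_iff_bijective.1 inj), hb⟩

end Z1

theorem H1.nP (h : H1 φ t) {u : M} (u0 : u ≠ 0) {n : G} (hn : n ∈ Ns (AA φ t (Pu B u))) {c : F}
    (c0 : c ≠ 0) (e : n * t * n⁻¹ = t * φ (tT B u c)) : n ∈ Ns ((Pu B u).map φ) := by
  have H := h.toMo
  obtain ⟨β, hβ⟩ := Z1.proj h.toHyp hn (fun ⟨a, k⟩ => h.toHyp.t_ne _ _ (e.symm.trans k.symm))
  obtain ⟨α, a1, a2⟩ := H.ap1 u0 β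
  obtain ⟨Γ, hΓ⟩ := H.semi α
  have RQ : ∀ c, tT B u c ∈ Pu B u := fun c => UM.QW_le_Fx (H.tT_mem_Q u c)
  obtain ⟨l, m, hl⟩ := H.ac1 u0 (α⁻¹.toMonoidHom.comp ((Pu B u).subtype.comp β.toMonoidHom))
    (fun p hp => by
      change α⁻¹ (β p).1 = p
      rw [a2 p hp, MulAut.inv_apply_self])
    (fun p => by
      change p.1⁻¹ * α⁻¹ (β p).1 ∈ _
      rw [← H.Cs_Q u0, mem_Cs]
      intro q hq
      have hq' : q ∈ Pu B u := UM.QW_le_Fx hq
      have k1 := a2 (p * ⟨q, hq'⟩ * p⁻¹) (by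
        obtain ⟨x, c, k, rfl⟩ := (H.mem_Q u0).1 hq
        change p.1 * ee B u x c * p.1⁻¹ ∈ _
        have := H.ee_mem_Q (u := lin p.1 u) (x := lin p.1 x) (by rw [lin_isom, k]) c
        rw [H.ee_conj _ k]
        convert this using 2
        exact (UM.mem_Fx1.1 p.2).symm)
      rw [map_mul, map_mul, map_inv, coe_mul, coe_mul, coe_inv, a2 ⟨q, hq'⟩ hq] at k1
      apply α.injective
      simp only [map_mul, map_inv, coe_mul, coe_inv, MulAut.apply_inv_self] at k1 ⊢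
      calc α q * ((α p.1)⁻¹ * (β p).1) = (α p.1)⁻¹ * (α p.1 * α q * (α p.1)⁻¹) * (β p).1 := by group
        _ = _ := by rw [← k1]; group)
  have R : ∀ c, ∃ c', (β ⟨_, RQ c⟩).1 = tT B u c' := fun c =>
    H.mem_RR.1 ((H.ap_Q u0 β _).2.2 (H.mem_RR.2 ⟨c, rfl⟩))
  have cn : ∀ {x : G}, IsConj t x → IsConj t (n⁻¹ * x * n) := fun k =>
    k.trans (isConj_iff.2 ⟨n⁻¹, by rw [inv_inv]⟩)
  have e1 : ∃ c', n⁻¹ * t * n = t * φ (tT B u c') := by
    obtain ⟨c', e'⟩ := R c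
    have e2 : n⁻¹ * t * n = t * (n⁻¹ * φ (tT B u c) * n)⁻¹ := by
      rw [eq_mul_inv_iff_mul_eq]
      calc _ = n⁻¹ * (t * φ (tT B u c)) * n := by group
        _ = t := by rw [← e]; group
    have i := inv_eq_of_mul_eq_one_right (H.tT_sq u c')
    rcases hβ ⟨_, RQ c⟩ with k | k <;> rw [e'] at k
    · exact ⟨c', by rw [e2, k, ← map_inv, i]⟩
    · refine (h.nQ u0 (H.tT_mem_Q u c') ?_).elim
      have := cn (IsConj.refl t)
      rwa [e2, k, mul_inv_rev, ← map_inv, i, inv_eq_of_mul_eq_one_right h.t2, ← (h.tc _).eq,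
        ← mul_assoc, h.t2, one_mul] at this
  obtain ⟨c', e1⟩ := e1
  obtain ⟨s, s0, hs⟩ := H.nQ u0 hΓ (by
    rintro _ ⟨q, hq, rfl⟩
    have := (H.ap_Q u0 β ⟨q, UM.QW_le_Fx hq⟩).1.2 hq
    rwa [a2 _ hq] at this)
  have key : ∀ y (hy : B u y = 0), n⁻¹ * φ (tT B y 1) * n ∈ (Pu B u).map φ := fun y hy => by
    have yP : tT B y 1 ∈ Pu B u := H.tT_mem_Fx (H.mem_orth1.2 hy) 1
    rcases hβ ⟨_, yP⟩ with k | k
    · exact k ▸ mem_map_of_mem φ (β _).2
    by_cases y0 : y = 0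
    · rw [y0, H.tT_zero', map_one, mul_one, inv_mul_cancel]
      exact one_mem _
    have c1 : IsConj t (t * φ (tT B y 1)) := by
      obtain ⟨a, ha, e2⟩ := H.tT_sqrt u c
      obtain ⟨g, hg⟩ := H.tr1 (smul_ne_zero (left_ne_zero_of_mul (ha ▸ c0)) u0) y0
      have := h.toHyp.isConj g (isConj_iff.2 ⟨n, e⟩)
      rwa [e2, H.tT_conj, hg] at this
    have c2 : IsConj t (φ (tT B u c' * (β ⟨_, yP⟩).1)) := by
      have := cn c1
      rwa [show n⁻¹ * (t * φ (tT B y 1)) * n = n⁻¹ * t * n * (n⁻¹ * φ (tT B y 1) * n) by group, e1, k,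
        (h.tc (tT B u c')).eq, mul_assoc, ← mul_assoc t, h.t2, one_mul, ← map_mul] at this
    exfalso
    by_cases c : y ∈ F ∙ u
    · obtain ⟨a, rfl⟩ := Submodule.mem_span_singleton.1 c
      refine h.nQ u0 (mul_mem (H.tT_mem_Q u c') ((H.ap_Q u0 β _).1.2 ?_)) c2
      change tT B (a • u) 1 ∈ _
      rw [H.tT_smul]
      exact H.tT_mem_Q _ _
    have ky : P2 B u y := P2.iff.2 ⟨hy, u0, c⟩
    have e2 := congrArg α (hl y ky ⟨_, yP⟩ rfl)
    change α (α⁻¹ (β _).1) = _ at e2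
    rw [MulAut.apply_inv_self, map_mul, H.semi_tT hΓ, H.semi_tT hΓ, map_one, hs, H.tT_smul] at e2
    have k2 : P2 B (Γ u) (Γ (y + l y • u)) := (semi_P2 hΓ).2 (ky.add H _)
    generalize Γ (y + l y • u) = y' at e2 k2
    rw [hs] at k2
    have k3 := k2.smul (inv_ne_zero s0) one_ne_zero
    rw [inv_smul_smul₀ s0, one_smul] at k3
    obtain ⟨r, -, e3⟩ := H.tT_sqrt u (c' + s * s * fa α (m y))
    have o : B y' (r • u) = 0 := by simp [H.swap k3.uw]
    rw [e2, ← mul_assoc, (H.comm_TT k3.uw c' 1).eq, mul_assoc, ← H.tT_add, e3, H.TT_ee o] at c2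
    exact h.nQ (k3.add H r).ne' (H.ee_mem_Q (by simp [H.alt, H.swap k3.uw]) 1) c2
  have le : cj n⁻¹ ((Pu B u).map φ) ≤ (Pu B u).map φ := by
    rw [cj_inv_le_iff_le_cj, map_le_iff_le_comap]
    exact H.gen_Fx (H.ti1 u) fun y hy => mem_comap.2 (mem_cj.2 (key y (H.mem_orth1.1 hy)))
  exact (Subgroup.inv_mem_iff _).1 (mem_Ns_iff.2 (eq_of_le_of_card_ge le (card_cj _ _).ge))

end Cfsg.Lib.SP6
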