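import Cfsg.Agent.SP6.GEN
import Cfsg.Agent.SP6.Z1
import Cfsg.Agent.SP6.K1
import Cfsg.Agent.SP6.K2
import Cfsg.Agent.SP6.K3
import Cfsg.Agent.SP6.K4
import Cfsg.Agent.SP6.KIT
import Cfsg.Agent.SP6.P1a
import Cfsg.Agent.SP6.P1b

/-!
# Standard subgroups of type `Sp_{2k}(2ⁿ)`: fusion of `t` with small involutions
-/

set_option autoImplicit false
set_option linter.unusedSectionVars false
set_option linter.unusedVariables false

namespace Cfsg.Lib.SP6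

open Subgroup Module Cfsg.Lib.Trans Cfsg.Lib.Gold Cfsg.Lib.Class.Form Cfsg.Lib.Class.FAut
open Cfsg.Lib.UM (tT tE VW RR Fx St QW Cf mp Semi fa Mp cx re Ot kk Mx Fr3)
open Cfsg.Lib.SG2 (Uq Top)
open Cfsg.Lib.Comp (Tw)
open scoped commutatorElement

variable {G F M : Type*} [Group G] [Finite G] [Field F] [Finite F] [AddCommGroup M] [Module F M]
  [FiniteDimensional F M] {B : M →ₗ[F] M →ₗ[F] F} {φ φ' : sIsom B →* G} {t : G}

namespace P2a

theorem le_orth {W : Submodule F M} (hW : TotIso B W) : W ≤ orth B W :=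
  fun x hx => mem_orth.2 fun y hy => hW y hy x hx

theorem mem_of (h : Hyp φ t) {A : Subgroup (sIsom B)} {v : sIsom B} {x : G} (hx : x ∈ AA φ t A)
    (e : x = φ v ∨ x = t * φ v) : v ∈ A := by
  have h1 : φ v ∈ AA φ t A := by
    rcases e with rfl | rfl
    · exact hx
    · exact (mul_mem_cancel_left (mem_sup_left (mem_zpowers t))).1 hx
  obtain ⟨w, hw, e | e⟩ := h.mem_AA.1 h1
  · rwa [h.inj e]
  · exact absurd e.symm (h.t_ne _ _)

theorem aux (h : Hyp φ t) {g s : G} {ψ : sIsom B →* G} (eψ : UM.cx φ g = ψ) (es : g * t * g⁻¹ = s)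
    {v v' : sIsom B} (v2 : v * v = 1) (v2' : v' * v' = 1) (e : s = φ v ∨ s = t * φ v)
    (e' : t = ψ v' ∨ t = s * ψ v') : AA φ t (Fx B (Im v)) ≤ AA ψ s (Fx B (Im v')) := by
  subst eψ es
  have h' := h.cx g
  refine sup_le (zpowers_le.2 (h'.mem_AA.2
    ⟨v', h.toMo.VW_le_Fx (le_orth (h.toMo.Im_ti v2')) (Im_le.1 le_rfl), e'⟩))
    (map_le_iff_le_comap.2 (h.toMo.sup_VW (h.toMo.Im_ti v2) fun W hW hle => ?_))
  have hs := h.mem_AA.2 ⟨v, Im_le.1 hle, e⟩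
  have el : ∀ a ∈ AA φ t (VW B W), a * a = 1 := fun a ha =>
    h.sq_AA (fun v hv => h.toMo.sq_VW hW.ti hv) ha
  obtain ⟨W', hW', eW⟩ := h.J_cx hW (g := g) fun a ha => mem_C1.2 (comm_of_sq el a ha _ hs)
  rw [← AA_cx] at eW
  have hv := mem_of h' (eW.le (mem_sup_left (mem_zpowers t))) e'
  exact fun x hx => h'.AA_inj.2 ((h.toMo.VW_le_Fx (le_orth hW'.ti)).trans
    (UM.Fx_anti (Im_le.2 hv))) (eW.le (mem_sup_right ⟨x, hx, rfl⟩))

theorem tri {r s : ℕ} (hr : r ≤ 2) (e : r * (r + 1) / 2 = s * (s + 1) / 2) : s = r := by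
  have hs : s ≤ 2 := by
    by_contra hs
    have h1 : 3 * 4 ≤ s * (s + 1) := Nat.mul_le_mul (by omega) (by omega)
    have h2 : r * (r + 1) ≤ 2 * 3 := Nat.mul_le_mul hr (by omega)
    omega
  interval_cases r <;> interval_cases s <;> simp_all

theorem cj_P (g : sIsom B) (u : M) (x : M) : x ∈ F ∙ u ↔ lin g x ∈ F ∙ lin g u := by
  rw [UM.cj_span _ g, Set.image_singleton]

end P2a

open P2a

theorem H1.p2a (h : H1 φ t) {g : G} {v : sIsom B} (v2 : v * v = 1) (v1 : v ≠ 1)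
    (h2 : finrank F (Im v) ≤ 2) (e : g * t * g⁻¹ = t * φ v) :
    ∃ v', v' * v' = 1 ∧ φ v = UM.cx φ g v' ∧ finrank F (Im v') = finrank F (Im v) ∧
      AA φ t (Fx B (Im v)) = cj g (AA φ t (Fx B (Im v'))) := by
  have h' := h.cx g
  have h0 := h.toHyp.sym (g := g) (h.toHyp.mem_AA.2 ⟨v, mem_top v, .inr e⟩)
  rw [← AA_cx] at h0
  obtain ⟨v', -, e'⟩ := h'.toHyp.mem_AA.1 h0
  have v2' : v' * v' = 1 := h'.inj (by
    have t2 := h.t2
    rw [map_mul, map_one]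
    rcases e' with e' | e'
    · rwa [← e']
    · rwa [e', (h'.tc v').symm.mul_mul_mul_comm, h'.t2, one_mul] at t2)
  have E : AA φ t (Fx B (Im v)) = AA (UM.cx φ g) (g * t * g⁻¹) (Fx B (Im v')) :=
    le_antisymm (aux h.toHyp rfl rfl v2 v2' (.inr e) e')
      (aux h'.toHyp (g := g⁻¹) (MonoidHom.ext fun a => by rw [UM.cx_apply, UM.cx_apply]; group)
        (by group) v2' v2 e' (.inr e))
  have key : ∀ {w : sIsom B}, w * w = 1 → Fx B (Im w) ⊓ Cs (Fx B (Im w)) = VW B (Im w) :=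
    fun w2 => by
      rw [h.toMo.Cs_Fx (h.toMo.Im_ti w2)]
      exact inf_eq_right.2 (h.toMo.VW_le_Fx (le_orth (h.toMo.Im_ti w2)))
  have Z := h.toHyp.Z_AA (Fx B (Im v))
  rw [E, h'.toHyp.Z_AA, key v2, key v2'] at Z
  have c := congrArg (fun A : Subgroup G => Nat.card A) Z
  simp only [h.toHyp.card_AA, h'.toHyp.card_AA, h.toMo.card_VW (h.toMo.Im_ti v2),
    h.toMo.card_VW (h.toMo.Im_ti v2')] at c
  have r := tri h2 (Nat.pow_right_injective h.toMo.two_le (Nat.eq_of_mul_eq_mul_left two_pos c)).symm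
  refine ⟨v', v2', ?_, r, E.trans (AA_cx _ _ _ _)⟩
  obtain ⟨u, u0, hu⟩ := h.toMo.small v2' (fun e1 => v1 (Im_eq_bot.1 (Submodule.finrank_eq_zero.1 (by
    rw [← r, Im_eq_bot.2 e1, finrank_bot])))) (r ▸ h2)
  rcases e' with e' | e'
  · exact absurd (e' ▸ (isConj_iff.2 ⟨g, rfl⟩ : IsConj t (g * t * g⁻¹)).symm) (h'.nQ u0 hu)
  · rw [e, mul_assoc, left_eq_mul] at e'
    rw [eq_inv_of_mul_eq_one_left e', ← map_inv, inv_eq_of_mul_eq_one_right v2']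

theorem H1.p2b (h : H1 φ t) {u : M} (u0 : u ≠ 0) {c : F} (e : IsConj t (t * φ (tT B u c))) :
    ∃ n ∈ Ns ((Pu B u).map φ), n * t * n⁻¹ = t * φ (tT B u c) := by
  by_cases c0 : c = 0
  · exact ⟨1, one_mem _, by rw [c0, h.toMo.tT_zero, map_one]; group⟩
  obtain ⟨g, e⟩ := isConj_iff.1 e
  have r1 : finrank F (Im (tT B u c)) = 1 := by rw [h.toMo.Im_T c0, finrank_span_singleton u0]
  obtain ⟨v', -, -, r, E⟩ := h.p2a (h.toMo.tT_sq u c) (h.toMo.tT_ne u0 c0) (by omega) e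
  obtain ⟨u', u0', rfl⟩ := h.toMo.rank1 (r.trans r1)
  obtain ⟨l, rfl⟩ := h.toMo.tr1 u0 u0'
  rw [h.toMo.Im_T c0, h.toMo.Im_T one_ne_zero, ← (UM.cj_sub (cj_P l u)).2.2.1, ← h.toHyp.cj_AA,
    cj_cj] at E
  have e' : g * φ l * t * (g * φ l)⁻¹ = t * φ (tT B u c) := by
    calc _ = g * (φ l * t * (φ l)⁻¹) * g⁻¹ := by group
      _ = _ := by rw [Comp.conj_eq_of_comm (h.tc l).symm, e]
  exact ⟨g * φ l, h.nP u0 (mem_Ns_iff.2 E.symm) c0 e', e'⟩

theorem Mod.Ns_P (h : Mod φ) {u : M} (u0 : u ≠ 0) :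
    Ns ((Pu B u).map φ) ≤ Ns ((Qu B u).map φ) ⊓ Ns ((RR B u).map φ) := fun g hg => by
  have ti := h.toMo.ti1 u
  refine ⟨?_, ?_⟩
  · have h1 : cj g ((Qu B u).map φ) ≤ (Pu B u).map φ :=
      (cj_mono g (map_mono UM.QW_le_Fx)).trans (mem_Ns_iff.1 hg).le
    have h2 : (Pu B u).map φ ≤ Ns (cj g ((Qu B u).map φ)) := by
      rw [← cj_Ns, ← mem_Ns_iff.1 hg]
      refine cj_mono g ?_
      rintro _ ⟨p, hp, rfl⟩
      exact le_normalizer_map φ ⟨p, (UM.St_le_Ns (UM.Fx_le_St hp)).1.2, rfl⟩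
    have h4 := h.toMo.O2 ti (N := (cj g ((Qu B u).map φ)).comap φ)
      ((isPGroup_cj ((h.toMo.two_QW ti).map φ) g).comap_of_injective φ h.inj)
      (fun a ha => h.mem_map.1 (h1 ha)) fun p hp => Comp.mem_Ns_of fun a ha => by
        have := mem_normalizer_conj (h2 ⟨p, hp, rfl⟩) ha
        rwa [← map_inv, ← map_mul, ← map_mul] at this
    refine mem_normalizer_of_cj_le fun x hx => ?_
    obtain ⟨a, -, rfl⟩ := h1 hx
    exact ⟨a, h4 hx, rfl⟩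
  · have e : (RR B u).map φ = (Pu B u).map φ ⊓ Cs ((Pu B u).map φ) := by
      refine le_antisymm (le_inf (map_mono (h.toMo.VW_le_Fx (le_orth ti))) ?_) ?_
      · rintro _ ⟨a, ha, rfl⟩
        refine mem_Cs.2 ?_
        rintro _ ⟨p, hp, rfl⟩
        exact h.comm.2 (mem_Cs.1 ((h.toMo.Cs_Fx ti).ge ha) p hp)
      · rintro _ ⟨⟨a, -, rfl⟩, ha⟩
        exact ⟨a, (h.toMo.Cs_Fx ti).le
          (mem_Cs.2 fun p hp => h.comm.1 (mem_Cs.1 ha _ ⟨p, hp, rfl⟩)), rfl⟩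
    rw [e]
    exact mem_Ns_inf hg (mem_Ns_Cs hg)

end Cfsg.Lib.SP6
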