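import Cfsg.Agent.SP6.K1
import Cfsg.Agent.SP6.P1a

/-!
# Standard subgroups of type `Sp_{2k}(2ⁿ)`, `k ≥ 3`: the calculus of `KK`, `KS`
-/

set_option autoImplicit false
set_option linter.unusedSectionVars false

namespace Cfsg.Lib.SP6

open Subgroup Module Cfsg.Lib.Trans Cfsg.Lib.Gold Cfsg.Lib.Class.Form Cfsg.Lib.Class.FAut
open Cfsg.Lib.UM (tT tE VW RR Fx St QW Cf mp Semi fa Mp cx re Ot kk Mx Fr3)
open Cfsg.Lib.SG2 (Uq Top)
open Cfsg.Lib.Comp (Tw)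
open scoped commutatorElement

variable {G F M : Type*} [Group G] [Finite G] [Field F] [Finite F] [AddCommGroup M] [Module F M]
  [FiniteDimensional F M] {B : M →ₗ[F] M →ₗ[F] F} {φ φ' : sIsom B →* G} {t : G}

section KS
variable {κ : F} {n n' : G} {u x x' : M} {c c' : F}

namespace P3k

theorem inv_of {a b : G} (e : n * a * n⁻¹ = b) : n⁻¹ * b * n⁻¹⁻¹ = a := by rw [← e]; group

theorem mul_t {a b : G} (e : n * t * n⁻¹ = t * a) (e' : n' * t * n'⁻¹ = t * b) :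
    n * n' * t * (n * n')⁻¹ = t * (a * (n * b * n⁻¹)) := by
  rw [← mul_assoc t, ← e, conj_mul, ← e']; group

theorem mul_c {a b d : G} (e : n * b * n⁻¹ = d) (e' : n' * a * n'⁻¹ = b) :
    n * n' * a * (n * n')⁻¹ = d := by
  rw [← e, ← e']; group

theorem inv_t {a b : G} (a2 : a * a = 1) (e : n * t * n⁻¹ = t * a) (e' : n⁻¹ * a * n⁻¹⁻¹ = b) :
    n⁻¹ * t * n⁻¹⁻¹ = t * b := by
  calc _ = n⁻¹ * (t * a) * n⁻¹⁻¹ * (n⁻¹ * a * n⁻¹⁻¹) := by rw [conj_mul, mul_assoc t, a2, mul_one]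
    _ = _ := by rw [inv_of e, e']

theorem cj_c (g : sIsom B) {a b : sIsom B} (e : n * φ a * n⁻¹ = φ b) :
    φ g * n * (φ g)⁻¹ * φ (g * a * g⁻¹) * (φ g * n * (φ g)⁻¹)⁻¹ = φ (g * b * g⁻¹) := by
  simp only [map_mul, map_inv, ← e]; group

theorem cj_t (h : H1 φ t) (g : sIsom B) {a : sIsom B} (e : n * t * n⁻¹ = t * φ a) :
    φ g * n * (φ g)⁻¹ * t * (φ g * n * (φ g)⁻¹)⁻¹ = t * φ (g * a * g⁻¹) := by
  have k : t = φ g * t * (φ g)⁻¹ := by rw [← (h.tc g).eq, mul_inv_cancel_right]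
  rw [← h.toHyp.conj_t, ← e]
  conv_lhs => rw [k]
  group

theorem pull (g : sIsom B) {y : M} (hy : B (lin g u) y = 0) :
    ∃ z, B u z = 0 ∧ y = lin g z :=
  ⟨lin g⁻¹ y, by rw [← lin_isom g, lin_lin_inv, hy], (lin_lin_inv g y).symm⟩

theorem ee2 (h : H1 φ t) (hx : B u x = 0) (c : F) : φ (ee B u x c) * φ (ee B u x c) = 1 := by
  rw [← map_mul, h.toMo.ee_sq hx, map_one]

theorem ee0 (h : H1 φ t) (u : M) : φ (ee B u 0 0) = 1 := by
  rw [h.toMo.ee_zero', h.toMo.tT_zero, map_one]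

end P3k

open P3k

theorem KS.kk (k : KS φ t κ n u x c) : KK φ t n u x c := ⟨k.1, fun y hy d => ⟨_, k.2 y hy d⟩⟩

theorem KK.Ns (h : H1 φ t) (u0 : u ≠ 0) (k : KK φ t n u x c) : n ∈ Ns ((Qu B u).map φ) :=
  Comp.mem_Ns_of (by
    rintro _ ⟨v, hv, rfl⟩
    obtain ⟨y, d, hy, rfl⟩ := (h.toMo.mem_Q u0).1 hv
    obtain ⟨d', e⟩ := k.2 y hy d
    exact ⟨_, h.toMo.ee_mem_Q hy d', e.symm⟩)

theorem KK.mul (h : H1 φ t) (hx : B u x = 0) (hx' : B u x' = 0) (k : KK φ t n u x c)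
    (k' : KK φ t n' u x' c') : ∃ d, KK φ t (n * n') u (x + x') d := by
  obtain ⟨d, e⟩ := k.2 x' hx' c'
  refine ⟨_, by rw [mul_t k.1 k'.1, e, ← map_mul, h.toMo.ee_mul hx hx'], fun y hy a => ?_⟩
  obtain ⟨b, e1⟩ := k'.2 y hy a
  obtain ⟨b', e2⟩ := k.2 y hy b
  exact ⟨b', mul_c e2 e1⟩

theorem KK.inv (h : H1 φ t) (u0 : u ≠ 0) (hx : B u x = 0) (k : KK φ t n u x c) :
    ∃ d, KK φ t n⁻¹ u x d := by
  have a : ∀ y, B u y = 0 → ∀ c', ∃ c'', n⁻¹ * φ (ee B u y c') * n⁻¹⁻¹ = φ (ee B u y c'') :=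
    fun y hy c' => by
      choose f hf using k.2 y hy
      have fi : Function.Injective f := fun a b e => by
        have := hf a
        rw [e, ← hf] at this
        exact ((h.toMo.ee_inj u0 hy hy).1 (h.inj (mul_left_cancel (mul_right_cancel this)))).2
      obtain ⟨d, rfl⟩ := Finite.surjective_of_injective fi c'
      exact ⟨d, inv_of (hf d)⟩
  obtain ⟨d, e⟩ := a x hx c
  exact ⟨d, inv_t (ee2 h hx c) k.1 e, a⟩

theorem KK.cj (h : H1 φ t) (hx : B u x = 0) (k : KK φ t n u x c) (g : sIsom B) :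
    KK φ t (φ g * n * (φ g)⁻¹) (lin g u) (lin g x) c := by
  refine ⟨by rw [cj_t h g k.1, h.toMo.ee_conj g hx], fun y hy d => ?_⟩
  obtain ⟨z, hz, rfl⟩ := pull g hy
  obtain ⟨d', e⟩ := k.2 z hz d
  exact ⟨d', by rw [← h.toMo.ee_conj g hz, ← h.toMo.ee_conj g hz, cj_c g e]⟩

theorem KK.cB (h : H1 φ t) (u0 : u ≠ 0) (hx : B u x = 0) (k : KK φ t n u x c) {y : M}
    (h1 : B u y = 0) (h2 : B x y = 0) (d : F) : Commute n (φ (ee B u y d)) := by
  have m := h.toMo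
  refine (mem_C1.1 (m.gen_B u0 hx (H := (C1 n).comap φ) (fun y a hy hxy yu => ?_) h1 h2 d)).symm
  obtain ⟨c', k'⟩ := k.inv h u0 hx
  have fu : lin (tT B y 1) u = u := by rw [m.lin_tT, m.swap hy, mul_zero, zero_smul, add_zero]
  have fx : lin (tT B y 1) x = x := by rw [m.lin_tT, m.swap hxy, mul_zero, zero_smul, add_zero]
  have k1 := k'.cj h hx (tT B y 1)
  rw [fu, fx] at k1
  obtain ⟨d1, k2⟩ := KK.mul h hx hx k k1
  rw [m.vadd_self] at k2
  -- `s = n T n⁻¹ T⁻¹` centralises `Q`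
  have st : Commute (φ (tT B y 1)) (n⁻¹ * t * n⁻¹⁻¹) := by
    rw [k'.1]
    refine (h.tc _).symm.mul_right (Commute.map ((m.comm_ee u0 hx fu c').2 ?_) φ)
    rw [fx, m.vadd_self]
    exact zero_mem _
  have k3 : KK φ t (n * (φ (tT B y 1) * n⁻¹ * (φ (tT B y 1))⁻¹)) u 0 0 := by
    refine ⟨?_, k2.2⟩
    rw [ee0 h, mul_one]
    calc _ = n * (φ (tT B y 1) * (n⁻¹ * ((φ (tT B y 1))⁻¹ * t * φ (tT B y 1)) * n⁻¹⁻¹) *
          (φ (tT B y 1))⁻¹) * n⁻¹ := by group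
      _ = _ := by
        rw [mul_assoc _ t, (h.tc _).eq, inv_mul_cancel_left, st.eq]; group
  obtain ⟨v, hv, o, ho, e⟩ := h.cK u0 k3
  have cq : ∀ w ∈ Qu B u, Commute (n * (φ (tT B y 1) * n⁻¹ * (φ (tT B y 1))⁻¹)) (φ w) :=
    fun w hw => by
      have := ((m.comm_Q u0 hv hw).map φ)
      rcases e with e | e <;> rw [e]
      · exact this.mul_left (Ot_comm ho w)
      · exact ((h.tc w).mul_left this).mul_left (Ot_comm ho w)
  obtain ⟨p, hp, hp'⟩ := m.dual2 u0 yu 0 a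
  obtain ⟨b, e1⟩ := k.2 p hp 0
  have f0 := m.comm_T hp hy 0 1
  have fb := m.comm_T hp hy b 1
  rw [hp', one_mul] at f0 fb
  have e2 := (cq _ ((mem_normalizer_iff.1 (UM.St_le_Ns (UM.Fx_le_St (UM.mem_Fx1.2 fu))).1.2 _).1
    (m.ee_mem_Q hp b))).eq
  rw [map_mul, map_mul, map_inv, ← e1] at e2
  rw [mem_comap, mem_C1]
  conv_lhs => rw [← fb]
  rw [← f0, map_commutatorElement, map_commutatorElement, ← e1, commutatorElement_def,
    commutatorElement_def]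
  generalize φ (tT B y 1) = T at *
  generalize φ (ee B u p 0) = E at *
  have e3 : n * (T * E * T⁻¹) * n⁻¹ = T * (n * E * n⁻¹) * T⁻¹ := by
    calc _ = n * (T * n⁻¹ * T⁻¹) * (T * (n * E * n⁻¹) * T⁻¹) * (n * (T * n⁻¹ * T⁻¹))⁻¹ := by
          group
      _ = _ := by rw [e2, mul_inv_cancel_right]
  rw [← e3]
  group

theorem KS.mul (h : H1 φ t) (hx : B u x = 0) (hx' : B u x' = 0) (k : KS φ t κ n u x c)
    (k' : KS φ t κ n' u x' c') : KS φ t κ (n * n') u (x + x') (c + c' + (1 + κ) * B x x') := by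
  refine ⟨?_, fun y hy a => ?_⟩
  · rw [mul_t k.1 k'.1, k.2 x' hx', ← map_mul, h.toMo.ee_mul hx hx']
    congr 3; ring
  · rw [mul_c (k.2 y hy _) (k'.2 y hy a), map_add, LinearMap.add_apply]
    congr 2; ring

theorem KS.inv (h : H1 φ t) (hx : B u x = 0) (k : KS φ t κ n u x c) : KS φ t κ n⁻¹ u x c := by
  have a : ∀ y, B u y = 0 → ∀ c', n⁻¹ * φ (ee B u y c') * n⁻¹⁻¹ = φ (ee B u y (c' + κ * B x y)) :=
    fun y hy c' => inv_of (by rw [k.2 y hy, add_assoc, h.toMo.add_self, add_zero])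
  refine ⟨inv_t (ee2 h hx c) k.1 ?_, a⟩
  rw [a x hx, h.alt, mul_zero, add_zero]

theorem KS.cj (h : H1 φ t) (hx : B u x = 0) (k : KS φ t κ n u x c) (g : sIsom B) :
    KS φ t κ (φ g * n * (φ g)⁻¹) (lin g u) (lin g x) c := by
  refine ⟨by rw [cj_t h g k.1, h.toMo.ee_conj g hx], fun y hy d => ?_⟩
  obtain ⟨z, hz, rfl⟩ := pull g hy
  rw [← h.toMo.ee_conj g hz, ← h.toMo.ee_conj g hz, cj_c g (k.2 z hz d), lin_isom]

theorem KS.shift (h : H1 φ t) (hx : B u x = 0) (k : KS φ t κ n u x c) (a : F) :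
    KS φ t κ n u (x + a • u) c :=
  ⟨by rw [h.toMo.ee_add_self hx, k.1], fun y hy d => by
    rw [k.2 y hy, map_add, map_smul, LinearMap.add_apply, LinearMap.smul_apply, hy, smul_zero,
      add_zero]⟩

theorem KS.smul (h : H1 φ t) (hx : B u x = 0) {a : F} (ha : a ≠ 0) :
    KS φ t κ n (a • u) x c ↔ KS φ t κ n u (a • x) (a * a * c) := by
  have m := h.toMo
  refine and_congr (by rw [m.ee_smul hx]) ⟨fun k y hy d => ?_, fun k y hy d => ?_⟩
  · have hy' : B u (a⁻¹ • y) = 0 := by rw [map_smul, hy, smul_zero]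
    have := k (a⁻¹ • y) (by rw [map_smul B, LinearMap.smul_apply, hy', smul_zero]) (a⁻¹ * a⁻¹ * d)
    rw [m.ee_smul hy', m.ee_smul hy', smul_inv_smul₀ ha,
      show a * a * (a⁻¹ * a⁻¹ * d) = d by field_simp] at this
    rw [this, map_smul, map_smul, LinearMap.smul_apply, smul_eq_mul, smul_eq_mul]
    congr 2; field_simp
  · have hy' : B u y = 0 := by
      rw [map_smul, LinearMap.smul_apply, smul_eq_mul] at hy
      exact (mul_eq_zero.1 hy).resolve_left ha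
    rw [m.ee_smul hy', m.ee_smul hy', k _ (by rw [map_smul, hy', smul_zero]), map_smul, map_smul,
      LinearMap.smul_apply, smul_eq_mul, smul_eq_mul]
    congr 2; ring

theorem KS.of_cq (h : H1 φ t) (h1 : n ∈ Cs ((Qu B u).map φ)) (h2 : n * t * n⁻¹ = t * φ (tT B u c)) :
    KS φ t κ n u 0 c :=
  ⟨by rw [h.toMo.ee_zero', h2], fun y hy d => by
    rw [← mem_Cs.1 h1 _ (mem_map_of_mem φ (h.toMo.ee_mem_Q hy d)), mul_inv_cancel_right, map_zero,
      LinearMap.zero_apply, mul_zero, add_zero]⟩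

theorem KS.cq (h : H1 φ t) (u0 : u ≠ 0) (k : KS φ t κ n u 0 c) : n ∈ Cs ((Qu B u).map φ) :=
  mem_Cs.2 (by
    rintro _ ⟨v, hv, rfl⟩
    obtain ⟨y, d, hy, rfl⟩ := (h.toMo.mem_Q u0).1 hv
    have := k.2 y hy d
    rw [map_zero, LinearMap.zero_apply, mul_zero, add_zero] at this
    exact (mul_inv_eq_iff_eq_mul.1 this).symm)

theorem KS.base (h : H1 φ t) (u0 : u ≠ 0) {v : sIsom B} (hv : v ∈ Qu B u) {o : G} (ho : o ∈ Ot φ t) :
    KS φ t κ (φ v * o) u 0 0 ∧ KS φ t κ (t * φ v * o) u 0 0 := by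
  have a : φ v ∈ Cs ((Qu B u).map φ) := mem_Cs.2 (by
    rintro _ ⟨w, hw, rfl⟩
    exact (h.toMo.comm_Q u0 hw hv).map φ)
  have b := Cs_anti (map_le_range φ (Qu B u))
  have e : ∀ z : G, Commute z t → z * t * z⁻¹ = t * φ (tT B u 0) := fun z hz => by
    rw [hz.eq, mul_inv_cancel_right, h.toMo.tT_zero, map_one, mul_one]
  exact ⟨.of_cq h (mul_mem a (b (Ot_le ho).2)) (e _ ((h.tc v).symm.mul_left (P1a.Ot_t ho))),
    .of_cq h (mul_mem (mul_mem (b h.toHyp.tC) a) (b (Ot_le ho).2))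
      (e _ (((Commute.refl t).mul_left (h.tc v).symm).mul_left (P1a.Ot_t ho)))⟩

theorem KS.uniq (h : H1 φ t) (u0 : u ≠ 0) (hx : B u x = 0) (k : KS φ t κ n u x c)
    (k' : KS φ t κ n' u x c) :
    ∃ v ∈ Qu B u, ∃ o ∈ Ot φ t, n' = n * φ v * o ∨ n' = n * t * φ v * o := by
  have := (k.inv h hx).mul h hx hx k'
  rw [h.toMo.vadd_self, h.alt, mul_zero, add_zero, h.toMo.add_self] at this
  obtain ⟨v, hv, o, ho, e⟩ := h.cK u0 this.kk
  refine ⟨v, hv, o, ho, e.imp (fun e => ?_) fun e => ?_⟩ <;>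
    simp only [inv_mul_eq_iff_eq_mul.1 e, mul_assoc]

theorem KS.pow (h : H1 φ t) (hx : B u x = 0) (k : KS φ t κ n u x c) {m : ℕ} (hm : Odd m) :
    KS φ t κ (n ^ m) u x c := by
  obtain ⟨j, rfl⟩ := hm
  have k2 := k.mul h hx hx k
  rw [h.toMo.vadd_self, h.alt, mul_zero, add_zero, h.toMo.add_self] at k2
  induction j with
  | zero => simpa using k
  | succ j ih =>
    have := ih.mul h hx (map_zero _) k2
    rwa [add_zero, add_zero, map_zero, mul_zero, add_zero, ← pow_two, ← pow_add] at this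

theorem H3.kk (h : H3 φ t κ) (u0 : u ≠ 0) (hx : B u x = 0) (k : KK φ t n u x c) :
    KS φ t κ n u x c := by
  obtain ⟨n0, k0⟩ := h.ks u x u0 hx
  obtain ⟨d, k1⟩ := (k0.inv h.toH1 hx).kk.mul h.toH1 hx hx k
  rw [h.toMo.vadd_self] at k1
  refine ⟨k.1, fun y hy a => ?_⟩
  have := k1.cB h.toH1 u0 (map_zero _) hy (by rw [map_zero, LinearMap.zero_apply]) a
  calc _ = n0 * (n0⁻¹ * n * φ (ee B u y a) * (n0⁻¹ * n)⁻¹) * n0⁻¹ := by group
    _ = _ := by rw [this.eq, mul_inv_cancel_right, k0.2 y hy]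

end KS

end Cfsg.Lib.SP6
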