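import Cfsg.Agent.SP6.A1
import Cfsg.Agent.SP6.A2
import Cfsg.Agent.SP6.AP
import Cfsg.Agent.SP6.II
import Cfsg.Agent.SP6.K1
import Cfsg.Agent.SP6.K2
import Cfsg.Agent.SP6.K3
import Cfsg.Agent.SP6.K4
import Cfsg.Agent.SP6.KIT
import Cfsg.Agent.SP6.LDa
import Cfsg.Agent.SP6.LIFT
import Cfsg.Agent.SP6.P1a
import Cfsg.Agent.SP6.P2a
import Cfsg.Agent.SP6.P3k
import Cfsg.Agent.SP6.P6a
import Cfsg.Agent.SP6.P8d
import Cfsg.Agent.SP6.SUB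

/-!
# Standard subgroups of type `Sp_{2k}(2ⁿ)`, `k ≥ 3`: fusion of involutions of rank two
-/

set_option autoImplicit false
set_option linter.unusedSectionVars false

namespace Cfsg.Lib.SP6

open Subgroup Module Cfsg.Lib.Trans Cfsg.Lib.Gold Cfsg.Lib.Class.Form Cfsg.Lib.Class.FAut
open Cfsg.Lib.UM (tT tE VW RR Fx St QW Cf mp Semi fa Mp cx re Ot kk Mx Fr3)

variable {G F M : Type*} [Group G] [Finite G] [Field F] [Finite F] [AddCommGroup M] [Module F M]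
  [FiniteDimensional F M] {B : M →ₗ[F] M →ₗ[F] F} {φ φ' : sIsom B →* G} {t : G}

theorem P2c.mem (h : Hyp φ t) {A : Subgroup (sIsom B)} {a : sIsom B} : φ a ∈ AA φ t A ↔ a ∈ A := by
  rw [h.mem_AA]
  exact ⟨fun ⟨v, hv, e⟩ => e.elim (fun e => h.inj e ▸ hv) fun e => absurd e.symm (h.t_ne _ _),
    fun ha => ⟨a, ha, .inl rfl⟩⟩

theorem P2c.act (h : Hyp φ t) {A : Subgroup (sIsom B)} {k : G} (hk : k ∈ AA φ t A) :
    ∃ g ∈ A, ∀ y, Commute y t → k * y * k⁻¹ = φ g * y * (φ g)⁻¹ := by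
  obtain ⟨g, hg, rfl | rfl⟩ := h.mem_AA.1 hk
  · exact ⟨g, hg, fun _ _ => rfl⟩
  · exact ⟨g, hg, fun y hy => by
      rw [(h.tc g).eq, mul_inv_rev, mul_assoc (φ g), ← hy.eq]; group⟩

theorem P2c.basis {W : Submodule F M} (hW : TotIso B W) (h2 : finrank F W = 2) :
    ∃ u w, P2 B u w ∧ l2 F u w = W := by
  let b := finBasisOfFinrankEq F W h2
  have k : P2 B (b 0 : M) (b 1) := ⟨hW _ (b 0).2 _ (b 1).2, by
    have e : ![(b 0 : M), b 1] = W.subtype ∘ b := funext fun i => by fin_cases i <;> rfl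
    exact e ▸ b.linearIndependent.map' W.subtype W.ker_subtype⟩
  refine ⟨_, _, k, Submodule.eq_of_le_of_finrank_eq (Submodule.span_le.2 ?_) (k.rank.trans h2.symm)⟩
  rintro _ (rfl | rfl)
  exacts [(b 0).2, (b 1).2]

open P2c in
theorem H1.p2c (h : H1 φ t) {u x : M} (k : P2 B u x) {c : F} (e : IsConj t (t * φ (ee B u x c))) :
    ∃ n ∈ Ns (AA φ t (Qu B u)), n * t * n⁻¹ = t * φ (ee B u x c) := by
  have m := h.toMo
  obtain ⟨g, hg⟩ := isConj_iff.1 e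
  have v2 := m.ee_sq k.uw c
  have vQ := m.ee_mem_Q k.uw c
  obtain ⟨v', v2', -, r2, hK⟩ := h.p2a v2 (fun e => k.not_mem ((m.ee_eq_one k.ne k.uw).1 e).1)
    (by rw [m.Im_ee k, k.rank]) hg
  rw [m.Im_ee k] at r2 hK
  obtain ⟨u1, w1, k1, e1⟩ := basis (m.Im_ti v2') (r2.trans k.rank)
  have h' := h.cx g
  rw [← AA_cx, ← e1] at hK
  set s := g * t * g⁻¹
  set ψ := UM.cx φ g
  have ti := m.ti2 k.uw
  have ul : (F ∙ u) ≤ l2 F u x := Submodule.span_mono (by simp)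
  have nQ : Fx B (l2 F u x) ≤ Ns (Qu B u) := fun a ha =>
    (UM.St_le_Ns (UM.Fx_le_St (UM.Fx_anti ul ha))).1.2
  have nF : Qu B u ≤ Ns (Fx B (l2 F u x)) := fun a ha => (UM.St_le_Ns (m.QW_le_St ti ul ha)).2
  have vF : ee B u x c ∈ Fx B (l2 F u x) := mem_Fx2.2 ⟨by
    simp [m.lin_ee k.uw, m.alt, m.swap k.uw], by simp [m.lin_ee k.uw, m.alt, k.uw]⟩
  have YK : AA φ t (Qu B u ⊓ Fx B (l2 F u x)) ≤ AA ψ s (Fx B (l2 F u1 w1)) :=
    hK ▸ h.toHyp.AA_inj.2 inf_le_right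
  obtain ⟨N, hN⟩ := h'.toHyp.AA_lift (Y := AA φ t (Qu B u ⊓ Fx B (l2 F u x)))
    (h.toHyp.mem_AA.2 ⟨_, ⟨vQ, vF⟩, .inr hg⟩) (YK.trans (h'.toHyp.AA_inj.2 le_top))
  have key : ∀ g1 ∈ Fx B (l2 F u1 w1), ∃ g0 ∈ Fx B (l2 F u x), ∀ y, Commute y t →
      ψ g1 * y * (ψ g1)⁻¹ = φ g0 * y * (φ g0)⁻¹ := fun g1 h1 =>
    act h.toHyp (hK ▸ (mem h'.toHyp).2 h1)
  obtain ⟨u', w', k', e', hB⟩ := m.subm k1 (N := N) (fun a ha => h'.inj (by
      rw [map_mul, map_one]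
      exact h.toHyp.sq_AA (A := Qu B u ⊓ Fx B (l2 F u x)) (fun a ha => m.sq_Q k.ne ha.1)
        (hN ▸ (mem h'.toHyp).2 ha)))
    (h'.toHyp.AA_inj.1 (hN ▸ YK)) fun g1 h1 => Comp.mem_Ns_of fun a ha => by
      obtain ⟨g0, h0, e⟩ := key g1 h1
      have h2 : ψ a ∈ AA φ t _ := hN ▸ (mem h'.toHyp).2 ha
      rw [← mem h'.toHyp, ← hN, map_mul, map_mul, map_inv, e _ (mem_C1.1 (h.toHyp.AA_le _ h2))]
      obtain ⟨b, hb, e | e⟩ := h.toHyp.mem_AA.1 h2 <;> rw [e] <;>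
        refine h.toHyp.mem_AA.2 ⟨g0 * b * g0⁻¹, ⟨(mem_normalizer_iff.1 (nQ h0) b).1 hb.1,
          (Fx B _).mul_mem ((Fx B _).mul_mem h0 hb.2) ((Fx B _).inv_mem h0)⟩, ?_⟩
      exacts [.inl (by simp), .inr (h.toHyp.conj_t _ _)]
  rw [← e'] at key hK
  have un : ((Qu B u).map φ : Set G) ⊆ AA ψ s (Qu B u') ∪ AA ψ s (BV B u' w') := by
    rintro _ ⟨q, hq, rfl⟩
    have c1 : Commute (φ q) s := by
      rw [hg]
      exact (h.tc q).symm.mul_right ((m.comm_Q k.ne hq vQ).map φ)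
    have a2 : φ q * φ q = 1 := by rw [← map_mul, m.sq_Q k.ne hq, map_one]
    obtain ⟨α, -, -, hα, -⟩ := h'.toHyp.semi c1
    obtain ⟨l, rfl, hl⟩ := m.act2 k' (h'.toMod.mp_sq hα a2) fun g1 h1 => hB (by
      obtain ⟨g0, h0, e⟩ := key g1 h1
      rw [← mem h'.toHyp, ← hN, map_mul, map_inv, ← hα, mul_assoc (φ q), mul_assoc (φ q),
        e _ (h.tc q).symm.inv_left, ← map_inv, ← map_inv, ← map_mul, ← map_mul, ← map_mul,
        mem h.toHyp]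
      exact ⟨mul_mem hq ((mem_normalizer_iff.1 (nQ h0) _).1 (inv_mem hq)), by
        simpa [mul_assoc] using mul_mem ((mem_normalizer_iff.1 (nF hq) _).1 h0) (inv_mem h0)⟩)
    obtain ⟨l1, -, e⟩ := h'.toHyp.inn c1 a2 hα (m.fa_conj l)
    obtain rfl : l = l1 := m.conj_inj (h'.toMod.mp_uniq hα (by
      rcases e with e | e <;> rw [e]
      · exact UM.Mp.self l1
      · exact one_mul (MulAut.conj l1) ▸ (UM.Mp.of_Cs h'.toHyp.tC).mul (UM.Mp.self l1)))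
    exact hl.imp (fun hl => h'.toHyp.mem_AA.2 ⟨l, hl, e⟩) fun hl => h'.toHyp.mem_AA.2 ⟨l, hl, e⟩
  rcases SubgroupClass.subset_union.1 un with h1 | h1
  · have h2 : AA φ t (Qu B u) = AA ψ s (Qu B u') := eq_of_le_of_card_ge (sup_le (zpowers_le.2 (by
        have := mul_mem (mem_sup_left (mem_zpowers s) : s ∈ AA ψ s (Qu B u')) (h1 ⟨_, vQ, rfl⟩)
        rwa [hg, mul_assoc, ← map_mul, v2, map_one, mul_one, ← hg] at this)) h1) (by
      rw [h.toHyp.card_AA, h'.toHyp.card_AA, m.card_Q k.ne, m.card_Q k'.ne])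
    obtain ⟨l, hl⟩ := m.tr1 k.ne k'.ne
    refine ⟨g * φ l, mem_Ns_iff.2 ?_, by
      rw [← hg, mul_assoc g, ← (h.tc l).eq, mul_inv_rev, ← mul_assoc g t, ← mul_assoc,
        mul_inv_cancel_right]⟩
    have h3 := (UM.cj_sub (B := B) (UM.cj_span {u} l)).2.1
    rw [Set.image_singleton, hl] at h3
    rw [cj_mul, h.toHyp.cj_AA, h3, ← AA_cx, h2]
  · obtain ⟨p, h2, h3⟩ := m.dual2 k.ne k.not_mem 0 1
    have h4 := h1.trans (h'.toHyp.AA_inj.2 fun a ha => ((m.mem_BV' k').1 ha).1)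
    rw [← hK] at h4
    have h5 := (mem_Fx2.1 ((mem h.toHyp).1 (h4 ⟨_, m.tE_mem_Q h2, rfl⟩))).2
    rw [m.lin_tE h2, k.uw, m.symm, h3, zero_smul, add_zero, one_smul, add_eq_left] at h5
    exact absurd h5 k.ne

end Cfsg.Lib.SP6
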