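import Cfsg.Agent.SP6.K1
import Cfsg.Agent.SP6.K4
import Cfsg.Agent.SP6.KIT

/-!
# Standard subgroups of type `Sp_{2k}(2ⁿ)`: extension of the short translations to all pairs
-/

set_option autoImplicit false
set_option linter.unusedSectionVars false
set_option linter.unusedVariables false

namespace Cfsg.Lib.SP6

open Subgroup Module Cfsg.Lib.Trans Cfsg.Lib.Gold Cfsg.Lib.Class.Form Cfsg.Lib.Class.FAut
open Cfsg.Lib.UM (tT tE VW RR Fx St QW Cf mp Semi fa Mp cx re Ot kk Mx Fr3)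
open Cfsg.Lib.SG2 (Uq Top)
open Cfsg.Lib.Comp (Tw)
open scoped commutatorElement

variable {G F M : Type*} [Group G] [Finite G] [Field F] [Finite F] [AddCommGroup M] [Module F M]
  [FiniteDimensional F M] {B : M →ₗ[F] M →ₗ[F] F} {φ φ' : sIsom B →* G} {t : G} {κ β : F}
  {H : M → M → G}

theorem H5.h6 (h : H5 φ t κ H) : ∃ H', H6 φ t κ H' := by
  classical
  have m := h.toMo
  obtain ⟨K, hK⟩ : ∃ K : M → M → G, ∀ u w, K u w = if P2 B u w then H u w else
    if hx : ∃ a : F, w = a • u then φ (tT B u (κ * hx.choose)) else 1 := ⟨_, fun _ _ => rfl⟩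
  have k1 : ∀ {u w}, P2 B u w → K u w = H u w := fun k => by rw [hK, if_pos k]
  have k2 : ∀ (a : F) u, K u (a • u) = φ (tT B u (κ * a)) := fun a u => by
    have hx : ∃ b : F, a • u = b • u := ⟨a, rfl⟩
    rw [hK, if_neg fun k => k.not_mem (Submodule.smul_mem _ a (Submodule.mem_span_singleton_self u)),
      dif_pos hx]
    by_cases u0 : u = 0
    · subst u0
      rw [m.tT_zero', m.tT_zero']
    · rw [← smul_left_injective F u0 hx.choose_spec]
  have k3 : ∀ {u w}, ¬ P2 B u w → (¬ ∃ a : F, w = a • u) → K u w = 1 := fun k k' => by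
    rw [hK, if_neg k, dif_neg k']
  refine ⟨K, ⟨h.toH3, fun u w k => k1 k ▸ h.sh u w k,
    fun g u w k => by rw [k1 k, k1 (k.lin g), h.eqv g u w k], fun u w k => k1 k ▸ h.sq u w k,
    fun u x y k => by rw [k1 (k.p2 m).1, k1 (k.p2 m).2.1, k1 (k.p2 m).2.2.2, h.add u x y k],
    fun u w k => by rw [k1 k, k1 (k.symm m), h.swap u w k]⟩,
    fun u w k => k3 (fun e => k e.uw) fun ⟨a, e⟩ => k (by rw [e, map_smul, m.alt, smul_zero]), k2,
    fun w => ?_, fun g u w => ?_⟩
  · by_cases e : ∃ a : F, w = a • (0 : M)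
    · obtain ⟨a, rfl⟩ := e
      rw [k2, m.tT_zero', map_one]
    · exact k3 (fun k => k.ne rfl) e
  by_cases k : P2 B u w
  · rw [k1 k, k1 (k.lin g), h.eqv g u w k]
  by_cases e : ∃ a : F, w = a • u
  · obtain ⟨a, rfl⟩ := e
    rw [map_smul, k2, k2, ← m.tT_conj, map_mul, map_mul, map_inv]
  · rw [k3 k e, k3 (fun k' => k (by simpa using k'.lin g⁻¹)) fun ⟨a, e'⟩ =>
      e ⟨a, (lin g).injective (by rw [e', map_smul])⟩, mul_one, mul_inv_cancel]

theorem H6.cases (h : H6 φ t κ H) {u w : M} (k : B u w = 0) :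
    P2 B u w ∨ u = 0 ∨ ∃ a : F, w = a • u := by
  by_contra! hn
  exact hn.1 (P2.iff.2 ⟨k, hn.2.1, fun e =>
    let ⟨a, e⟩ := Submodule.mem_span_singleton.1 e; hn.2.2 a e.symm⟩)

theorem H6.ht (h : H6 φ t κ H) {u w : M} (k : B u w = 0) :
    H u w * t * (H u w)⁻¹ = t * φ (tE B u w) := by
  rcases h.cases k with e | rfl | ⟨a, rfl⟩
  · rw [(h.sh u w e).ku.1, h.toMo.ee_zero]
  · rw [h.zero', h.toMo.tE_zero', map_one]; group
  · rw [h.self, h.toMo.tE_self, map_one, ← (h.tc _).eq]; group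

theorem H6.sq' (h : H6 φ t κ H) (u w : M) : H u w * H u w = 1 := by
  by_cases k : B u w = 0
  · rcases h.cases k with e | rfl | ⟨a, rfl⟩
    · exact h.sq u w e
    · rw [h.zero', mul_one]
    · rw [h.self, ← map_mul, h.toMo.tT_sq, map_one]
  · rw [h.junk u w k, mul_one]

theorem H6.cO (h : H6 φ t κ H) (u w : M) : H u w ∈ Cs (Ot φ t) := by
  by_cases k : B u w = 0
  · rcases h.cases k with e | rfl | ⟨a, rfl⟩
    · exact (h.sh u w e).cO
    · rw [h.zero']; exact one_mem _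
    · rw [h.self]; exact L_le_Cs_Ot ⟨_, rfl⟩
  · rw [h.junk u w k]; exact one_mem _

theorem H6.zero (h : H6 φ t κ H) (u : M) : H u 0 = 1 := by
  rw [← zero_smul F u, h.self, mul_zero, h.toMo.tT_zero, map_one]

theorem H6.swap' (h : H6 φ t κ H) {u w : M} (k : B u w = 0) :
    H w u = H u w * φ (tE B u (κ • w)) := by
  rcases h.cases k with e | rfl | ⟨a, rfl⟩
  · exact h.swap u w e
  · rw [h.zero, h.zero', h.toMo.tE_zero', map_one, mul_one]
  · rw [smul_smul, h.toMo.tE_self, map_one, mul_one]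
    by_cases a0 : a = 0
    · rw [a0, zero_smul, h.zero, h.zero']
    · have := h.self a⁻¹ (a • u)
      rw [smul_smul, inv_mul_cancel₀ a0, one_smul] at this
      rw [this, h.self, h.toMo.tT_smul]
      congr 2
      field_simp

theorem H6.actQ (h : H6 φ t κ H) {u w y : M} (k : B u w = 0) (k' : B u y = 0) :
    H u w * φ (tE B u y) * (H u w)⁻¹ = φ (ee B u y (κ * B w y)) := by
  have m := h.toMo
  rcases h.cases k with e | rfl | ⟨a, rfl⟩
  · rw [← m.ee_zero, (h.sh u w e).ku.2 y k' 0, zero_add]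
  · rw [h.zero', ee, m.tT_zero']; group
  · rw [h.self, ← map_inv, ← map_mul, ← map_mul, m.tE_conj _ k', m.lin_tT, m.lin_tT, m.alt, k',
      map_smul, LinearMap.smul_apply, k']
    simp [m.ee_zero]

theorem H6.shift (h : H6 φ t κ H) {u w : M} (k : B u w = 0) (a : F) :
    H u (w + a • u) = H u w * φ (tT B u (κ * a)) := by
  have m := h.toMo
  rcases h.cases k with e | rfl | ⟨b, rfl⟩
  · obtain ⟨p, h1, h2⟩ := m.dual2 e.ne e.not_mem 0 a
    have e1 := h.eqv' (tE B u p) u w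
    rw [m.lin_tE h1, m.lin_tE h1, m.alt, k, m.swap h1, ← m.symm w p, h2, zero_smul, add_zero,
      zero_smul, add_zero, add_zero] at e1
    have e2 := h.actQ k h1
    have e3 := inv_eq_of_mul_eq_one_right (h.sq u w e)
    rw [h2, e3] at e2
    have e4 : φ (tE B u p) * H u w = H u w * φ (ee B u p (κ * a)) := by
      rw [← e2, ← mul_assoc, ← mul_assoc, h.sq u w e, one_mul]
    rw [← e1, e4, mul_assoc, ← map_inv, ← map_mul, inv_eq_of_mul_eq_one_right (m.tE_sq h1),
      ← m.ee_zero, m.ee_mul h1 h1, m.vadd_self, m.alt, m.ee_zero', add_zero, add_zero]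
  · rw [h.zero', h.zero', m.tT_zero', map_one, mul_one]
  · rw [← add_smul, h.self, h.self, mul_add, m.tT_add, map_mul]

end Cfsg.Lib.SP6
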