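import Cfsg.Agent.SP6.K2
import Cfsg.Agent.SP6.K4
import Cfsg.Agent.UM.RK

/-!
# Standard subgroups of type `Sp_{2k}(2ⁿ)`: elementary abelian subgroups of maximal order
-/

set_option autoImplicit false
set_option linter.unusedSectionVars false

namespace Cfsg.Lib.SP6

open Subgroup Module Cfsg.Lib.Trans Cfsg.Lib.Gold Cfsg.Lib.Class.Form Cfsg.Lib.Class.FAut
open Cfsg.Lib.UM (tT tE VW RR Fx St QW Cf mp Semi fa Mp cx re Ot kk Mx Fr3)
open Cfsg.Lib.SG2 (Uq Top)
open Cfsg.Lib.Comp (Tw)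
open scoped commutatorElement

variable {F M : Type*} [Field F] [Finite F] [AddCommGroup M] [Module F M] [FiniteDimensional F M]
  {B : M →ₗ[F] M →ₗ[F] F}

namespace J1

open UM.RK in
theorem fix_set (h0 : ∀ x y, B x y = B y x) (hn : ∀ x, (∀ y, B x y = 0) → x = 0)
    (C : Submodule F M) : ∃ r, finrank F C + r = finrank F M ∧ ∀ A : Set (M ≃ₗ[F] M),
      (∀ a ∈ A, a * a = 1 ∧ (∀ x y, B (a x) (a y) = B x y) ∧ ∀ x ∈ C, a x = x) →
      Nat.card A ≤ Nat.card F ^ (r * (r + 1) / 2) := by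
  obtain ⟨C', hc⟩ := C.exists_isCompl
  refine ⟨_, Submodule.finrank_add_eq_of_isCompl hc, fun A hA => ?_⟩
  have ad := fun a : A => adj (hA a a.2).1 (hA a a.2).2.1
  let b := finBasis F C'
  let s : A → Sym2 (Fin (finrank F C')) → F := fun a =>
    Sym2.lift ⟨fun i j => B (a.1 (b i)) (b j), fun i j => (ad a _ _).trans (h0 _ _)⟩
  have hs : Function.Injective s := fun a a' e => by
    have e1 : (B.comp (a.1 : M →ₗ[F] M)).domRestrict₁₂ C' C' =
        (B.comp (a'.1 : M →ₗ[F] M)).domRestrict₁₂ C' C' :=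
      LinearMap.ext_basis b b fun i j => congrFun e s(i, j)
    refine Subtype.ext (LinearEquiv.ext fun x => sub_eq_zero.1 (hn _ fun y => ?_))
    obtain ⟨x, hx, x', hx', rfl⟩ := Submodule.mem_sup.1 (hc.sup_eq_top.ge (Submodule.mem_top (x := x)))
    obtain ⟨y, hy, y', hy', rfl⟩ := Submodule.mem_sup.1 (hc.sup_eq_top.ge (Submodule.mem_top (x := y)))
    have e2 : B (a.1 x') y' = B (a'.1 x') y' :=
      DFunLike.congr_fun (DFunLike.congr_fun e1 ⟨x', hx'⟩) ⟨y', hy'⟩
    have e3 : B (a.1 x') y = B (a'.1 x') y := by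
      rw [ad, ad, (hA a a.2).2.2 y hy, (hA a' a'.2).2.2 y hy]
    simp [(hA a a.2).2.2 x hx, (hA a' a'.2).2.2 x hx, e2, e3]
  refine (Nat.card_le_card_of_injective s hs).trans_eq ?_
  rw [Nat.card_fun, Nat.card_eq_fintype_card (α := Sym2 _), Sym2.card, Fintype.card_fin,
    Nat.choose_two_right, Nat.add_sub_cancel, mul_comm]

theorem fix (h : Mo B) {A : Subgroup (sIsom B)} (hA : ∀ a ∈ A, a * a = 1) {u : M} (u0 : u ≠ 0)
    (fu : ∀ a ∈ A, lin a u = u) {W : Submodule F M} (hW : Mx B W)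
    (h1 : ∀ a ∈ A, ∀ w ∈ W, ∃ m : F, lin a w = w + m • u)
    (h2 : ∀ y ∈ W, ∃ b ∈ A, ∀ x, B u x = 0 → ∃ m : F, lin b x = x + B y x • y + m • u) :
    A ≤ Fx B W := by
  have cm : ∀ a ∈ A, ∀ b ∈ A, ∀ x, lin a (lin b x) = lin b (lin a x) := fun a ha b hb x => by
    rw [← lin_mul, ← lin_mul, ← inv_eq_of_mul_eq_one_right (hA _ (mul_mem ha hb)), mul_inv_rev,
      inv_eq_of_mul_eq_one_right (hA a ha), inv_eq_of_mul_eq_one_right (hA b hb)]
  intro a ha y hy
  by_cases c : y ∈ F ∙ u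
  · exact UM.mem_Fx1.2 (fu a ha) y c
  obtain ⟨b, hb, k⟩ := h2 y hy
  obtain ⟨x, x1, x2⟩ := h.dual2 u0 c 0 1
  obtain ⟨n, hn⟩ := k x x1
  rw [x2, one_smul] at hn
  have f : ∀ w ∈ W, lin b w = w := fun w hw => by
    by_cases c' : w ∈ l2 F u y
    · refine mem_Fx2.2 ⟨fu b hb, ?_⟩ w c'
      have := congrArg (lin · x) (hA b hb)
      simp only [lin_mul, lin_one] at this
      rw [hn, map_add, map_add, map_smul, fu b hb, hn] at this
      linear_combination (norm := module) this - h.vadd_self (y + n • u)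
    · obtain ⟨b', hb', k'⟩ := h2 w hw
      obtain ⟨x, x1, x2, x3⟩ := h.dual3 u0 c c' 0 0 1
      obtain ⟨n, hn⟩ := k x x1
      obtain ⟨n', hn'⟩ := k' x x1
      have := cm b hb b' hb' x
      simp only [hn, hn', x2, x3, map_add, map_smul, fu b hb, fu b' hb'] at this
      linear_combination (norm := module) this
  have := f (lin a x - x) ((h.mx_iff.1 hW).le fun w hw => by
    obtain ⟨m, e⟩ := h1 a ha w hw
    rw [map_sub, lin_right, inv_eq_of_mul_eq_one_right (hA a ha), e]
    simp [x1])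
  rw [map_sub, ← cm a ha b hb, hn, map_add, map_add, map_smul, fu a ha] at this
  linear_combination (norm := module) this

end J1

theorem Mo.j1 (h : Mo B) {A : Subgroup (sIsom B)} (hA : ∀ a ∈ A, a * a = 1) :
    Nat.card A ≤ Nat.card F ^ (kk F M * (kk F M + 1) / 2) ∧
      (Nat.card F ^ (kk F M * (kk F M + 1) / 2) ≤ Nat.card A → ∃ W, Mx B W ∧ A = VW B W) := by
  refine ⟨?_, fun big => ?_⟩
  · rw [← card_map_of_injective (f := (isomGroup B).subtype.comp (sIsom B).subtype)
      (Subtype.val_injective.comp Subtype.val_injective)]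
    refine UM.rank_alt h.two B h.alt h.cls.sep _ ?_ ?_ <;> rintro _ ⟨a, ha, rfl⟩
    · rw [← map_mul, hA a ha, map_one]
    · exact lin_isom a
  have : CharP F 2 := CharTwo.of_one_ne_zero_of_two_eq_zero one_ne_zero h.two
  have : Finite M := Module.finite_of_finite F
  obtain ⟨x₀, x0⟩ := h.exists_ne
  obtain ⟨u, -, u0, fu⟩ := exists_fixed_of_isPGroup 2 (P := A)
    (fun a => ⟨1, Subtype.ext (by simpa [pow_two] using hA a a.2)⟩) (W := ⊤)
    (fun k => x0 (k.le trivial)) fun _ _ _ _ => trivial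
  obtain ⟨z, e⟩ := h.exists_eq u0 1
  have e' : B z u = 1 := (h.symm _ _).trans e
  let p : M →ₗ[F] hypU B u z :=
    (hproj B (-1) u z).codRestrict _ (h.cls.hproj_mem (h.alt u) (h.alt z) e)
  have uw : ∀ w : hypU B u z, B u w = 0 := fun w => (mem_hypU.1 w.2).1
  have hp : ∀ x, B u x = 0 → x = p x + -B z x • u := fun x k => by
    change x = hproj B (-1) u z x + _
    simp [hproj_apply, k]
  have pU : ∀ w : hypU B u z, p w = w := fun w => Subtype.ext (hproj_of_mem w.2)
  have pu : p u = 0 := Subtype.ext (by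
    change hproj B (-1) u z u = 0
    simp only [hproj_apply, h.alt, e', zero_smul, sub_zero, mul_one, neg_smul, one_smul,
      sub_neg_eq_add, h.vadd_self])
  have au : ∀ a ∈ A, ∀ x, B u (lin a x) = B u x := fun a ha x => by
    rw [← lin_isom a u x, fu a ha]
  have aw : ∀ a ∈ A, ∀ w : hypU B u z, lin a w = p (lin a w) + -B z (lin a w) • u :=
    fun a ha w => hp _ ((au a ha w).trans (uw w))
  have pm : ∀ a ∈ A, ∀ b ∈ A, ∀ w : hypU B u z, p (lin a (p (lin b w))) = p (lin (a * b) w) :=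
    fun a ha b hb w => by
      conv_rhs => rw [lin_mul, aw b hb]
      rw [map_add, map_smul, fu a ha, map_add, map_smul, pu, smul_zero, add_zero]
  let π : A →* (hypU B u z ≃ₗ[F] hypU B u z) := MonoidHom.mk' (fun a => LinearEquiv.ofInvolutive
      (p ∘ₗ (lin a.1 : M →ₗ[F] M) ∘ₗ (hypU B u z).subtype) fun w =>
        (pm a a.2 a a.2 w).trans (by rw [hA a a.2, lin_one, pU]))
    fun a b => LinearEquiv.ext fun w => (pm a a.2 b b.2 w).symm
  have hπ : ∀ a w, π a w = p (lin a.1 w) := fun _ _ => rfl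
  have hU := h.cls.restrict (h.cls.nondegOn_hypU (h.alt u) (h.alt z) e)
  have hd := h.cls.finrank_hypU (h.alt u) e
  have A' : ∀ a ∈ π.range, a * a = 1 := by
    rintro _ ⟨a, rfl⟩
    rw [← map_mul, show a * a = 1 from Subtype.ext (hA a a.2), map_one]
  have i' : ∀ a ∈ π.range, ∀ x y, restr B _ (a x) (a y) = restr B (hypU B u z) x y := by
    rintro _ ⟨a, rfl⟩ x y
    change B (p (lin a.1 x)) (p (lin a.1 y)) = B x y
    rw [← lin_isom a.1 x y]
    conv_rhs => rw [aw a a.2 x, aw a a.2 y]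
    simp [h.alt, uw, h.swap (uw _)]
  have h3 := UM.rank_alt h.two (restr B (hypU B u z)) (fun x => h.alt _) hU.sep _ A' i'
  let C : Submodule F (hypU B u z) := Submodule.span F {x | ∃ c, ee B u x c ∈ A}
  have h4 : Nat.card π.ker ≤ Nat.card F ^ (finrank F C + 1) := by
    have : ∀ a : π.ker, ∃ r : C × F, a.1.1 = ee B u r.1.1 r.2 := fun a => by
      obtain ⟨x, c, k, ea⟩ := (h.mem_Q u0).1 (show a.1.1 ∈ Qu B u from
        ⟨UM.mem_Fx1.2 (fu _ a.1.2), fun x hx => by
          rw [hp x (h.mem_orth1.1 hx), map_add, map_smul, fu _ a.1.2, aw _ a.1.2, ← hπ,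
            show π a.1 = 1 from a.2, add_sub_add_right_eq_sub, LinearEquiv.coe_one, id,
            add_sub_cancel_left]
          exact Submodule.smul_mem _ _ (Submodule.mem_span_singleton_self u)⟩)
      rw [hp x k, h.ee_add_self (uw _)] at ea
      exact ⟨(⟨_, Submodule.subset_span ⟨c, ea ▸ a.1.2⟩⟩, c), ea⟩
    choose r hr using this
    rw [pow_succ, ← Module.natCard_eq_pow_finrank, ← Nat.card_prod]
    exact Nat.card_le_card_of_injective r fun a b k =>
      Subtype.ext (Subtype.ext ((hr a).trans (k ▸ (hr b).symm)))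
  have fC : ∀ a ∈ π.range, ∀ x ∈ C, a x = x := by
    rintro _ ⟨b, rfl⟩ x hx
    refine (Submodule.span_le (p := LinearMap.eqLocus (π b : _ →ₗ[F] _) LinearMap.id)).2 ?_ hx
    rintro x ⟨c, hx⟩
    obtain ⟨m, k⟩ := Submodule.mem_span_singleton.1 ((h.comm_ee u0 (uw x) (fu _ b.2) c).1
      (mem_C1.1 (Tl.le_C1_of_sq hA hx b.2)))
    have := congrArg p k
    rw [map_smul, pu, smul_zero, map_add, pU, ← hπ] at this
    exact Subtype.ext (sub_eq_zero.1 ((h.vsub _ _).trans (congrArg Subtype.val this.symm :)))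
  obtain ⟨s, hs, h5⟩ := J1.fix_set (B := restr B (hypU B u z)) (fun x y => h.symm _ _) hU.sep C
  have h6 := h5 π.range fun a ha => ⟨A' a ha, i' a ha, fC a ha⟩
  have q2 := h.two_le
  have k3 := h.three_le
  have rk := h.rank_eq
  rw [← card_mul_index π.ker, index_ker] at big
  obtain ⟨j, hj⟩ : ∃ j, kk F M = j + 1 := ⟨kk F M - 1, by omega⟩
  have ej : (j + 1) * (j + 1 + 1) / 2 = j + 1 + j * (j + 1) / 2 := by
    rw [show (j + 1) * (j + 1 + 1) = j * (j + 1) + 2 * (j + 1) by ring, Nat.add_mul_div_left _ _ two_pos,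
      add_comm]
  rw [show finrank F (hypU B u z) / 2 = j by omega] at h3
  rw [hj, ej] at big
  have r1 := (Nat.pow_le_pow_iff_right q2).1 (big.trans ((Nat.mul_le_mul h4 h3).trans_eq
    (pow_add _ _ _).symm))
  have r2 := (Nat.pow_le_pow_iff_right q2).1 (big.trans ((Nat.mul_le_mul h4 h6).trans_eq
    (pow_add _ _ _).symm))
  obtain rfl : s = j := by
    by_contra n
    obtain ⟨t, rfl⟩ : ∃ t, j = s + 1 + t := ⟨j - s - 1, by omega⟩
    have b1 := Nat.div_mul_le_self (s * (s + 1)) 2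
    have b2 := Nat.div_two_mul_two_of_even (Nat.even_mul_succ_self (s + 1 + t))
    have : finrank F C = s + 2 + 2 * t := by omega
    rcases s with _ | s
    · nlinarith
    · nlinarith
  have rC : finrank F C = s := by omega
  rw [rC] at h4
  have h7 : Nat.card F ^ (s * (s + 1) / 2) ≤ Nat.card π.range :=
    Nat.le_of_mul_le_mul_left (((pow_add _ _ _).symm.trans_le big).trans
      (Nat.mul_le_mul_right _ h4)) (by positivity)
  have hT : ∀ y ∈ orth (restr B (hypU B u z)) C, ∃ b : A, ∀ w, π b w = w + B y w • y := fun y hy => by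
    let T : hypU B u z ≃ₗ[F] hypU B u z := LinearEquiv.ofInvolutive
      (LinearMap.id + (restr B _ y).smulRight y) fun w => Subtype.ext (by
        simp [restr_apply, h.alt, add_assoc, h.vadd_self])
    have hT : ∀ w, T w = w + B y w • y := fun _ => rfl
    obtain ⟨b, hb⟩ : T ∈ π.range := by
      have : Finite (hypU B u z ≃ₗ[F] hypU B u z) := .of_injective _ DFunLike.coe_injective
      refine (Set.eq_of_subset_of_ncard_le (Set.subset_insert T (π.range : Set _))
        ((Nat.card_coe_set_eq _).symm.trans_le ((h5 _ ?_).trans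
          (h7.trans_eq (Nat.card_coe_set_eq _))))).ge (Set.mem_insert _ _)
      rintro a (rfl | ha)
      · refine ⟨LinearEquiv.ext T.left_inv, fun x w => ?_, fun x hx => ?_⟩
        · simp only [hT, restr_apply, map_add, map_smul,
            LinearMap.add_apply, LinearMap.smul_apply, h.alt, h.symm x y, smul_eq_mul]
          linear_combination B y x * B y w * h.two
        · rw [hT, show B y x = 0 from h.swap (hy x hx), zero_smul, add_zero]
      · exact ⟨A' a ha, i' a ha, fC a ha⟩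
    exact ⟨b, hb ▸ hT⟩
  have eC : orth (restr B (hypU B u z)) C = C := by
    refine Submodule.eq_of_le_of_finrank_eq ((show _ ≤ orth _ (orth _ C) from
      fun y hy y' hy' => ?_).trans_eq (hU.orth_orth C)) (by have := hU.finrank_orth C; omega)
    obtain ⟨b, hb⟩ := hT y hy
    obtain ⟨b', hb'⟩ := hT y' hy'
    by_cases y0 : y = 0
    · simp [y0]
    have := DFunLike.congr_fun (congrArg π (Subtype.ext (mem_C1.1 (Tl.le_C1_of_sq hA b'.2 b.2)) :
      b * b' = b' * b)) y
    simp only [map_mul, LinearEquiv.mul_apply, hb, hb', h.alt, zero_smul,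
      add_zero, add_eq_left, smul_eq_zero, y0, or_false] at this
    have : B y' y * B y y' = 0 := by simpa only [Submodule.coe_add, Submodule.coe_smul, map_add,
      map_smul, h.alt, zero_add, smul_eq_mul] using this
    exact (mul_eq_zero.1 this).elim id h.swap
  have uW : u ∉ C.map (hypU B u z).subtype := by
    rintro ⟨w, -, k⟩
    have := (mem_hypU.1 w.2).2
    rw [show (w : M) = u from k, e'] at this
    exact one_ne_zero this
  have dec : ∀ y ∈ C.map (hypU B u z).subtype ⊔ F ∙ u, ∃ w ∈ C, ∃ a : F, y = w + a • u :=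
    fun y hy => by
      obtain ⟨_, ⟨w, hw, rfl⟩, _, hy', rfl⟩ := Submodule.mem_sup.1 hy
      obtain ⟨s, rfl⟩ := Submodule.mem_span_singleton.1 hy'
      exact ⟨w, hw, s, rfl⟩
  have hW : Mx B (C.map (hypU B u z).subtype ⊔ F ∙ u) := ⟨fun x hx y hy => by
    obtain ⟨w, hw, a, rfl⟩ := dec x hx
    obtain ⟨w', hw', a', rfl⟩ := dec y hy
    have : B w w' = 0 := eC.ge hw' w hw
    simp [this, h.alt, uw, h.swap (uw _)], by
      rw [Submodule.finrank_sup_span_singleton uW, Submodule.finrank_map_subtype_eq, rC, hj]⟩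
  refine ⟨_, hW, eq_of_le_of_card_ge (h.Fx_mx hW ▸ J1.fix h hA u0 fu hW
    (fun a ha y hy => ?_) fun y hy => ?_) ?_⟩
  · obtain ⟨w, hw, c, rfl⟩ := dec y hy
    refine ⟨-B z (lin a w), ?_⟩
    have e1 := aw a ha w
    rw [← hπ ⟨a, ha⟩, fC _ ⟨⟨a, ha⟩, rfl⟩ w hw] at e1
    rw [map_add, map_smul, fu a ha, add_right_comm, ← e1]
  · obtain ⟨w, hw, c, rfl⟩ := dec y hy
    obtain ⟨b, hb⟩ := hT w (eC.ge hw)
    refine ⟨b, b.2, fun x k => ⟨-B z (lin b.1 (p x)) - c * B w x, ?_⟩⟩
    have e1 := aw b b.2 (p x)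
    have e2 : B w (p x) = B w x := by
      conv_rhs => rw [hp x k, map_add, map_smul, h.swap (uw w), smul_zero, add_zero]
    rw [← hπ, hb, e2, Submodule.coe_add, Submodule.coe_smul] at e1
    conv_lhs => rw [hp x k, map_add, map_smul, fu b b.2, e1]
    rw [map_add, map_smul, LinearMap.add_apply, LinearMap.smul_apply, k, smul_zero, add_zero]
    linear_combination (norm := module) -hp x k
  · rw [h.card_VW hW.ti, hW.dim, hj, ej, ← card_mul_index π.ker, index_ker]
    exact big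

end Cfsg.Lib.SP6
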