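import Cfsg.Agent.SP6.AC2
import Cfsg.Agent.SP6.AC3
import Cfsg.Agent.SP6.AP
import Cfsg.Agent.SP6.GEN
import Cfsg.Agent.SP6.J1
import Cfsg.Agent.SP6.J2
import Cfsg.Agent.SP6.K1
import Cfsg.Agent.SP6.K2
import Cfsg.Agent.SP6.K4
import Cfsg.Agent.SP6.KIT
import Cfsg.Agent.SP6.P1a
import Cfsg.Agent.SP6.P5c
import Cfsg.Agent.SP6.P3k

/-!
# Standard subgroups of type `Sp_{2k}(2ⁿ)`: the constant `b`, and long translations versus `H`
-/

set_option autoImplicit false
set_option linter.unusedSectionVars false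

namespace Cfsg.Lib.SP6

open Subgroup Module Cfsg.Lib.Trans Cfsg.Lib.Gold Cfsg.Lib.Class.Form Cfsg.Lib.Class.FAut
open Cfsg.Lib.UM (tT tE VW RR Fx St QW Cf mp Semi fa Mp cx re Ot kk Mx Fr3)
open Cfsg.Lib.SG2 (Uq Top)
open Cfsg.Lib.Comp (Tw)
open scoped commutatorElement

variable {G F M : Type*} [Group G] [Finite G] [Field F] [Finite F] [AddCommGroup M] [Module F M]
  [FiniteDimensional F M] {B : M →ₗ[F] M →ₗ[F] F} {φ φ' : sIsom B →* G} {t : G}
  {κ β : F} {H : M → M → G}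

namespace P7d

theorem fix (h : TH0 φ t H κ β) {g : sIsom B} {u w : M} (e : lin g u = u) (e' : lin g w = w) :
    Commute (φ g) (H u w) := by
  have := h.eqv g u w
  rw [e, e'] at this
  exact mul_inv_eq_iff_eq_mul.1 this

theorem inv (h : TH0 φ t H κ β) (u w : M) : (H u w)⁻¹ = H u w :=
  inv_eq_of_mul_eq_one_right (h.sq u w)

theorem mulN (h : TH0 φ t H 1 β) {b : F} (k : MU φ H b) {w z v z' v' : M} (h1 : B w z = 0)
    (h2 : B w v = 0) (h3 : B w z' = 0) (h4 : B w v' = 0) (c c' : F) :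
    H w z * φ (ee B w v c) * (H w z' * φ (ee B w v' c')) =
      H w (z + z') * φ (ee B w (v + v') (b * B z z' + (B z' v + c) + c' + B v v')) := by
  have m := h.toMo
  have e1 : φ (ee B w v c) * H w z' = H w z' * φ (ee B w v (B z' v + c)) := by
    have a1 := h.actQ w z' v h3 h2
    have a2 := fix h (g := tT B w c) (u := w) (w := z') (by simp [m.lin_tT, m.alt])
      (by simp [m.lin_tT, h3])
    have a3 := m.ee_mul h2 (y := 0) (by simp) (B z' v) c
    rw [one_mul, inv h] at a1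
    simp only [add_zero, map_zero, m.ee_zero'] at a3
    rw [← a3, map_mul, ← a1, ee, map_mul, mul_assoc, a2.eq]
    simp only [← mul_assoc, h.sq, one_mul]
  have e2 := m.ee_mul (x := 0) (by simp) h2 (b * B z z') (B z' v + c)
  simp only [zero_add, map_zero, LinearMap.zero_apply, add_zero, m.ee_zero'] at e2
  rw [mul_assoc, ← mul_assoc (φ _), e1, ← mul_assoc, ← mul_assoc, k _ _ _ h1 h3,
    ← m.ee_mul h2 h4, ← e2]
  simp only [map_mul, mul_assoc]

theorem r120 (h : TH0 φ t H 1 β) {u x w y : M} (k : O3 B w u x) (h1 : B w y = 0) (h2 : B x y = 0)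
    (h3 : B u y = 1) : H u x * H w y * (H u x)⁻¹ =
      H w x * φ (ee B w (β • x) 0) * (H w y * φ (ee B w 0 0)) := by
  have m := h.toMo
  have := h.r120 u x w y k h1 h2
  rw [h3, one_smul, mul_one, commutatorElement_def, mul_inv_eq_iff_eq_mul] at this
  rw [this, m.ee_zero, m.ee_zero, m.tE_zero, map_one, mul_one]

end P7d

theorem TH0.b_eq (h : TH0 φ t H 1 β) {b : F} (k : MU φ H b) : b = β := by
  have m := h.toMo
  obtain ⟨w, w0⟩ := m.exists_ne
  obtain ⟨u, k2⟩ := m.ext2 w0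
  obtain ⟨x, k3⟩ := m.ext3 k2
  obtain ⟨f, fr⟩ := m.ext_fr (e := ![w, u, x]) (fun i j => (k3.toO3.ti m) _
    (Submodule.subset_span (by fin_cases i <;> simp)) _
    (Submodule.subset_span (by fin_cases j <;> simp))) k3.li
  obtain ⟨y, z, wy, uy, xy, wz, uz, xz, yz⟩ : ∃ y z, B w y = 0 ∧ B u y = 1 ∧ B x y = 0 ∧
      B w z = 0 ∧ B u z = 0 ∧ B x z = 1 ∧ B y z = 0 :=
    ⟨f 1, f 2, fr.ef 0 1, fr.ef 1 1, fr.ef 2 1, fr.ef 0 2, fr.ef 1 2, fr.ef 2 2, fr.ff 1 2⟩
  have wu := k3.uw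
  have wx := k3.ux
  have ux := k3.wx
  have uw := m.swap wu
  have xw := m.swap wx
  have xu := m.swap ux
  have yu : B y u = 1 := (m.symm _ _).trans uy
  have yx := m.swap xy
  have zu := m.swap uz
  have zx : B z x = 1 := (m.symm _ _).trans xz
  have zy := m.swap yz
  have uu := m.alt u
  have xx := m.alt x
  have two : (1 : F) + 1 = 0 := m.add_self 1
  have n0 : ∀ p, H w p = H w p * φ (ee B w 0 0) := fun p => by
    rw [m.ee_zero, m.tE_zero, map_one, mul_one]
  have a1 := P7d.r120 h k3.toO3 wy xy uy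
  have a2 : H u x * H w z * (H u x)⁻¹ = H w u * φ (ee B w (β • u) 0) * (H w z * φ (ee B w 0 0)) *
      (H w u * φ (ee B w 0 0)) := by
    have b1 := h.eqv (tE B x u) w z
    rw [show lin (tE B x u) w = w by simp [m.lin_tE xu, xw, uw],
      show lin (tE B x u) z = z + u by simp [m.lin_tE xu, xz, uz], h.add2 _ _ _ ⟨wz, wu, zu⟩] at b1
    have b2 := h.com x u w u ⟨xu, xw, uw⟩ ⟨xu, xu, uu⟩ wu
    rw [← P7d.r120 h ⟨wx, wu, xu⟩ wz uz xz, ← n0, h.swap x u xu, one_smul]
    calc H x u * φ (tE B x u) * H w z * (H x u * φ (tE B x u))⁻¹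
        = H x u * (φ (tE B x u) * H w z * (φ (tE B x u))⁻¹) * (H x u)⁻¹ := by group
      _ = _ := by rw [b1, mul_assoc, mul_assoc, ← b2.inv_left.eq]; group
  have a3 : H u x * H w (y + z) * (H u x)⁻¹ =
      H w (x + u) * φ (ee B w (β • (x + u)) 0) * (H w (y + z + u) * φ (ee B w 0 0)) := by
    have b1 := h.eqv (tT B u 1) w (y + z)
    rw [show lin (tT B u 1) w = w by simp [m.lin_tT, uw],
      show lin (tT B u 1) (y + z) = y + z + u by simp [m.lin_tT, uy, uz]] at b1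
    have b2 := h.add2 u (x + u) u ⟨by simp [ux, uu], uu, by simp [xu, uu]⟩
    have b3 := h.self 1 u
    rw [one_smul, one_mul] at b3
    rw [add_assoc, m.vadd_self, add_zero, b3] at b2
    rw [← P7d.r120 h (u := u) ⟨wu, by simp [wx, wu], by simp [ux, uu]⟩ (by simp [wy, wz, wu])
      (by simp [xy, xz, xu, uy, uz, uu, two]) (by simp [uy, uz, uu]), ← b1, b2]
    group
  rw [h.add2 _ _ _ ⟨wy, wz, yz⟩, ← conj_mul, a1, a2,
    P7d.mulN h k wx (by simp [wx]) wy (by simp), P7d.mulN h k wu (by simp [wu]) wz (by simp),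
    P7d.mulN h k (by simp [wu, wz]) (by simp [wu]) wu (by simp),
    P7d.mulN h k (by simp [wx, wy]) (by simp [wx]) (by simp [wu, wz]) (by simp [wu]),
    P7d.mulN h k (by simp [wx, wu]) (by simp [wx, wu]) (by simp [wy, wz, wu]) (by simp),
    show x + y + (u + z + u) = x + u + (y + z + u) by abel, mul_right_inj] at a3
  have a4 := ((m.ee_inj w0 (by simp [wx, wu]) (by simp [wx, wu])).1 (h.inj a3)).2
  simp [xy, xz, xu, uy, uz, uu, ux, yu, yx, zu, zx, xx, yz] at a4
  linear_combination a4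

namespace P7d

variable {d : G} {u x y : M}

theorem cp (k : GD φ t H d u) {g : sIsom B} (e : lin g u = u) : Commute d (φ g) :=
  (mem_Cs.1 k.cp _ ⟨g, UM.mem_Fx1.2 e, rfl⟩).symm

theorem deg (h : TH0 φ t H κ β) (k : GD φ t H d u) (k' : O3 B u x y) (e : y ∈ l2 F u x) :
    Commute d (H x y) := by
  have m := h.toMo
  obtain ⟨a, b, rfl⟩ := Submodule.mem_span_pair.1 e
  have ux := k'.uw
  have xu := m.swap ux
  have s : B u (κ • a • x) = 0 := by simp [ux]
  rw [h.add2 _ _ _ ⟨by simp [xu], by simp [m.alt], by simp [ux]⟩, h.self, ← h.smul,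
    h.swap u (a • x) (by simp [ux])]
  exact ((k.cH _).mul_right (cp k (by simp [m.lin_tE s, m.alt, xu]))).mul_right
    (cp k (by simp [m.lin_tT, xu]))

theorem step (h : TH0 φ t H κ β) (k : GD φ t H d u) {v g : sIsom B} {a : G}
    (e : d⁻¹ * H x y * d * H x y = φ v) (h1 : lin g u = u)
    (h2 : H (lin g x) (lin g y) = H x y * a) (h3 : Commute d a) (h4 : Commute (H x y) a)
    (h5 : a * a = 1) : Commute v g := by
  have c := (cp k h1).symm
  refine h.toMod.comm.1 (Commute.symm (mul_inv_eq_iff_eq_mul.1 ?_))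
  rw [← e, ← conj_mul, ← conj_mul, ← conj_mul, h.eqv, h2, c.eq, c.inv_right.eq,
    mul_inv_cancel_right, mul_inv_cancel_right]
  calc d⁻¹ * (H x y * a) * d * (H x y * a) = d⁻¹ * H x y * (a * d) * H x y * a := by group
    _ = d⁻¹ * H x y * d * (a * H x y) * a := by rw [← h3.eq]; group
    _ = d⁻¹ * H x y * d * H x y * (a * a) := by rw [← h4.eq]; group
    _ = _ := by rw [h5, mul_one]

theorem main (h : TH0 φ t H κ β) (u0 : u ≠ 0) (k : GD φ t H d u) (k' : P3 B u x y) :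
    ∃ c, d⁻¹ * H x y * d * H x y = φ (tT B u c) := by
  have m := h.toMo
  have ux := k'.uw
  have uy := k'.ux
  have xy := k'.wx
  have xu := m.swap ux
  have yu := m.swap uy
  have yx := m.swap xy
  obtain ⟨p1, p2, p3, -⟩ := k'.p2 m
  have ti := k'.toO3.ti m
  have f3 : ∀ g ∈ Fx B (Submodule.span F {u, x, y}), lin g u = u ∧ lin g x = x ∧ lin g y = y :=
    fun g hg => by simpa using UM.mem_Fx_span.1 hg
  have c1 : Commute (d⁻¹ * H x y * d * H x y) t := by
    have b1 : Commute (φ (tT B u 1)) (H x y) :=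
      fix h (by simp [m.lin_tT, ux]) (by simp [m.lin_tT, uy])
    have b2 : Commute d (φ (tE B x y)) := cp k (by simp [m.lin_tE xy, xu, yu])
    have b3 : Commute (tT B u 1) (tE B x y) :=
      ((m.comm_tT one_ne_zero).2 (by simp [m.lin_tE xy, xu, yu])).symm
    have e1 : H x y * d * t * (H x y * d)⁻¹ = t * φ (tE B x y) * φ (tT B u 1) := by
      calc H x y * d * t * (H x y * d)⁻¹ = H x y * (d * t * d⁻¹) * (H x y)⁻¹ := by group
        _ = H x y * t * (H x y)⁻¹ * φ (tT B u 1) := by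
          rw [k.tr, mul_assoc, mul_assoc, b1.inv_right.eq]; group
        _ = _ := by rw [h.ht _ _ xy]
    have e2 : d * H x y * t * (d * H x y)⁻¹ = t * φ (tE B x y) * φ (tT B u 1) := by
      calc d * H x y * t * (d * H x y)⁻¹ = d * (H x y * t * (H x y)⁻¹) * d⁻¹ := by group
        _ = d * t * d⁻¹ * φ (tE B x y) := by
          rw [h.ht _ _ xy, mul_assoc, mul_assoc, ← b2.inv_left.eq]; group
        _ = _ := by rw [k.tr, mul_assoc, ← map_mul, b3.eq, map_mul, mul_assoc]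
    refine mul_inv_eq_iff_eq_mul.1 ?_
    calc d⁻¹ * H x y * d * H x y * t * (d⁻¹ * H x y * d * H x y)⁻¹
        = d⁻¹ * H x y * (d * H x y * t * (d * H x y)⁻¹) * (H x y)⁻¹ * d := by group
      _ = d⁻¹ * (H x y * H x y) * d * t * d⁻¹ * (H x y * H x y)⁻¹ * d := by rw [e2, ← e1]; group
      _ = t := by rw [h.sq]; group
  obtain ⟨v, hv, o, ho, e⟩ := h.toH1.cF ti c1 (mem_Cs.2 (by
    rintro _ ⟨g, hg, rfl⟩
    obtain ⟨g1, g2, g3⟩ := f3 g hg
    exact ((((cp k g1).symm.inv_right.mul_right (fix h g2 g3)).mul_right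
      (cp k g1).symm).mul_right (fix h g2 g3)).eq))
  obtain ⟨v1, v2, v3⟩ := f3 v (m.VW_le_Fx (fun a ha b hb => ti b hb a ha) hv)
  replace e := h.toH1.inverted (h.cO x y) ho (m.sq_VW ti hv) (m.tE_ne p3) (h.ht _ _ xy)
    (fix h v2 v3).symm e (by
      simp only [mul_inv_rev, inv_inv, inv h, mul_assoc, h.sq, mul_one])
  have hu : ∀ z, u ∈ l2 F u z := fun z => Submodule.subset_span (by simp)
  have hz : ∀ z, z ∈ l2 F u z := fun z => Submodule.subset_span (by simp)
  obtain ⟨p, up, xp, yp⟩ := m.dual3 u0 p1.not_mem (P3.iff.1 k').2.2.2 0 1 0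
  obtain ⟨q, uq, xq, yq⟩ := m.dual3 u0 p1.not_mem (P3.iff.1 k').2.2.2 0 0 1
  have pu := m.swap up
  have px : B p x = 1 := (m.symm _ _).trans xp
  have py := m.swap yp
  have qu := m.swap uq
  have qx := m.swap xq
  have qy : B q y = 1 := (m.symm _ _).trans yq
  have vp : lin v p = p := m.V_fix p2 v1 v3 up yp
    (step h k e (a := H u y) (by simp [m.lin_tE up, m.alt, pu])
      (by simpa [m.lin_tE up, ux, uy, px, py] using h.add1 x u y ⟨xu, xy, uy⟩) (k.cH _)
      (h.com u y x y ⟨uy, ux, yx⟩ ⟨uy, uy, m.alt _⟩ xy).symm (h.sq _ _))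
    (step h k e (a := H y y) (by simp [m.lin_tE yp, yu, pu])
      (by simpa [m.lin_tE yp, yx, m.alt, px, py] using h.add1 x y y ⟨xy, xy, m.alt _⟩)
      (deg h k ⟨uy, uy, m.alt _⟩ (hz _))
      (h.com x y y y ⟨xy, xy, m.alt _⟩ ⟨xy, xy, m.alt _⟩ (m.alt _)) (h.sq _ _))
  have vq : lin v q = q := m.V_fix p1 v1 v2 uq xq
    (step h k e (a := H x u) (by simp [m.lin_tE uq, m.alt, qu])
      (by simpa [m.lin_tE uq, ux, uy, qx, qy] using h.add2 x y u ⟨xy, xu, yu⟩)
      (deg h k ⟨ux, m.alt _, xu⟩ (hu _)) (h.comw _ _ _) (h.sq _ _))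
    (step h k e (a := H x x) (by simp [m.lin_tE xq, xu, qu])
      (by simpa [m.lin_tE xq, xy, m.alt, qx, qy] using h.add2 x y x ⟨xy, m.alt _, yx⟩)
      (deg h k ⟨ux, ux, m.alt _⟩ (hz _)) (h.comw _ _ _) (h.sq _ _))
  have hv' : v ∈ VW B (F ∙ u) := by
    rw [m.VW_eq] at hv ⊢
    intro r hr
    have ur := m.mem_orth1.1 hr
    have := hv (r - B x r • p - B y r • q) (mem_orth_span.2 (by
      simp [ur, up, uq, xp, xq, yp, yq]))
    simpa [vp, vq] using this
  obtain ⟨c, rfl⟩ := m.mem_RR.1 hv'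
  exact ⟨c, e⟩

theorem ks (h : TH0 φ t H κ β) {w z : M} (k : B w z = 0) : KS φ t κ (H w z) w z 0 := by
  have m := h.toMo
  refine ⟨by rw [m.ee_zero, h.ht w z k], fun p hp c => ?_⟩
  have a2 := fix h (g := tT B w c) (u := w) (w := z) (by simp [m.lin_tT, m.alt])
    (by simp [m.lin_tT, k])
  rw [ee, map_mul, ← conj_mul, h.actQ w z p k hp, ← a2.eq, mul_inv_cancel_right, ← map_mul, ee, ee,
    mul_assoc, ← m.tT_add, add_comm]

theorem xx (h : TH0 φ t H κ β) {w z z' : M} (k : B w z = 0) (k' : B w z' = 0) :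
    KS φ t κ (H w z * H w z' * H w (z + z')) w 0 ((1 + κ) * B z z') := by
  have m := h.toMo
  have s : B w (z + z') = 0 := by simp [k, k']
  have := KS.mul h.toH1 s s (KS.mul h.toH1 k k' (ks h k) (ks h k')) (ks h s)
  rwa [m.vadd_self, m.alt, mul_zero, add_zero, add_zero, zero_add, zero_add] at this

theorem noT (h : TH0 φ t H κ β) {w : M} (w0 : w ≠ 0) {a : G} (h1 : Commute a t)
    (h2 : a ∈ Cs ((Qu B w).map φ)) (h3 : ∀ z, Commute a (H w z)) :
    ∃ v ∈ Qu B w, ∃ o ∈ Ot φ t, a = φ v * o := by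
  have m := h.toMo
  obtain ⟨v, hv, o, ho, rfl | rfl⟩ := h.toH1.cQ w0 h1 h2
  · exact ⟨v, hv, o, ho, rfl⟩
  obtain ⟨p, c, hp, rfl⟩ := (m.mem_Q w0).1 hv
  obtain ⟨z, kz⟩ := m.ext2 w0
  have e := mul_inv_eq_iff_eq_mul.2 (h3 z).symm.eq
  rw [← conj_mul, ← conj_mul, h.ht w z kz.uw, (ks h kz.uw).2 p hp,
    ← mem_Cs.1 (h.cO w z) o ho, mul_inv_cancel_right, mul_left_inj, mul_assoc, mul_right_inj,
    ← map_mul, ← m.ee_zero, m.ee_mul kz.uw hp] at e
  have := ((m.ee_inj w0 (by simp [kz.uw, hp]) hp).1 (h.inj e)).1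
  rw [add_assoc, m.vadd_self, add_zero] at this
  exact (kz.not_mem this).elim

theorem c0 (h : TH0 φ t H κ β) (u0 : u ≠ 0) (k : GD φ t H d u) (hO : d ∈ Cs (Ot φ t)) {c : F}
    (E : ∀ x z, P3 B u x z → d⁻¹ * H x z * d = φ (tT B u c) * H x z) : c = 0 := by
  have m := h.toMo
  have h' := h.toH1
  obtain ⟨x, kx⟩ := m.ext2 u0
  rcases h.kap with rfl | rfl
  · obtain ⟨y, k3⟩ := m.ext3 kx
    obtain ⟨a, ua, xa, ya⟩ := m.dual3 u0 kx.not_mem (P3.iff.1 k3).2.2.2 0 1 0
    have ux := k3.uw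
    have uy := k3.ux
    have xy := k3.wx
    have yx := m.swap xy
    have hX := xx h ua ux
    rw [m.symm, xa, add_zero, mul_one] at hX
    have c1 : ∀ z, Commute (H u a * H u x * H u (a + x)) (H u z) := fun z =>
      ((h.comw _ _ _).mul_left (h.comw _ _ _)).mul_left (h.comw _ _ _)
    have c2 : Commute (H u a * H u x * H u (a + x)) (H x y) := by
      have s : B u (β • y) = 0 := by simp [uy]
      have r1 := h.r120 x y u a k3.toO3 ua ya
      have r2 := h.r120 x y u (a + x) k3.toO3 (by simp [ua, ux]) (by simp [ya, yx])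
      have r3 := h.com x y u x ⟨xy, m.swap ux, m.swap uy⟩ ⟨xy, m.alt x, yx⟩ ux
      rw [xa, mul_one, one_smul, commutatorElement_def, mul_inv_eq_iff_eq_mul] at r1
      rw [map_add, xa, m.alt, add_zero, mul_one, one_smul, commutatorElement_def,
        mul_inv_eq_iff_eq_mul] at r2
      have c : ∀ z, B u z = 0 → Commute (H u z) (φ (tE B u (β • y))) := fun z e => by
        have := h.actQ u z _ e s
        rwa [zero_mul, m.ee_zero, mul_inv_eq_iff_eq_mul] at this
      have q : H u y * φ (tE B u (β • y)) * (H u y * φ (tE B u (β • y))) = 1 := by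
        rw [← sq, (c y uy).mul_pow, sq, sq, h.sq, ← map_mul, m.tE_sq s, map_one, mul_one]
      have d1 := (h.comw u a y).mul_right (c a ua)
      have d2 := (h.comw u x y).mul_right (c x ux)
      refine Commute.symm (mul_inv_eq_iff_eq_mul.1 ?_)
      rw [← conj_mul, ← conj_mul, r1, r2, r3.eq, mul_inv_cancel_right]
      generalize H u y * φ (tE B u (β • y)) = j at q d1 d2
      calc _ = j * H u a * (H u x * j) * H u (a + x) := by group
        _ = j * (H u a * j) * H u x * H u (a + x) := by rw [d2.eq]; group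
        _ = j * j * (H u a * H u x * H u (a + x)) := by rw [d1.eq]; group
        _ = _ := by rw [q, one_mul]
    have e0 := hX.1
    have cq := hX.cq h' u0
    rw [m.ee_zero', ← k.tr] at e0
    generalize H u a * H u x * H u (a + x) = X at c1 c2 e0 cq
    obtain ⟨v, hv, o, ho, e⟩ := noT h u0 (a := X⁻¹ * d) (by
        refine mul_inv_eq_iff_eq_mul.1 ?_
        calc _ = X⁻¹ * (d * t * d⁻¹) * X := by group
          _ = t := by rw [← e0]; group)
      (mul_mem (inv_mem cq) (Cs_anti (map_mono UM.QW_le_Fx) k.cp))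
      fun z => (c1 z).inv_left.mul_left (k.cH z)
    obtain ⟨p, c', hp, rfl⟩ := (m.mem_Q u0).1 hv
    have e1 := E x y k3
    have e2 := h.eqv (ee B u p c') x y
    have i := inv_eq_of_mul_eq_one_right (m.ee_sq hp c')
    have e3 : d⁻¹ * H x y * d = φ (ee B u p c') * H x y * (φ (ee B u p c'))⁻¹ := by
      have co : Commute o (φ (ee B u p c') * H x y * (φ (ee B u p c'))⁻¹) := by
        rw [e2]; exact mem_Cs.1 (h.cO _ _) o ho
      rw [inv_mul_eq_iff_eq_mul.1 e]
      calc _ = o⁻¹ * ((φ (ee B u p c'))⁻¹ * (X⁻¹ * H x y * X) * φ (ee B u p c')) * o := by group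
        _ = o⁻¹ * (φ (ee B u p c') * H x y * (φ (ee B u p c'))⁻¹) * o := by
          rw [c2.inv_left.eq, inv_mul_cancel_right, ← map_inv, i]
        _ = _ := by rw [co.inv_left.eq, inv_mul_cancel_right]
    have sw : ∀ z, B u z = 0 → H z u = H u z := fun z e => by
      rw [h.swap u z e, zero_smul, m.tE_zero, map_one, mul_one]
    have se : ∀ s : F, H u (s • u) = 1 := fun s => by rw [h.self, zero_mul, m.tT_zero, map_one]
    have o1 : B u (B p y • x + B p x • y) = 0 := by simp [ux, uy]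
    have e4 : H (x + B p x • u) (y + B p y • u) = H x y * H u (B p y • x + B p x • y) := by
      rw [h.add1 _ _ _ ⟨by simp [m.swap ux], by simp [xy, m.swap ux], by simp [uy, m.alt]⟩,
        h.add2 x _ _ ⟨xy, by simp [m.swap ux], by simp [m.swap uy]⟩, h.smul, smul_add,
        h.add2 u _ _ ⟨by simp [uy], by simp [m.alt], by simp [m.swap uy]⟩, smul_smul, se, mul_one,
        ← h.smul (B p y), sw _ (by simp [ux]),
        h.add2 u _ _ ⟨by simp [ux], by simp [uy], by simp [xy]⟩, mul_assoc]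
    rw [m.lin_ee hp, m.lin_ee hp, ux, uy, zero_smul, add_zero, add_zero, mul_zero, add_zero,
      add_zero, e4, ← e3, e1, (fix h (by simp [m.lin_tT, ux]) (by simp [m.lin_tT, uy])).eq,
      mul_right_inj] at e2
    have e5 := h.ht u _ o1
    rw [← e2, ← (h.tc _).eq, mul_inv_cancel_right, left_eq_mul, ← m.ee_zero, ← map_one φ] at e5
    obtain ⟨s, hs⟩ := Submodule.mem_span_singleton.1 ((m.ee_eq_one u0 o1).1 (h.inj e5)).1
    rw [← hs, se, ← map_one φ, ← m.tT_zero u] at e2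
    exact m.tT_inj u0 (h.inj e2)
  · obtain ⟨y, z, uy, xy, uz, xz, -, y1, z1, s1⟩ := m.hyp2 kx.uw one_ne_zero
    have ux := kx.uw
    have hX := xx h xy xz
    rw [m.add_self, zero_mul] at hX
    have e0 := hX.1
    rw [m.ee_zero, m.tE_zero, map_one, mul_one] at e0
    obtain ⟨v, hv, o, ho, e⟩ := noT h kx.ne' (mul_inv_eq_iff_eq_mul.1 e0) (hX.cq h' kx.ne') fun p =>
      ((h.comw _ _ _).mul_left (h.comw _ _ _)).mul_left (h.comw _ _ _)
    have cT : ∀ c p, B u p = 0 → Commute (φ (tT B u c)) (H x p) := fun c p e =>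
      fix h (by simp [m.lin_tT, ux]) (by simp [m.lin_tT, e])
    have us : B u (y + z) = 0 := by simp [uy, uz]
    have c1 := ((cT 1 y uy).mul_right (cT 1 z uz)).mul_right (cT 1 _ us)
    rw [e] at c1
    have c2 := c1.mul_right (Ot_comm ho (tT B u 1)).symm.inv_right
    rw [mul_inv_cancel_right, h.toMod.comm] at c2
    have c3 : Commute d (φ v * o) :=
      (cp k ((m.comm_tT one_ne_zero).1 c2.symm)).mul_right (mem_Cs.1 hO o ho).symm
    rw [← e] at c3
    have e1 : d⁻¹ * (H x y * H x z * H x (y + z)) * d =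
        φ (tT B u c) * (H x y * H x z * H x (y + z)) := by
      have q : φ (tT B u c) * φ (tT B u c) = 1 := by rw [← map_mul, m.tT_sq, map_one]
      calc _ = d⁻¹ * H x y * d * (d⁻¹ * H x z * d) * (d⁻¹ * H x (y + z) * d) := by group
        _ = φ (tT B u c) * H x y * (φ (tT B u c) * H x z * φ (tT B u c)) * H x (y + z) := by
          rw [E x y (P3.iff.2 ⟨kx, uy, xy, y1⟩), E x z (P3.iff.2 ⟨kx, uz, xz, z1⟩),
            E x _ (P3.iff.2 ⟨kx, us, by simp [xy, xz], s1⟩)]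
          group
        _ = _ := by rw [(cT c z uz).eq, mul_assoc (H x z), q]; group
    rw [c3.inv_left.eq, inv_mul_cancel_right, right_eq_mul, ← map_one φ, ← m.tT_zero u] at e1
    exact m.tT_inj u0 (h.inj e1)

end P7d

theorem GD.dH (h : TH0 φ t H κ β) {d : G} {u : M} (u0 : u ≠ 0) (k : GD φ t H d u)
    (hO : d ∈ Cs (Ot φ t)) {x y : M} (k' : O3 B u x y) : Commute d (H x y) := by
  have m := h.toMo
  by_cases hx : x ∈ F ∙ u
  · obtain ⟨a, rfl⟩ := Submodule.mem_span_singleton.1 hx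
    rw [h.smul]; exact k.cH _
  by_cases hy : y ∈ l2 F u x
  · exact P7d.deg h k k' hy
  have k3 : P3 B u x y := P3.iff.2 ⟨P2.iff.2 ⟨k'.uw, u0, hx⟩, k'.ux, k'.wx, hy⟩
  obtain ⟨c, e⟩ := P7d.main h u0 k k3
  have e1 : ∀ x z, P3 B u x z → d⁻¹ * H x z * d = φ (tT B u c) * H x z := fun x z kz => by
    obtain ⟨g, g1, g2, g3⟩ := m.tr3 k3 kz
    have c := (P7d.cp k g1).symm
    have : φ g * _ * (φ g)⁻¹ = φ g * _ * (φ g)⁻¹ := congrArg (fun a => φ g * a * (φ g)⁻¹) e
    rw [← conj_mul, ← conj_mul, ← conj_mul, h.eqv, g2, g3, c.eq, c.inv_right.eq,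
      mul_inv_cancel_right, mul_inv_cancel_right, ← map_inv, ← map_mul, ← map_mul, m.tT_conj,
      g1] at this
    rw [← this, mul_assoc _ (H x z) (H x z), h.sq, mul_one]
  have e3 := e1 _ _ k3
  rw [P7d.c0 h u0 k hO e1, m.tT_zero, map_one, one_mul, mul_assoc, inv_mul_eq_iff_eq_mul] at e3
  exact e3.symm

end Cfsg.Lib.SP6
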