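import Cfsg.Agent.UM.P1
import Cfsg.Agent.UM.P1b
import Cfsg.Agent.SP6.A1
import Cfsg.Agent.SP6.A2
import Cfsg.Agent.SP6.AC3
import Cfsg.Agent.SP6.GEN
import Cfsg.Agent.SP6.II
import Cfsg.Agent.SP6.J2
import Cfsg.Agent.SP6.K1
import Cfsg.Agent.SP6.K2
import Cfsg.Agent.SP6.K4
import Cfsg.Agent.SP6.KIT
import Cfsg.Agent.SP6.LDa
import Cfsg.Agent.SP6.P1b
import Cfsg.Agent.SP6.P3k
import Cfsg.Agent.SP6.P5c
import Cfsg.Agent.SP6.P6a
import Cfsg.Agent.SP6.P7c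
import Cfsg.Agent.SP6.P7d

/-!
# Standard subgroups of type `Sp_{2k}(2ⁿ)`: the first fusion step
-/

set_option autoImplicit false
set_option linter.unusedSectionVars false
set_option linter.unusedVariables false

namespace Cfsg.Lib.SP6

open Subgroup Module Cfsg.Lib.Trans Cfsg.Lib.Gold Cfsg.Lib.Class.Form Cfsg.Lib.Class.FAut
open Cfsg.Lib.UM (tT tE VW RR Fx St QW Cf mp Semi fa Mp cx re Ot kk Mx Fr3)
open Cfsg.Lib.SG2 (Uq Top)
open Cfsg.Lib.Comp (Tw)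
open scoped commutatorElement

variable {G F M : Type*} [Group G] [Finite G] [Field F] [Finite F] [AddCommGroup M] [Module F M]
  [FiniteDimensional F M] {B : M →ₗ[F] M →ₗ[F] F} {φ φ' : sIsom B →* G} {t : G}

namespace P1c

theorem tA (A : Subgroup (sIsom B)) : t ∈ AA φ t A := mem_sup_left (mem_zpowers t)

theorem cs_J (h : Hyp φ t) {W : Submodule F M} (hW : Mx B W) {c : G}
    (hc : c ∈ Cs (AA φ t (VW B W))) : ∃ v ∈ VW B W, (φ v)⁻¹ * c ∈ C1 t ⊓ Cs φ.range := by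
  have ct : Commute c t := (mem_Cs.1 hc t (tA _)).symm
  obtain ⟨α, k⟩ := h.toMod.ind (h.cn (mem_C1.2 ct))
  have oW := h.toMo.mx_iff.1 hW
  obtain ⟨v, hv, rfl⟩ := h.toMo.cT (W := W) (α := α) (by
    rw [oW]
    intro e
    have := hW.dim
    have k3 := h.toMo.three_le
    rw [e, finrank_bot] at this
    omega) fun y hy => (h.toMod.mp_fix k).1
      (mem_Cs.1 hc _ (mem_sup_right ⟨_, h.toMo.tT_mem (oW ▸ hy) 1, rfl⟩)).symm
  exact ⟨v, hv, mem_inf.2 ⟨mul_mem (inv_mem (h.L_le ⟨v, rfl⟩)) (mem_C1.2 ct), h.toMod.mp_conj k⟩⟩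

theorem nosq (h : Hyp φ t) {W : Submodule F M} (hW : Mx B W) {d : G} (hd : d ∈ AA φ t (VW B W))
    (d1 : d ≠ t) (e : IsConj t d) {c : G} (hc : c ∈ C1 t ⊓ Cs φ.range) : c * c ≠ t := fun c2 => by
  obtain ⟨n, hn, en⟩ := h.trJ hW hd e
  have h1 : c ∈ Cs (AA φ t (VW B W)) := mem_Cs.2 fun a ha => by
    obtain ⟨v, -, rfl | rfl⟩ := h.mem_AA.1 ha
    · exact mem_Cs.1 hc.2 _ ⟨v, rfl⟩
    · exact (Commute.mul_right (mem_C1.1 hc.1) (mem_Cs.1 hc.2 _ ⟨v, rfl⟩).symm).symm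
  have h2 : n * c * n⁻¹ ∈ Cs (AA φ t (VW B W)) :=
    mem_normalizer_conj (normalizer_le_normalizer_centralizer _ hn) h1
  obtain ⟨v, hv, hc'⟩ := cs_J h hW h2
  obtain ⟨c', e'⟩ : ∃ c', n * c * n⁻¹ = φ v * c' := ⟨(φ v)⁻¹ * (n * c * n⁻¹), by group⟩
  rw [e', inv_mul_cancel_left] at hc'
  have pc : Commute (φ v) c' := mem_Cs.1 hc'.2 _ ⟨v, rfl⟩
  have h3 : d = c' * c' := by
    rw [← en, ← c2, ← conj_mul', e', pc.symm.mul_mul_mul_comm, ← map_mul, h.toMo.sq_VW hW.ti hv,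
      map_one, one_mul]
  have h4 : d ∈ Cs φ.range := h3 ▸ mul_mem hc'.2 hc'.2
  obtain ⟨v0, -, e0 | e0⟩ := h.mem_AA.1 hd
  · rw [e0] at h4
    rw [e0, h.toMod.one_of h4, map_one, isConj_one_left] at e
    exact h.t1 e
  · rw [e0] at h4
    rw [h.toMod.one_of ((mul_mem_cancel_left h.tC).1 h4), map_one, mul_one] at e0
    exact d1 e0

end P1c

open P1c

theorem Hyp.inner (h : Hyp φ t) {g : G} (h1 : g * t * g⁻¹ ≠ t) (h2 : Commute t (g * t * g⁻¹)) :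
    ∃ W, Mx B W ∧ ∃ d ∈ AA φ t (VW B W), d ≠ t ∧ IsConj t d := by
  have key : ∀ d ∈ AA φ t ⊤, d * d = 1 → d ≠ t → IsConj t d →
      ∃ W, Mx B W ∧ ∃ d ∈ AA φ t (VW B W), d ≠ t ∧ IsConj t d := by
    intro d hd d2 d1 e
    obtain ⟨v, -, ev⟩ := h.mem_AA.1 hd
    have v2 : v * v = 1 := h.inj (by
      rw [map_mul, map_one]
      rcases ev with rfl | rfl
      · exact d2
      · rwa [(h.tc v).symm.mul_mul_mul_comm, h.t2, one_mul] at d2)
    obtain ⟨W, hW, hv⟩ := h.toMo.inv v2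
    exact ⟨W, hW, d, h.mem_AA.2 ⟨v, hv, ev⟩, d1, e⟩
  by_cases hs : g * t * g⁻¹ ∈ AA φ t ⊤
  · exact key _ hs (Comp.conj_sq h.t2 g) h1 (isConj_iff.2 ⟨g, rfl⟩)
  obtain ⟨A, -, A4, Ale, hA⟩ := h.field h2.symm hs
  by_contra hno
  have ct : ∀ a ∈ A, Commute a t := fun a ha => mem_C1.1 (Ale ha).2
  have out : ∀ a ∈ A, a ≠ 1 → ∀ α, Mp φ φ a α → fa α ≠ 1 := fun a ha a1 α k e => by
    obtain ⟨l, -, el⟩ := h.inn (ct a ha) (hA a ha).1 k e
    refine hno (key (t * a) (mul_mem (tA _) (h.mem_AA.2 ⟨l, mem_top l, el⟩)) ?_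
      (fun e' => a1 (mul_eq_left.1 e')) (hA a ha).2)
    rw [(ct a ha).mul_mul_mul_comm, h.t2, (hA a ha).1, one_mul]
  obtain ⟨a, ha, b, hb, a1, b1, ab⟩ : ∃ a ∈ A, ∃ b ∈ A, a ≠ 1 ∧ b ≠ 1 ∧ a ≠ b := by
    have := Fintype.ofFinite A
    obtain ⟨x, y, z, hxy, hxz, hyz⟩ := Fintype.two_lt_card_iff.1
      (show 2 < Fintype.card A by rw [← Nat.card_eq_fintype_card]; omega)
    by_cases hx : x = 1
    · subst hx
      exact ⟨y, y.2, z, z.2, fun e => hxy (Subtype.ext e).symm, fun e => hxz (Subtype.ext e).symm,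
        fun e => hyz (Subtype.ext e)⟩
    by_cases hy : y = 1
    · subst hy
      exact ⟨x, x.2, z, z.2, fun e => hx (Subtype.ext e), fun e => hyz (Subtype.ext e).symm,
        fun e => hxz (Subtype.ext e)⟩
    exact ⟨x, x.2, y, y.2, fun e => hx (Subtype.ext e), fun e => hy (Subtype.ext e),
      fun e => hxy (Subtype.ext e)⟩
  obtain ⟨α, kα⟩ := h.toMod.ind (h.cn (mem_C1.2 (ct a ha)))
  obtain ⟨β, kβ⟩ := h.toMod.ind (h.cn (mem_C1.2 (ct b hb)))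
  have fα : fa α * fa α = 1 := by
    rw [← h.toMo.fa_mul, h.toMod.mp_sq kα (hA a ha).1, h.toMo.fa_one]
  have fβ : fa β * fa β = 1 := by
    rw [← h.toMo.fa_mul, h.toMod.mp_sq kβ (hA b hb).1, h.toMo.fa_one]
  refine out _ (mul_mem ha hb) (fun e => ab ?_) _ (kα.mul kβ) ?_
  · exact mul_right_cancel (e.trans (hA b hb).1.symm)
  · rw [h.toMo.fa_mul, aut_inv fα fβ (out a ha a1 α kα) (out b hb b1 β kβ), fβ]

theorem Hyp.h1 (h : Hyp φ t) {W : Submodule F M} (hW : Mx B W) {d : G} (hd : d ∈ AA φ t (VW B W))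
    (d1 : d ≠ t) (e : IsConj t d) : H1 φ t := by
  have ht : t ∈ C1 t ⊓ Cs φ.range := ⟨mem_C1.2 rfl, h.tC⟩
  have key : ∀ k : ℕ, ∀ u ∈ C1 t ⊓ Cs φ.range, u ^ 2 ^ k = 1 → u ∈ zpowers t := fun k => by
    induction k with
    | zero => exact fun u _ hu => by rw [← pow_one u]; exact (show u ^ 1 = 1 from hu) ▸ one_mem _
    | succ k ih =>
      intro a ha e1
      rcases Tl.mem_zpowers_of_sq h.t2 (ih _ (mul_mem ha ha)
        (by rw [← pow_two, ← pow_mul, ← pow_succ', e1])) with e2 | e2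
      · rcases h.inv_eq ha.2 e2 (mem_C1.1 ha.1) with rfl | rfl
        exacts [one_mem _, mem_zpowers _]
      · exact absurd e2 (nosq h hW hd d1 e ha)
  refine ⟨h, fun c hc => ?_⟩
  have := SG2.cent_syl (D := zpowers t) (zpowers_le.2 ⟨ht, mem_Cs.2 fun u hu => mem_C1.1 hu.1⟩)
    (fun u hu ⟨k, hk⟩ => key k u hu hk) (Comp.Tw.of_sq h.t2).isPGroup hc
  rw [sup_comm] at this
  rw [← mem_C1.1 hc.1]
  exact Comp.mem_sup_zpowers h.t2 (le_Ns_Oc_self ht) this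

theorem Hyp.par (h : Hyp φ t) {W : Submodule F M} (hW : Mx B W) {d : G} (hd : d ∈ AA φ t (VW B W))
    (d1 : d ≠ t) (e : IsConj t d) :
    ∃ u, u ≠ 0 ∧ ∃ v ∈ Qu B u, v ≠ 1 ∧ IsConj t (t * φ v) := by
  by_contra hn
  push Not at hn
  have k3 := h.toMo.three_le
  have el : ∀ a ∈ AA φ t (VW B W), a * a = 1 := fun a ha =>
    h.sq_AA (fun v hv => h.toMo.sq_VW hW.ti hv) ha
  have mN : ∀ l ∈ St B W, φ l ∈ Ns ((VW B W).map φ) := fun l hl =>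
    le_normalizer_map φ ⟨l, (UM.St_le_Ns hl).1.1, rfl⟩
  have nA : ∀ l ∈ St B W, φ l ∈ Ns (AA φ t (VW B W)) := fun l hl => mem_Ns_iff.2 (by
    rw [h.cj_AA, mem_Ns_iff.1 (UM.St_le_Ns hl).1.1])
  obtain ⟨u, hu, u0⟩ := (Submodule.ne_bot_iff W).1 fun e => by
    have := hW.dim
    rw [e, finrank_bot] at this
    omega
  have inv : ∀ n ∈ Ns (AA φ t (VW B W)), ∀ w ∈ {w | w ∈ AA φ t (VW B W) ∧ IsConj t w},
      n * w * n⁻¹ ∈ {w | w ∈ AA φ t (VW B W) ∧ IsConj t w} := fun n hn w hw =>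
    ⟨mem_normalizer_conj hn hw.1, hw.2.trans (isConj_iff.2 ⟨n, rfl⟩)⟩
  obtain ⟨π, hπ, fx⟩ := UM.P1.odd_fix (V := (VW B W).map φ) (comm_of_sq el) (tA _) h.t2
    (Λ := {w | w ∈ AA φ t (VW B W) ∧ IsConj t w}) (fun w hw => hw.1)
    (fun w hw hv => by
      obtain ⟨v, hv', rfl | rfl⟩ := h.mem_AA.1 hw.1
      · exact absurd ⟨v, hv', rfl⟩ hv
      · rw [← mul_assoc, h.t2, one_mul]
        exact ⟨v, hv', rfl⟩)
    (UM.P1.odd_of_fix (t := t) ((h.toMo.two_QW (h.toMo.ti1 u)).map φ) (by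
      rintro _ ⟨p, hp, rfl⟩ w hw
      have hp' := h.toMo.QW_le_St hW.ti ((Submodule.span_singleton_le_iff_mem u W).2 hu) hp
      exact ⟨inv _ (nA p hp') w hw.1, fun e => hw.2 ((mem_normalizer_iff.1 (mN p hp') w).2 e)⟩)
      ⟨⟨tA _, IsConj.refl t⟩, fun e => h.t_not (map_le_range _ _ e)⟩ (by
      rintro w ⟨⟨hw, e⟩, hv⟩
      refine ⟨fun hc => ?_, fun e => e ▸ Cs_anti (map_le_range _ _) h.tC⟩
      obtain ⟨v, hv', rfl | rfl⟩ := h.mem_AA.1 hw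
      · exact absurd ⟨v, hv', rfl⟩ hv
      · have h1 := (mul_mem_cancel_left (Cs_anti (map_le_range _ _) h.tC)).1 hc
        have h2 : v ∈ Qu B u := by
          rw [← h.toMo.Cs_Q u0]
          exact mem_Cs.2 fun p hp => h.toMod.comm.1 (mem_Cs.1 h1 _ ⟨p, hp, rfl⟩)
        by_cases v1 : v = 1
        · rw [v1, map_one, mul_one]
        · exact absurd e (hn u u0 v h2 v1)))
  replace fx := fun n hn => fx n hn (inv n hn)
  obtain rfl : π = t := by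
    obtain ⟨v, hv, e⟩ := hπ
    have e' : π = t * φ v := by rw [e, ← mul_assoc, h.t2, one_mul]
    rw [e', h.toMo.cVSt hW.ti (by rw [hW.dim]; omega) hv fun y hy => ?_, map_one, mul_one]
    have h1 := fx _ (nA y hy)
    rw [e', ← conj_mul', Comp.conj_eq_of_comm (h.tc y).symm, mul_right_inj] at h1
    exact h.toMod.comm.1 (Comp.comm_of_conj_eq h1).symm
  obtain ⟨n, hn', en⟩ := h.trJ hW hd e
  exact d1 (en.symm.trans (fx n hn'))

end Cfsg.Lib.SP6
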