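import Cfsg.Agent.SP6.A1
import Cfsg.Agent.SP6.AP
import Cfsg.Agent.SP6.K1
import Cfsg.Agent.SP6.K3
import Cfsg.Agent.SP6.KIT
import Cfsg.Agent.SP6.P2a

/-!
# Standard subgroups of type `Sp_{2k}(2ⁿ)`: existence of long translations
-/

set_option autoImplicit false
set_option linter.unusedSectionVars false

namespace Cfsg.Lib.SP6

open Subgroup Module Cfsg.Lib.Trans Cfsg.Lib.Gold Cfsg.Lib.Class.Form Cfsg.Lib.Class.FAut
open Cfsg.Lib.UM (tT tE VW RR Fx St QW Cf mp Semi fa Mp cx re Ot kk Mx Fr3)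
open Cfsg.Lib.SG2 (Uq Top)
open Cfsg.Lib.Comp (Tw)
open scoped commutatorElement

section Tower
variable {G F M : Type*} [Group G] [Finite G] [Field F] [Finite F] [AddCommGroup M] [Module F M]
  [FiniteDimensional F M] {B : M →ₗ[F] M →ₗ[F] F} {φ φ' : sIsom B →* G} {t : G}

namespace P3b

/-- `m` normalises `P_u` and acts on `Q_u` as `α`. -/
structure Ac (φ : sIsom B →* G) (u : M) (m : G) (α : MulAut (sIsom B)) : Prop where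
  ns : m ∈ Ns ((Pu B u).map φ)
  mp : mp α (Pu B u) = Pu B u
  act : ∀ v ∈ Qu B u, m * φ v * m⁻¹ = φ (α v)

variable {u : M} {m m' : G} {α α' : MulAut (sIsom B)}

theorem ex (h : Mod φ) (u0 : u ≠ 0) (hm : m ∈ Ns ((Pu B u).map φ)) : ∃ α, Ac φ u m α := by
  obtain ⟨β, hβ⟩ := h.hom_P hm
  obtain ⟨α, h1, h2⟩ := h.toMo.ap1 u0 β
  exact ⟨α, hm, h1, fun v hv => by
    rw [← h2 ⟨v, UM.QW_le_Fx hv⟩ hv]; exact hβ ⟨v, UM.QW_le_Fx hv⟩⟩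

theorem cjQ (h : Mod φ) (u0 : u ≠ 0) (hm : m ∈ Ns ((Pu B u).map φ)) {v : sIsom B}
    (hv : v ∈ Qu B u) : ∃ w ∈ Qu B u, m * φ v * m⁻¹ = φ w := by
  obtain ⟨w, hw, e⟩ := (mem_normalizer_iff.1 (h.Ns_P u0 hm).1 (φ v)).1 ⟨v, hv, rfl⟩
  exact ⟨w, hw, e.symm⟩

theorem cjR (h : Mod φ) (u0 : u ≠ 0) (hm : m ∈ Ns ((Pu B u).map φ)) {c : F} (c0 : c ≠ 0) :
    ∃ d : F, d ≠ 0 ∧ m * φ (tT B u c) * m⁻¹ = φ (tT B u d) := by
  obtain ⟨w, hw, e⟩ := (mem_normalizer_iff.1 (h.Ns_P u0 hm).2 (φ (tT B u c))).1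
    ⟨_, h.toMo.mem_RR.2 ⟨c, rfl⟩, rfl⟩
  obtain ⟨d, rfl⟩ := h.toMo.mem_RR.1 hw
  refine ⟨d, fun d0 => h.toMo.tT_ne u0 c0 (h.inj ?_), e.symm⟩
  rw [d0, h.toMo.tT_zero, map_one] at e
  rw [map_one, ← conj_eq_one_iff (a := m), e]

theorem mp_mul (α β : MulAut (sIsom B)) (A : Subgroup (sIsom B)) :
    UM.mp (α * β) A = UM.mp α (UM.mp β A) := (map_map A α.toMonoidHom β.toMonoidHom).symm

theorem Ac.mul (h : Mod φ) (u0 : u ≠ 0) (k : Ac φ u m α) (k' : Ac φ u m' α') :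
    Ac φ u (m * m') (α * α') := by
  refine ⟨mul_mem k.ns k'.ns, ?_, fun v hv => ?_⟩
  · rw [mp_mul, k'.mp, k.mp]
  · obtain ⟨w, hw, e⟩ := cjQ h u0 k'.ns hv
    have e' : α' v = w := h.inj (by rw [← e, k'.act v hv])
    rw [show m * m' * φ v * (m * m')⁻¹ = m * (m' * φ v * m'⁻¹) * m⁻¹ by group, e, k.act w hw,
      MulAut.mul_apply, e']

theorem Ac.inv (h : Mod φ) (u0 : u ≠ 0) (k : Ac φ u m α) : Ac φ u m⁻¹ α⁻¹ := by
  refine ⟨inv_mem k.ns, ?_, fun v hv => ?_⟩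
  · have e := mp_mul α⁻¹ α (Pu B u)
    rw [k.mp, inv_mul_cancel] at e
    rw [← e]
    exact map_id _
  · obtain ⟨w, hw, e⟩ := cjQ h u0 (inv_mem k.ns) hv
    have e' : α w = v := h.inj (by rw [← k.act w hw, ← e]; group)
    rw [e, ← e', MulAut.inv_apply_self]

theorem self {g : sIsom B} (hg : g ∈ Ns (Pu B u)) : Ac φ u (φ g) (MulAut.conj g) :=
  ⟨mem_Ns_iff.2 (by rw [← map_cj, mem_Ns_iff.1 hg]), mem_Ns_iff.1 hg, fun v _ => by simp⟩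

theorem tor (h : Mo B) (u0 : u ≠ 0) {a : F} (ha : a ≠ 0) : ∃ g ∈ Ns (Pu B u),
    ∀ c, g * tT B u c * g⁻¹ = tT B u (a * a * c) := by
  obtain ⟨z, hz⟩ := h.exists_eq u0 1
  obtain ⟨g, h1, -⟩ := h.tor hz ha
  refine ⟨g, (UM.St_le_Ns (UM.mem_St_of fun x hx => ?_)).2, fun c => by
    rw [h.tT_conj, h1, h.tT_smul]⟩
  obtain ⟨b, rfl⟩ := Submodule.mem_span_singleton.1 hx
  rw [map_smul, h1]
  exact Submodule.smul_mem _ _ (Submodule.smul_mem _ _ (Submodule.mem_span_singleton_self u))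

theorem step1 (h : H1 φ t) (u0 : u ≠ 0) (e : IsConj t (t * φ (tT B u 1))) :
    ∃ (n : G) (α : MulAut (sIsom B)) (c : F), Ac φ u n α ∧ fa α = 1 ∧ c ≠ 0 ∧
      n * t * n⁻¹ = t * φ (tT B u c) := by
  obtain ⟨n, hn, h1⟩ := h.p2b u0 e
  obtain ⟨α, k⟩ := ex h.toMod u0 hn
  rcases h.toMo.q_cases with ⟨a, a0, a1⟩ | ⟨-, h2⟩
  · obtain ⟨g, hg, h2⟩ := tor h.toMo u0 a0
    obtain ⟨c, c0, h3⟩ := cjR h.toMod u0 (inv_mem hn) (one_ne_zero (α := F))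
    have c1 : c + a * a * c ≠ 0 := fun h4 => a1 (h.toMo.sq_inj (mul_right_cancel₀ c0 (by
      linear_combination h4 - c * h.two)))
    obtain ⟨d, d0, h4⟩ := cjR h.toMod u0 hn c1
    refine ⟨n * φ g * n⁻¹, α * MulAut.conj g * α⁻¹, d,
      (k.mul h.toMod u0 (self hg)).mul h.toMod u0 (k.inv h.toMod u0), ?_, d0, ?_⟩
    · rw [h.toMo.fa_mul, h.toMo.fa_mul, h.toMo.fa_conj, h.toMo.fa_inv, mul_one, mul_inv_cancel]
    · have h5 : φ (tT B u c) * φ (tT B u c) = 1 := by rw [← map_mul, h.toMo.tT_sq, map_one]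
      have h6 : n⁻¹ * t * n = t * φ (tT B u c) := by
        rw [← inv_eq_of_mul_eq_one_right h5, ← h3, eq_mul_inv_iff_mul_eq]
        calc n⁻¹ * t * n * (n⁻¹ * φ (tT B u 1) * n⁻¹⁻¹) = n⁻¹ * (t * φ (tT B u 1)) * n := by group
          _ = t := by rw [← h1]; group
      have h7 : φ (tT B u 1) = n * φ (tT B u c) * n⁻¹ := by rw [← h3]; group
      calc n * φ g * n⁻¹ * t * (n * φ g * n⁻¹)⁻¹ = n * (φ g * (n⁻¹ * t * n) * (φ g)⁻¹) * n⁻¹ := by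
            group
        _ = n * t * n⁻¹ * (n * φ (tT B u (a * a * c)) * n⁻¹) := by
            rw [h6, h.toHyp.conj_t, h2]; group
        _ = t * (n * (φ (tT B u c) * φ (tT B u (a * a * c))) * n⁻¹) := by rw [h1, h7]; group
        _ = _ := by rw [← map_mul, ← h.toMo.tT_add, h4]
  · refine ⟨n, α, 1, k, RingEquiv.ext fun a => ?_, one_ne_zero, h1⟩
    rcases h2 a with rfl | rfl <;> simp

end P3b

open P3b

theorem H1.ld (h : H1 φ t) {u : M} (u0 : u ≠ 0) (e : IsConj t (t * φ (tT B u 1))) :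
    ∃ d, LD φ t d u := by
  obtain ⟨n, α, c, k, h1, c0, h2⟩ := step1 h u0 e
  obtain ⟨l, rfl⟩ := h.toMo.inner h1
  obtain ⟨b, hb⟩ := h.toMo.exists_sq c⁻¹
  have b0 : b ≠ 0 := fun b0 => inv_ne_zero c0 (by rw [← hb, b0, mul_zero])
  obtain ⟨g, hg, h3⟩ := tor h.toMo u0 b0
  have hl : l ∈ Ns (Pu B u) := mem_Ns_iff.2 k.mp
  have k1 := ((self (φ := φ) hg).mul h.toMod u0 (k.mul h.toMod u0 ((self hl).inv h.toMod u0))).mul
    h.toMod u0 ((self hg).inv h.toMod u0)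
  rw [mul_inv_cancel, mul_one, mul_inv_cancel] at k1
  refine ⟨_, mem_Cs.2 ?_, k1.ns, ?_⟩
  · rintro _ ⟨v, hv, rfl⟩
    exact (mul_inv_eq_iff_eq_mul.1 (k1.act v hv)).symm
  · have c1 : (φ g)⁻¹ * t * φ g = t := by rw [mul_assoc, (h.tc g).eq]; group
    have c2 : (φ l)⁻¹ * t * φ l = t := by rw [mul_assoc, (h.tc l).eq]; group
    calc φ g * (n * (φ l)⁻¹) * (φ g)⁻¹ * t * (φ g * (n * (φ l)⁻¹) * (φ g)⁻¹)⁻¹
        = φ g * (n * ((φ l)⁻¹ * ((φ g)⁻¹ * t * φ g) * φ l) * n⁻¹) * (φ g)⁻¹ := by group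
      _ = _ := by rw [c1, c2, h2, h.toHyp.conj_t, h3, hb, inv_mul_cancel₀ c0]

end Tower

end Cfsg.Lib.SP6
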