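import Cfsg.Agent.SP6.K1
import Cfsg.Agent.SP6.P6b

/-!
# Standard subgroups of symplectic type: the additivity defect and the multiplication rule
-/

set_option autoImplicit false
set_option linter.unusedSectionVars false
set_option linter.unusedVariables false

namespace Cfsg.Lib.SP6

open Subgroup Module Cfsg.Lib.Trans Cfsg.Lib.Gold Cfsg.Lib.Class.Form Cfsg.Lib.Class.FAut
open Cfsg.Lib.UM (tT tE VW RR Fx St QW Cf mp Semi fa Mp cx re Ot kk Mx Fr3)
open Cfsg.Lib.SG2 (Uq Top)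
open Cfsg.Lib.Comp (Tw)
open scoped commutatorElement

variable {G F M : Type*} [Group G] [Finite G] [Field F] [Finite F] [AddCommGroup M] [Module F M]
  [FiniteDimensional F M] {B : M →ₗ[F] M →ₗ[F] F} {φ φ' : sIsom B →* G} {t : G} {κ β : F}
  {H : M → M → G}

namespace P6c

theorem cx (h : TA φ t κ H) (g : sIsom B) (w y y' : M) :
    φ g * XX H w y y' * (φ g)⁻¹ = XX H (lin g w) (lin g y) (lin g y') := by
  rw [XX, XX, ← conj_mul, ← conj_mul, h.eqv, h.eqv, h.eqv, map_add]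

theorem cP {x : G} {w : M} (k : x ∈ Cs ((Pu B w).map φ)) {g : sIsom B} (hg : lin g w = w) :
    Commute (φ g) x := mem_centralizer_iff.1 k _ (mem_map_of_mem φ (UM.mem_Fx1.2 hg))

theorem xH (h : TA φ t κ H) {w y y' : M} (k : XX H w y y' ∈ Cs ((Pu B w).map φ)) (p : M)
    (h1 : B w y = 0) (h2 : B w y' = 0) : Commute (XX H w y y') (H w p) := by
  by_cases w0 : w = 0
  · rw [w0, h.zero']; exact Commute.one_right _
  by_cases hp : B w p = 0
  swap
  · rw [h.junk w p hp]; exact Commute.one_right _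
  by_cases hp' : p ∈ F ∙ w
  · obtain ⟨a, rfl⟩ := Submodule.mem_span_singleton.1 hp'
    rw [h.self]
    exact (cP k (by rw [h.toMo.lin_tT, h.alt]; simp)).symm
  obtain ⟨z, z1, z2, z3, z4, -⟩ := h.toMo.out3 w0 h1 h2
  obtain ⟨g, g1, g2⟩ := h.toMo.tr2 (P2.iff.2 ⟨z1, w0, P6b.not_mem h z4⟩) (P2.iff.2 ⟨hp, w0, hp'⟩)
  have c : Commute (XX H w y y') (H w z) :=
    ((h.com3 ⟨h1, z1, z2⟩).mul_left (h.com3 ⟨h2, z1, z3⟩)).mul_left
      (h.com3 ⟨by simp [h1, h2], z1, by simp [z2, z3]⟩)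
  have e := h.eqv g w z
  rw [g1, g2] at e
  rw [← e]
  exact ((cP k g1).symm.mul_right c).mul_right (cP k g1).symm.inv_right

theorem com1 (h : TA φ t κ H) {w y y' : M} (k : XX H w y y' ∈ Cs ((Pu B w).map φ))
    (h1 : B w y = 0) (h3 : B y y' ≠ 0) : Commute (H w y') (H w (y + y')) := by
  have g1 : lin (tT B y (B y y')⁻¹) w = w := by rw [h.toMo.lin_tT, h.toMo.swap h1]; simp
  have e := cx h (tT B y (B y y')⁻¹) w y y'
  rw [(cP k g1).mul_inv_cancel, g1, h.toMo.lin_tT, h.toMo.lin_tT, h.alt, inv_mul_cancel₀ h3,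
    mul_zero, zero_smul, add_zero, one_smul, XX, XX, add_comm y' y, ← add_assoc, h.toMo.vadd_self,
    zero_add, mul_assoc, mul_assoc] at e
  exact mul_left_cancel e

end P6c

theorem TA2.ta3 (h : TA2 φ t κ H)
    (k : ∀ w y y', B w y = 0 → B w y' = 0 → XX H w y y' ∈ Cs ((Pu B w).map φ)) :
    TA3 φ t κ H := by
  refine ⟨h, k, fun w y y' p h1 h2 => P6c.xH h.toTA (k w y y' h1 h2) p h1 h2, fun w y y' => ?_⟩
  by_cases h1 : B w y = 0
  swap
  · rw [h.junk w y h1]; exact Commute.one_left _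
  by_cases h2 : B w y' = 0
  swap
  · rw [h.junk w y' h2]; exact Commute.one_right _
  by_cases h3 : B y y' = 0
  · exact h.toTA.com3 ⟨h1, h2, h3⟩
  have h4 : B w (y + y') = 0 := by simp [h1, h2]
  have := P6c.com1 h.toTA (k w (y + y') y' h4 h2) h4 (by simpa [h.alt] using h3)
  rw [add_assoc, h.toMo.vadd_self, add_zero] at this
  exact this.symm

theorem TA3.xsq (h : TA3 φ t κ H) (w y y' : M) : XX H w y y' * XX H w y y' = 1 := by
  have c : Commute (H w y * H w y') (H w (y + y')) := (h.comw _ _ _).mul_left (h.comw _ _ _)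
  rw [XX, ← sq, c.mul_pow, (h.comw w y y').mul_pow, sq, sq, sq, h.sq, h.sq, h.sq, one_mul, one_mul]

theorem TA3.xt (h : TA3 φ t κ H) {w y y' : M} (h1 : B w y = 0) (h2 : B w y' = 0) :
    XX H w y y' * t * (XX H w y y')⁻¹ = t * φ (tT B w ((1 + κ) * B y y')) := P6b.xt h.toTA h1 h2

theorem TA3.xdep (h : TA3 φ t κ H) {w y y' z z' : M} (h1 : B w y = 0) (h2 : B w y' = 0)
    (h3 : B w z = 0) (h4 : B w z' = 0) (e : B z z' = B y y') : XX H w z z' = XX H w y y' := by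
  by_cases w0 : w = 0
  · rw [w0, P6b.x0 h.toTA, P6b.x0 h.toTA]
  by_cases f : B y y' = 0
  · rw [P6b.x1 h.toTA ⟨h1, h2, f⟩, P6b.x1 h.toTA ⟨h3, h4, e.trans f⟩]
  obtain ⟨g, g1, g2, g3⟩ := h.toMo.trh w0 h1 h2 f w0 h3 h4 e
  have := P6c.cx h.toTA g w y y'
  rw [(P6c.cP (h.xc w y y' h1 h2) g1).mul_inv_cancel, g1, g2, g3] at this
  exact this.symm

theorem TA3.mu (h : TA3 φ t 1 H) : ∃ b, MU φ H b := by
  obtain ⟨u, u0⟩ := h.toMo.exists_ne
  obtain ⟨x, x', x1, -, x2, -, x3, -⟩ := h.toMo.hyp2 (h.alt u) one_ne_zero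
  obtain ⟨z, hz⟩ := h.toMo.ext2 u0
  have xt := h.xt x1 x2
  rw [h.toMo.add_self, zero_mul, h.toMo.tT_zero, map_one, mul_one] at xt
  obtain ⟨v, hv, o, ho, e⟩ := h.toH1.cF (h.toMo.ti1 u) (mul_inv_eq_iff_eq_mul.1 xt)
    (h.xc u x x' x1 x2)
  obtain ⟨b, rfl⟩ := h.toMo.mem_RR.1 hv
  have e1 := h.toH1.inverted (h.cO u z) ho (h.toMo.tT_sq u b) (h.toMo.tE_ne hz) (h.ht u z hz.uw)
    (P6a.fixT h.toTA (h.alt u) hz.uw b).symm e (by
      rw [(h.xH u x x' z x1 x2).symm.mul_inv_cancel, inv_eq_of_mul_eq_one_right (h.xsq u x x')])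
  refine ⟨b, fun w y y' h1 h2 => ?_⟩
  have main : XX H w y y' = φ (tT B w (b * B y y')) := by
    by_cases w0 : w = 0
    · rw [w0, P6b.x0 h.toTA, h.toMo.tT_zero', map_one]
    by_cases f : B y y' = 0
    · rw [P6b.x1 h.toTA ⟨h1, h2, f⟩, f, mul_zero, h.toMo.tT_zero, map_one]
    obtain ⟨s, hs⟩ := h.toMo.exists_sq (B y y')
    have s0 : s ≠ 0 := by rintro rfl; exact f (by rw [← hs, mul_zero])
    obtain ⟨g, g1, g2, g3⟩ := h.toMo.trh (w' := s • w) (y' := s⁻¹ • y) (z' := s⁻¹ • y') u0 x1 x2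
      (by rw [x3]; exact one_ne_zero) (smul_ne_zero s0 w0) (by simp [h1]) (by simp [h2])
      (by simp only [map_smul, LinearMap.smul_apply, smul_eq_mul, ← hs, x3]; field_simp)
    have := P6c.cx h.toTA g u x x'
    rw [e1, ← map_inv, ← map_mul, ← map_mul, h.toMo.tT_conj, g1, g2, g3, h.toMo.tT_smul, hs, XX,
      ← smul_add, h.smul, h.smul, h.smul, smul_inv_smul₀ s0, smul_inv_smul₀ s0,
      smul_inv_smul₀ s0, mul_comm] at this
    exact this.symm
  rw [← main, ← (h.xH w y y' _ h1 h2).eq, XX, mul_assoc _ (H w (y + y')), h.sq, mul_one]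

end Cfsg.Lib.SP6
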