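import Cfsg.Agent.SP6.K1
import Cfsg.Agent.SP6.P3k
import Cfsg.Agent.SP6.P6a

/-!
# Standard subgroups of symplectic type: `κ ∈ {0, 1}`
-/

set_option autoImplicit false
set_option linter.unusedSectionVars false
set_option linter.unusedVariables false

namespace Cfsg.Lib.SP6

open Subgroup Module Cfsg.Lib.Trans Cfsg.Lib.Gold Cfsg.Lib.Class.Form Cfsg.Lib.Class.FAut
open Cfsg.Lib.UM (tT tE VW RR Fx St QW Cf mp Semi fa Mp cx re Ot kk Mx Fr3)
open Cfsg.Lib.SG2 (Uq Top)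
open Cfsg.Lib.Comp (Tw)
open scoped commutatorElement

variable {G F M : Type*} [Group G] [Finite G] [Field F] [Finite F] [AddCommGroup M] [Module F M]
  [FiniteDimensional F M] {B : M →ₗ[F] M →ₗ[F] F} {φ φ' : sIsom B →* G} {t : G} {κ β : F}
  {H : M → M → G}

namespace P7a

theorem flip {a e j : G} (h : e * a * e⁻¹ = a * j) : a⁻¹ * e * a = j * e := by
  rw [mul_assoc, mul_inv_eq_iff_eq_mul.1 h]; group

theorem flip' {a e j : G} (a2 : a⁻¹ = a) (h : e * a * e⁻¹ = a * j) : a * e * a⁻¹ = j * e := by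
  rw [← flip h, a2]

theorem cm (a b c : G) : a * (b * c) * a⁻¹ = a * b * a⁻¹ * (a * c * a⁻¹) := by group

end P7a

theorem TA3.gE (h : TA3 φ t κ H) {u x w y : M} (k : O3 B w u x) (h1 : B w y = 0) (h2 : B x y = 0) :
    H u x * H w y * (H u x)⁻¹ * t * (H u x * H w y * (H u x)⁻¹)⁻¹ = t * φ (tE B w (y + B u y • x)) ∧
      ∀ p c, B w p = 0 → H u x * H w y * (H u x)⁻¹ * φ (ee B w p c) * (H u x * H w y * (H u x)⁻¹)⁻¹ =
        φ (ee B w p (c + κ * κ * B x p * B u y + κ * B y p)) := by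
  have wu := k.uw
  have wx := k.ux
  have ux := k.wx
  have uw := h.toMo.swap wu
  have xw := h.toMo.swap wx
  have xu := h.toMo.swap ux
  have yx := h.toMo.swap h2
  have cj : ∀ z, H u x * H w y * (H u x)⁻¹ * z * (H u x * H w y * (H u x)⁻¹)⁻¹ =
      H u x * (H w y * ((H u x)⁻¹ * z * H u x) * (H w y)⁻¹) * (H u x)⁻¹ := fun z => by group
  refine ⟨?_, fun p c hp => ?_⟩
  · have l1 : lin (tE B u x) w = w := by rw [h.toMo.lin_tE ux, uw, xw]; simp
    have l2 : lin (tE B u x) y = y + B u y • x := by rw [h.toMo.lin_tE ux, h2]; simp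
    have e0 : (H u x)⁻¹ * t * H u x = t * φ (tE B u x) := by
      rw [← h.ht u x ux, h.toTA.inv]
    have e1 := h.eqv (tE B u x) w y
    rw [l1, l2, h.add2 w y _ ⟨h1, by simp [wx], by simp [yx]⟩] at e1
    have e2 := h.eqv (tE B w y) u x
    rw [h.toMo.lin_tE h1, h.toMo.lin_tE h1, wu, wx, yx, h.symm y u, zero_smul, add_zero, add_zero,
      zero_smul, add_zero, h.add1 u _ x ⟨by simp [uw], ux, by simp [wx]⟩, h.smul] at e2
    have c1 : Commute (H u x) (H w (B u y • x)) :=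
      h.com u x w _ ⟨ux, uw, xw⟩ ⟨ux, by simp [ux], by simp [h.alt]⟩ (by simp [wx])
    have c2 := (P6a.fixE h.toTA ux (h.alt u) ux xu (h.alt x)).symm
    have c3 := h.actQ w (B u y • x) y (by simp [wx]) h1
    rw [map_smul, LinearMap.smul_apply, h2, smul_zero, mul_zero, h.toMo.ee_zero, h.toTA.inv] at c3
    rw [cj, e0, P7a.cm (H w y), h.ht w y h1, P7a.flip' (h.toTA.inv w y) e1, ← conj_mul, ← conj_mul,
      ← conj_mul, h.ht u x ux, P7a.flip' (h.toTA.inv u x) e2, c1.mul_inv_cancel, c2.mul_inv_cancel,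
      mul_assoc, mul_assoc, ← mul_assoc (H w _ * _), c3, ← map_mul, ← map_mul, ← l2]
    conv_rhs => rw [← l1, ← h.toMo.tE_conj _ h1]
    rw [inv_eq_of_mul_eq_one_right (h.toMo.tE_sq ux), mul_assoc]
  · have m1 : B w (B p x • u) = 0 := by simp [wu]
    have m2 : B w (κ • B p x • u) = 0 := by simp [wu]
    have m3 : B w (B p u • x) = 0 := by simp [wx]
    have e1 := h.eqv (tE B w p) u x
    rw [h.toMo.lin_tE hp, h.toMo.lin_tE hp, wu, wx, zero_smul, add_zero, add_zero,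
      h.add1 u _ _ ⟨by simp [uw], by simp [uw, ux], by simp [wx, h.alt]⟩,
      h.add2 u x _ ⟨ux, by simp [uw], by simp [xw]⟩, h.smul, smul_add, smul_smul,
      h.toTA.shift m3, ← h.smul (B p x) u w, h.swap w _ m1, mul_assoc (H u x)] at e1
    have e2 := P7a.flip e1
    generalize hJ : H w (B p x • u) * φ (tE B w (κ • B p x • u)) *
      (H w (B p u • x) * φ (tT B w (κ * (B p u * B p x)))) = J at e2
    have e3 : ∀ d, (H u x)⁻¹ * φ (ee B w p d) * H u x = J * φ (ee B w p d) := fun d => by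
      rw [ee, map_mul, mul_assoc, mul_assoc, (P6a.fixT h.toTA wu wx d).eq, ← mul_assoc, ← mul_assoc,
        e2, mul_assoc]
    have e4 : H w y * J * (H w y)⁻¹ = J * φ (tT B w (κ * κ * B x p * B u y)) := by
      have e5 : κ * κ * B x p * B u y = κ * B y (κ • B p x • u) := by
        simp only [map_smul, smul_eq_mul, h.symm y u, h.symm p x]
        ring
      rw [e5, ← hJ, ← conj_mul, ← conj_mul, ← conj_mul, (h.comw w y _).mul_inv_cancel,
        (h.comw w y _).mul_inv_cancel, (P6a.fixT h.toTA (h.alt w) h1 _).symm.mul_inv_cancel,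
        h.actQ w y _ h1 m2, ee, map_mul, mul_assoc, mul_assoc, mul_assoc, mul_assoc,
        ((P6a.fixT h.toTA (h.alt w) m3 _).mul_right
          ((h.toMo.comm_TT (h.alt w) _ _).map φ)).eq]
    rw [cj, e3, P7a.cm (H w y), e4, (h.toTA.ksH h1).2 p hp, mul_assoc J, ← map_mul, ← h.toMo.ee_zero',
      h.toMo.ee_mul (by simp) hp, zero_add, ← e3]
    simp only [map_zero, LinearMap.zero_apply, add_zero]
    rw [add_left_comm, ← add_assoc]
    group

theorem TA3.kap (h : TA3 φ t κ H) : κ = 0 ∨ κ = 1 := by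
  obtain ⟨w, w0⟩ := h.toMo.exists_ne
  obtain ⟨x, hx⟩ := h.toMo.ext2 w0
  obtain ⟨u, y, a1, a2, a3, a4, a5, -⟩ := h.toMo.hyp2 hx.uw one_ne_zero
  obtain ⟨e1, e2⟩ := h.gE ⟨a1, hx.uw, h.toMo.swap a2⟩ a3 a4
  rw [a5, one_smul, ← h.toMo.ee_zero] at e1
  have ks := h.toH3.kk w0 (by simp [a3, hx.uw]) ⟨e1, fun p hp c => ⟨_, e2 p c hp⟩⟩
  obtain ⟨p, p1, p2⟩ := h.toMo.dual2 w0 hx.not_mem 0 1
  have := ((h.toMo.ee_inj w0 p1 p1).1 (h.inj ((e2 p 0 p1).symm.trans (ks.2 p p1 0)))).2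
  rw [map_add, LinearMap.add_apply, p2, a5] at this
  have e : κ * (κ - 1) = 0 := by linear_combination this
  exact (mul_eq_zero.1 e).imp_right sub_eq_zero.1

end Cfsg.Lib.SP6
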