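import Cfsg.Agent.SP6.K1
import Cfsg.Agent.SP6.P3k
import Cfsg.Agent.SP6.P6a
import Cfsg.Agent.SP6.P7a

/-!
# Standard subgroups of type `Sp_{2k}(2ⁿ)`, `k ≥ 3`: the commutator relation
-/

set_option autoImplicit false
set_option linter.unusedSectionVars false

namespace Cfsg.Lib.SP6

open Subgroup Module Cfsg.Lib.Trans Cfsg.Lib.Gold Cfsg.Lib.Class.Form Cfsg.Lib.Class.FAut
open Cfsg.Lib.UM (tT tE VW RR Fx St QW Cf mp Semi fa Mp cx re Ot kk Mx Fr3)
open Cfsg.Lib.SG2 (Uq Top)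
open Cfsg.Lib.Comp (Tw)
open scoped commutatorElement

variable {G F M : Type*} [Group G] [Finite G] [Field F] [Finite F] [AddCommGroup M] [Module F M]
  [FiniteDimensional F M] {B : M →ₗ[F] M →ₗ[F] F} {φ φ' : sIsom B →* G} {t : G}
  {κ β : F} {H : M → M → G}

namespace P7b

theorem fixT (m : Mo B) {z v : M} (e : B z v = 0) (c : F) : lin (tT B z c) v = v := by
  rw [m.lin_tT, e, mul_zero, zero_smul, add_zero]

theorem fixe (m : Mo B) {z q v : M} (k : B z q = 0) (e : B z v = 0) (e' : B q v = 0) (c : F) :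
    lin (ee B z q c) v = v := by
  rw [m.lin_ee k, e, e', mul_zero, add_zero, zero_smul, zero_smul, add_zero, add_zero]

theorem scal {w x : M} (k : P2 B w x) {a : F} (e : a • x ∈ F ∙ w) : a = 0 := by
  by_contra ha
  exact k.not_mem ((Submodule.smul_mem_iff _ ha).1 e)

theorem first (h : TA3 φ t κ H) {u x w y : M} (k : P2 B w x) (h1 : B w u = 0) (h2 : B x u = 0)
    (h3 : B w y = 0) (h4 : B x y = 0) (h5 : B u y ≠ 0) : ∃ p c, B w p = 0 ∧
      H u x * H w y * (H u x)⁻¹ = H w (y + B u y • x) * φ (ee B w p c) := by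
  have m := h.toMo
  have hy : B w (y + B u y • x) = 0 := by rw [map_add, map_smul, h3, k.uw, smul_zero, add_zero]
  obtain ⟨e1, e2⟩ := h.gE ⟨h1, k.uw, m.swap h2⟩ h3 h4
  have k1 := h.toH3.kk k.ne hy (c := 0) ⟨by rw [e1, m.ee_zero], fun p hp c => ⟨_, e2 p c hp⟩⟩
  have k2 := h.toTA.ksH hy
  obtain ⟨v, hv, o, ho, e⟩ := k2.uniq h.toH1 k.ne hy k1
  obtain ⟨p, c, hp, rfl⟩ := (m.mem_Q k.ne).1 hv
  refine ⟨p, c, hp, h.toH1.ratio (h.cO _ _) ho (h.sq _ _) (Comp.conj_sq (h.sq _ _) _) k2.1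
    (k2.2 p hp c) (fun e' => h5 ?_) e⟩
  have hp' : B w (y + B u y • x + p) = 0 := by rw [map_add, hy, hp, add_zero]
  rw [m.ee_mul hy hp, m.ee_mul hp' hp, add_assoc _ p, m.vadd_self, add_zero] at e'
  obtain ⟨a, ha⟩ := Submodule.mem_span_singleton.1 ((m.ee_eq_one k.ne hy).1 e').1
  have := congrArg (B u) ha
  rwa [map_smul, m.swap h1, smul_zero, map_add, map_smul, m.swap h2, smul_zero, add_zero,
    eq_comm] at this

end P7b

open P7b

theorem TA3.pi (h : TA3 φ t κ H) {u x w y : M} (k : P2 B w x) (h1 : B w u = 0) (h2 : B x u = 0)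
    (h3 : B w y = 0) (h4 : B x y = 0) (h5 : B u y ≠ 0) :
    ∃ a c : F, H u x * H w y * (H u x)⁻¹ = H w y * H w (B u y • x) * φ (ee B w (a • x) c) := by
  have m := h.toMo
  have a := h.toTA
  obtain ⟨p, c, hp, e⟩ := first h k h1 h2 h3 h4 h5
  have xw := m.swap k.uw
  have hx : B w (B u y • x) = 0 := by rw [map_smul, k.uw, smul_zero]
  have ad : H w (y + B u y • x) = H w y * H w (B u y • x) :=
    h.add2 _ _ _ ⟨h3, hx, by rw [map_smul, m.swap h4, smul_zero]⟩
  have cm : ∀ g : sIsom B, lin g w = w → lin g x = x → lin g y = y →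
      Commute (φ g) (H u x * H w y * (H u x)⁻¹) → lin g p + p ∈ F ∙ w := fun g a1 a2 a3 a4 => by
    refine (m.comm_ee k.ne hp a1 c).1 (h.toMod.comm.1 ?_)
    have := (a.fix a1 (show lin g (y + B u y • x) = _ by
      rw [map_add, map_smul, a2, a3])).inv_right.mul_right a4
    rwa [e, inv_mul_cancel_left] at this
  -- the element `E(x, y)`
  have b1 : B x p • y + B y p • x ∈ F ∙ w := by
    have f1 : lin (tE B x y) w = w := m.ee_zero x y ▸ fixe m h4 xw (m.swap h3) 0
    have f2 : lin (tE B x y) x = x := m.ee_zero x y ▸ fixe m h4 (h.alt x) (m.swap h4) 0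
    have f3 : lin (tE B x y) y = y := m.ee_zero x y ▸ fixe m h4 h4 (h.alt y) 0
    have f4 := h.eqv (tE B x y) u x
    rw [f2, m.lin_tE h4, h2, zero_smul, add_zero, a.shift' (m.swap h2)] at f4
    have f5 := (a.fix (fixT m xw (κ * B y u)) (fixT m h4 _)).eq
    have := cm _ f1 f2 f3 (mul_inv_eq_iff_eq_mul.1 (by
      rw [← conj_mul, ← conj_mul, ← conj_inv, f4, (a.fix f1 f3).eq, mul_inv_cancel_right,
        mul_assoc (H u x), f5]
      group))
    rwa [m.lin_tE h4, add_comm _ p, ← add_assoc, ← add_assoc, m.vadd_self, zero_add] at this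
  have xp : B x p = 0 := by
    obtain ⟨b, hb⟩ := Submodule.mem_span_singleton.1 b1
    have := congrArg (B u) hb
    rw [map_smul, m.swap h1, smul_zero, map_add, map_smul, map_smul, m.swap h2, smul_zero, add_zero,
      smul_eq_mul] at this
    exact (mul_eq_zero.1 this.symm).resolve_right h5
  have yp : B y p = 0 := scal k (by rwa [xp, zero_smul, zero_add] at b1)
  -- the element `E(x, u)`
  have up : B u p = 0 := by
    have f1 : lin (tE B x u) w = w := m.ee_zero x u ▸ fixe m h2 xw (m.swap h1) 0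
    have f2 : lin (tE B x u) x = x := m.ee_zero x u ▸ fixe m h2 (h.alt x) (m.swap h2) 0
    have f3 : lin (tE B x u) u = u := m.ee_zero x u ▸ fixe m h2 h2 (h.alt u) 0
    have f4 : lin (tE B x u) y = y + B u y • x := by rw [m.lin_tE h2, h4, zero_smul, add_zero]
    have f5 := h.eqv (tE B x u) w y
    have f6 := h.eqv (tE B x u) w (y + B u y • x)
    rw [f1, f4, ad] at f5
    rw [f1, map_add, map_smul, f2, f4, add_assoc, m.vadd_self, add_zero] at f6
    have f7 : Commute (H u x) (H w (B u y • x)) := h.com _ _ _ _ ⟨m.swap h2, m.swap h1, xw⟩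
      ⟨m.swap h2, by rw [map_smul, m.swap h2, smul_zero], by rw [map_smul, h.alt, smul_zero]⟩ hx
    have f8 := (a.ksH hx).2 p hp c
    rw [map_smul, LinearMap.smul_apply, xp, smul_zero, mul_zero, add_zero] at f8
    have f9 : φ (tE B x u) * _ * (φ (tE B x u))⁻¹ = φ (tE B x u) * _ * (φ (tE B x u))⁻¹ :=
      congrArg (fun z => φ (tE B x u) * z * (φ (tE B x u))⁻¹) e
    rw [← conj_mul, ← conj_mul, ← conj_mul, ← conj_inv] at f9
    rw [f5, f6, (a.fix f3 f2).eq, mul_inv_cancel_right, ← mul_assoc, mul_assoc _ _ (H u x)⁻¹,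
      f7.inv_left.symm.eq, ← mul_assoc, e, ad, mul_assoc (H w y), mul_assoc (H w y),
      mul_right_inj, mul_inv_eq_iff_eq_mul.1 f8, mul_assoc, h.sq, mul_one] at f9
    have := (m.comm_ee k.ne hp f1 c).1 (h.toMod.comm.1 (mul_inv_eq_iff_eq_mul.1 f9.symm))
    rw [m.lin_tE h2, add_comm _ p, ← add_assoc, ← add_assoc, m.vadd_self, zero_add, xp, zero_smul,
      zero_add] at this
    exact scal k this
  have sp : p ∈ l2 F w x := m.mem_span fun z hz => by
    have z1 : B w z = 0 := hz w (by simp)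
    have z2 : B x z = 0 := hz x (by simp)
    obtain ⟨z', hz'⟩ : ∃ z', z' = z + (B y z / B u y) • u + (B u z / B u y) • y := ⟨_, rfl⟩
    have ev : ∀ q, B q z' = B q z + B y z / B u y * B q u + B u z / B u y * B q y := fun q => by
      rw [hz', map_add, map_add, map_smul, map_smul, smul_eq_mul, smul_eq_mul]
    have y1 : B w z' = 0 := by rw [ev, z1, h1, h3]; ring
    have y2 : B x z' = 0 := by rw [ev, z2, h2, h4]; ring
    have y3 : B u z' = 0 := by
      rw [ev, h.alt, mul_zero, add_zero, div_mul_cancel₀ _ h5, m.add_self]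
    have y4 : B y z' = 0 := by
      rw [ev, h.alt, mul_zero, add_zero, h.symm y u, div_mul_cancel₀ _ h5, m.add_self]
    have y5 := ev p
    rw [m.swap up, m.swap yp, mul_zero, mul_zero, add_zero, add_zero] at y5
    rw [← y5]
    have fx := a.fix (fixT m (m.swap y3) 1) (fixT m (m.swap y2) 1)
    have := cm (tT B z' 1) (fixT m (m.swap y1) 1) (fixT m (m.swap y2) 1) (fixT m (m.swap y4) 1)
      ((fx.mul_right (a.fix (fixT m (m.swap y1) 1) (fixT m (m.swap y4) 1))).mul_right fx.inv_right)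
    rw [m.lin_tT, add_comm _ p, ← add_assoc, m.vadd_self, zero_add, one_mul] at this
    by_contra ne
    obtain ⟨b, hb⟩ := Submodule.mem_span_singleton.1
      ((Submodule.smul_mem_iff _ fun e => ne (m.swap e)).1 this)
    exact ne (by rw [← hb, map_smul, m.swap hp, smul_zero])
  obtain ⟨b, b', rfl⟩ := Submodule.mem_span_pair.1 sp
  exact ⟨b', c, by rw [e, ad, add_comm, m.ee_add_self (by rw [map_smul, k.uw, smul_zero])]⟩

namespace P7b

theorem one (h : TA3 φ t κ H) : ∃ β c : F, ∀ u x w y, P2 B w x → B w u = 0 → B x u = 0 →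
    B w y = 0 → B x y = 0 → B u y = 1 →
      H u x * H w y * (H u x)⁻¹ = H w y * H w x * φ (ee B w (β • x) c) := by
  have m := h.toMo
  obtain ⟨w0, hw⟩ := m.exists_ne
  obtain ⟨x0, k0⟩ := m.ext2 hw
  obtain ⟨u0, y0, a1, a2, a3, a4, a5, -⟩ := m.hyp2 k0.uw one_ne_zero
  obtain ⟨b, c, e⟩ := h.pi k0 a1 a2 a3 a4 (by rw [a5]; exact one_ne_zero)
  rw [a5, one_smul] at e
  refine ⟨b, c, fun u x w y k h1 h2 h3 h4 h5 => ?_⟩
  obtain ⟨g, rfl, rfl, rfl, rfl⟩ := m.tr4 k0 a1 a2 a3 a4 (by rw [a5]; exact one_ne_zero)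
    k h1 h2 h3 h4 (h5.trans a5.symm)
  rw [← h.eqv, ← h.eqv, ← h.eqv, ← map_smul, ← m.ee_conj g (by rw [map_smul, k0.uw, smul_zero]),
    map_mul, map_mul, map_inv, conj_mul, conj_mul, conj_mul, ← e]
  group

theorem grp {a b p q r s : G} (e1 : a * (b * p) * a⁻¹ = b * q) (e2 : b * (a * r) * b⁻¹ = a * s)
    (h1 : Commute a p) (h2 : Commute b r) (h3 : Commute a r) (h4 : Commute a s) (h5 : Commute b p)
    (h6 : Commute b q) : q * p⁻¹ * (s * r⁻¹) = 1 := by
  have f1 : a * b * a⁻¹ * b⁻¹ = q * p⁻¹ := by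
    calc _ = a * b * (a⁻¹ * p) * p⁻¹ * b⁻¹ := by group
      _ = a * (b * p) * a⁻¹ * p⁻¹ * b⁻¹ := by rw [h1.inv_left.eq]; group
      _ = _ := by rw [e1, mul_assoc b, (h6.mul_right h5.inv_right).eq, mul_inv_cancel_right]
  have f2 : b * a * b⁻¹ * a⁻¹ = s * r⁻¹ := by
    calc _ = b * a * (b⁻¹ * r) * r⁻¹ * a⁻¹ := by group
      _ = b * (a * r) * b⁻¹ * r⁻¹ * a⁻¹ := by rw [h2.inv_left.eq]; group
      _ = _ := by rw [e2, mul_assoc a, (h4.mul_right h3.inv_right).eq, mul_inv_cancel_right]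
  rw [← f1, ← f2]
  group

theorem two (h : TA3 φ t κ H) : ∃ β : F, ∀ u x w y, P2 B w x → B w u = 0 → B x u = 0 →
    B w y = 0 → B x y = 0 → B u y = 1 →
      H u x * H w y * (H u x)⁻¹ = H w y * H w x * φ (tE B w (β • x)) := by
  have m := h.toMo
  have a := h.toTA
  obtain ⟨b, c, e⟩ := one h
  refine ⟨b, fun u x w y k h1 h2 h3 h4 h5 => ?_⟩
  have e1 := e u x w y k h1 h2 h3 h4 h5
  have h6 : B y u = 1 := (m.symm _ _).trans h5
  have e2 := e y w x u (k.symm m) h4 h3 h2 h1 h6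
  have wx := k.uw
  have xw := m.swap wx
  have uw := m.swap h1
  have ux := m.swap h2
  have yw := m.swap h3
  have yx := m.swap h4
  have s1 : B w (b • x) = 0 := by simp [wx]
  have s2 : B x (b • w) = 0 := by simp [xw]
  have s3 : B x (κ • u) = 0 := by simp [h2]
  have s4 : B w (κ • y) = 0 := by simp [h3]
  have s5 : B w (κ • x) = 0 := by simp [wx]
  have a1 := h.eqv (tE B x (κ • u)) w y
  have a2 := h.eqv (tE B w (κ • y)) x u
  rw [show lin (tE B x (κ • u)) w = w by simp [m.lin_tE s3, xw, uw],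
    show lin (tE B x (κ • u)) y = y + κ • x by simp [m.lin_tE s3, h4, h5],
    h.add2 _ _ _ ⟨h3, s5, by simp [yx]⟩] at a1
  rw [show lin (tE B w (κ • y)) x = x by simp [m.lin_tE s4, wx, yx],
    show lin (tE B w (κ • y)) u = u + κ • w by simp [m.lin_tE s4, h1, h6],
    h.add2 _ _ _ ⟨h2, by simp [xw], by simp [uw]⟩] at a2
  have f1 : H x u * (H w y * H w (κ • x)) * (H x u)⁻¹ = H w y * (H w x * φ (ee B w (b • x) c)) := by
    rw [← mul_assoc (H w y), ← e1, ← a1, h.swap x u h2]; group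
  have f2 : H w y * (H x u * H x (κ • w)) * (H w y)⁻¹ = H x u * (H x w * φ (ee B x (b • w) c)) := by
    rw [← mul_assoc (H x u), ← e2, ← a2, h.swap w y h3]; group
  have c1 : ∀ v, B w v = 0 → B x v = 0 → lin (ee B w (b • x) c) v = v := fun v k1 k2 =>
    fixe m s1 k1 (by simp [k2]) c
  have c2 : ∀ v, B w v = 0 → B x v = 0 → lin (ee B x (b • w) c) v = v := fun v k1 k2 =>
    fixe m s2 k2 (by simp [k1]) c
  have c3 := a.fix (c1 w (m.alt w) xw) (c1 x wx (m.alt x))
  have := grp f1 f2 (h.com _ _ _ _ ⟨h2, xw, uw⟩ ⟨h2, by simp [m.alt], by simp [ux]⟩ s5)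
    (h.com _ _ _ _ ⟨h3, wx, yx⟩ ⟨h3, by simp [m.alt], by simp [yw]⟩ (by simp [xw]))
    (h.comw _ _ _) ((h.comw _ _ _).mul_right (a.fix (c2 x wx (m.alt x)) (c2 u h1 h2)).symm)
    (h.comw _ _ _) ((h.comw _ _ _).mul_right (a.fix (c1 w (m.alt w) xw) (c1 y h3 h4)).symm)
  have e3 : φ (ee B w (b • x) c) * φ (ee B x (b • w) c) = 1 := by
    rcases h.kap with rfl | rfl
    · rw [zero_smul, zero_smul, a.zero, a.zero, inv_one, mul_one, mul_one, h.swap w x wx, zero_smul,
        m.tE_zero, map_one, mul_one, ← c3.eq, mul_assoc, ← mul_assoc (H w x), h.sq, one_mul] at this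
      exact this
    · rw [one_smul, one_smul, ← c3.eq, mul_inv_cancel_right,
        ← (a.fix (c2 x wx (m.alt x)) (c2 w (m.alt w) xw)).eq, mul_inv_cancel_right] at this
      exact this
  rw [← map_mul, ← map_one φ] at e3
  obtain ⟨z, z1, z2⟩ := m.dual2 k.ne k.not_mem 1 0
  have e4 := congrArg (fun g => lin g z) (h.inj e3)
  simp only [lin_mul, lin_one, m.lin_ee s1, m.lin_ee s2, map_add, map_smul, LinearMap.smul_apply,
    z1, z2, wx, m.alt, smul_eq_mul, mul_zero, mul_one, add_zero, zero_smul, one_smul, zero_add] at e4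
  rw [add_assoc z, m.vadd_self, add_zero, add_eq_left, smul_eq_zero] at e4
  rw [e1, e4.resolve_right k.ne, m.ee_zero]

end P7b

theorem TA3.th0 (h : TA3 φ t κ H) : ∃ β, TH0 φ t H κ β := by
  have m := h.toMo
  have a := h.toTA
  obtain ⟨b, e⟩ := two h
  refine ⟨b, h.toH1, h.kap, h.junk, h.ht, h.sq, h.eqv, h.cO, h.add1, h.add2, h.smul, h.swap, h.self,
    h.actQ, h.com, h.comw, fun u x w y k h3 h4 => ?_⟩
  have sm : ∀ (c : F) q v, B q v = 0 → B (c • q) v = 0 := fun c q v e => by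
    rw [map_smul, LinearMap.smul_apply, e, smul_zero]
  have sm' : ∀ (c : F) q v, B q v = 0 → B q (c • v) = 0 := fun c q v e => by
    rw [map_smul, e, smul_zero]
  by_cases h5 : B u y = 0
  · rw [h5, mul_zero, zero_smul, a.zero, m.tE_zero, map_one, mul_one]
    exact commutatorElement_eq_one_iff_commute.2
      (h.com _ _ _ _ ⟨k.wx, m.swap k.uw, m.swap k.ux⟩ ⟨k.wx, h5, h4⟩ h3)
  by_cases w0 : w = 0
  · rw [w0, a.zero', a.zero', m.tE_zero', map_one, mul_one, commutatorElement_one_right]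
  by_cases xw : x ∈ F ∙ w
  · obtain ⟨c, rfl⟩ := Submodule.mem_span_singleton.1 xw
    have s1 := sm' c _ _ k.uw
    have s2 := sm' κ _ _ s1
    have kk : κ * B y (κ • c • u) = κ * (B u y * c) := by
      rw [map_smul, map_smul, h.symm y u, smul_eq_mul, smul_eq_mul]
      rcases h.kap with rfl | rfl <;> ring
    have f1 := h.actQ w y _ h3 s2
    have f2 := (a.fix (fixT m (h.alt w) (κ * (B u y * c))) (fixT m s1 _)).symm.eq
    rw [kk, ee, map_mul] at f1
    have f3 : (φ (tT B w (κ * (B u y * c))))⁻¹ = φ (tT B w (κ * (B u y * c))) :=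
      inv_eq_of_mul_eq_one_right (by rw [← map_mul, m.tT_sq, map_one])
    rw [smul_smul, smul_smul, m.tE_self, map_one, mul_one, h.self, ← h.smul, h.swap _ _ s1]
    calc _ = H w (c • u) * (φ (tE B w (κ • c • u)) *
          (H w y * φ (tE B w (κ • c • u)) * (H w y)⁻¹)⁻¹) * (H w y * (H w (c • u))⁻¹ * (H w y)⁻¹) := by
          rw [commutatorElement_def]; group
      _ = _ := by
          rw [f1, (h.comw w y _).inv_right.eq, mul_inv_cancel_right, mul_inv_rev, f3,
            ← mul_assoc (φ _), (h.toMod.comm.2 (m.comm_Q w0 (m.tE_mem_Q s2) (m.tT_mem_Q w _))).eq,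
            mul_inv_cancel_right, f2, mul_inv_cancel_right]
  have k' : P2 B w (B u y • x) := by
    have := (P2.iff.2 ⟨k.ux, w0, xw⟩).smul one_ne_zero h5
    rwa [one_smul] at this
  have e1 := e ((B u y)⁻¹ • u) (B u y • x) w y k' (sm' _ _ _ k.uw)
    (sm _ _ _ (sm' _ _ _ (m.swap k.wx))) h3 (sm _ _ _ h4)
    (by rw [map_smul, LinearMap.smul_apply, smul_eq_mul, inv_mul_cancel₀ h5])
  rw [h.smul, inv_smul_smul₀ h5, smul_smul] at e1
  have f1 := h.actQ w y _ h3 (sm' (b * B u y) _ _ k.ux)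
  rw [sm' _ _ _ (m.swap h4), mul_zero, m.ee_zero] at f1
  rw [commutatorElement_def, e1, (h.comw w y _).eq, mul_assoc (H w _), mul_assoc (H w _), f1]

end Cfsg.Lib.SP6
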