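import Cfsg.Agent.SP6.K1
import Cfsg.Agent.SP6.K4
import Cfsg.Agent.SP6.KIT
import Cfsg.Agent.SP6.P1a
import Cfsg.Agent.SP6.P3k
import Cfsg.Agent.SP6.LDa
import Cfsg.Agent.SP6.P6a

/-!
# Type III: the action of a long translation on the short ones
-/

set_option autoImplicit false
set_option linter.unusedSectionVars false

namespace Cfsg.Lib.SP6

open Subgroup Module Cfsg.Lib.Trans Cfsg.Lib.Gold Cfsg.Lib.Class.Form Cfsg.Lib.Class.FAut
open Cfsg.Lib.UM (tT tE VW RR Fx St QW Cf mp Semi fa Mp cx re Ot kk Mx Fr3)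
open Cfsg.Lib.SG2 (Uq Top)
open Cfsg.Lib.Comp (Tw)
open scoped commutatorElement

variable {G F M : Type*} [Group G] [Finite G] [Field F] [Finite F] [AddCommGroup M] [Module F M]
  [FiniteDimensional F M] {B : M →ₗ[F] M →ₗ[F] F} {φ φ' : sIsom B →* G} {t : G}
  {κ β : F} {H : M → M → G} {d : G} {u x y : M}

namespace P8b

theorem canc {Γ : Type*} [Group Γ] {a b c : Γ} (h1 : Commute a b) (h2 : Commute a (b * c)) :
    Commute a c := by simpa using h1.inv_right.mul_right h2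

theorem canc' {Γ : Type*} [Group Γ] {a b c : Γ} (h1 : Commute a c) (h2 : Commute a (b * c)) :
    Commute a b := by simpa using h2.mul_right h1.inv_right

theorem cE (h : TA φ t κ H) (k : B u x = 0) (k' : B u y = 0) (e : B x y = 0) (c : F) :
    Commute (H u x) (φ (ee B u y c)) := by
  have := (h.ksH k).2 y k' c
  rw [e, mul_zero, add_zero] at this
  exact mul_inv_eq_iff_eq_mul.1 this

theorem one (h : TA φ t 1 H) (u0 : u ≠ 0) (k : LD φ t d u) (p : P2 B u x) :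
    ∃ ξ c, B u ξ = 0 ∧ d * H u x * d⁻¹ = H u x * φ (ee B u ξ c) := by
  have m := h.toMo
  have h1 := h.toH1
  have k0 : B u 0 = 0 := map_zero _
  have kd : KS φ t 1 d u 0 1 := KS.of_cq h1 k.cq k.tr
  have kb := ((kd.mul h1 k0 p.uw (h.ksH p.uw)).mul h1 (by rw [zero_add, p.uw]) k0 (kd.inv h1 k0))
  simp only [zero_add, add_zero, map_zero, LinearMap.zero_apply, mul_zero, m.add_self] at kb
  obtain ⟨v, hv, o, ho, e⟩ := (h.ksH p.uw).uniq h1 u0 p.uw kb
  obtain ⟨ξ, c, hξ, rfl⟩ := (m.mem_Q u0).1 hv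
  refine ⟨ξ, c, hξ, h1.ratio (h.cO u x) ho (h.sq u x) (by rw [conj_mul, h.sq, mul_one, mul_inv_cancel])
    (h.ht u x p.uw) ((h.ksH p.uw).2 ξ hξ c) (fun e1 => p.not_mem ?_) e⟩
  have hx : B u (x + ξ) = 0 := by rw [map_add, p.uw, hξ, add_zero]
  rw [← m.ee_zero, m.ee_mul p.uw hξ, m.ee_mul hx hξ, add_assoc, m.vadd_self, add_zero] at e1
  exact ((m.ee_eq_one u0 p.uw).1 e1).1

theorem two (h : TA φ t 1 H) (u0 : u ≠ 0) (k : LD φ t d u) (p : P2 B u x) :
    ∃ a c : F, d * H u x * d⁻¹ = H u x * φ (ee B u (a • x) c) := by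
  have m := h.toMo
  obtain ⟨ξ, c, hξ, e⟩ := one h u0 k p
  obtain ⟨l, n, -, -, -, hl⟩ := k.act h.toH1 u0
  have := m.mem_span' (s := {u, x}) (p := ξ) (W := F ∙ u) (z₀ := x)
    (by simp [p.uw, m.alt]) p.not_mem fun z hz z0 => by
    have hu : B u z = 0 := hz u (by simp)
    have hx : B x z = 0 := hz x (by simp)
    have f1 : lin (tT B z 1) u = u := by rw [m.lin_tT, m.swap hu, mul_zero, zero_smul, add_zero]
    have c1 : Commute (φ (tT B z 1)) (H u x) :=
      h.fix f1 (by rw [m.lin_tT, m.swap hx, mul_zero, zero_smul, add_zero])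
    have hz' : B u ((l z + n) • z) = 0 := by rw [map_smul, hu, smul_zero]
    have c2 : Commute (d * φ (tT B z 1) * d⁻¹) (d * H u x * d⁻¹) := c1.conj d
    rw [hl z hu, m.tT_shift hu, mul_assoc, ← one_mul (tT B u _), ← m.tE_zero u, ← ee_eq_1',
      m.ee_mul hz' (map_zero _), add_zero, e, map_mul] at c2
    have c3 := canc (c1.mul_left (cE h p.uw hz' (by rw [map_smul, hx, smul_zero]) _).symm) c2
    rw [← map_mul, h.toMod.comm] at c3
    have c4 := canc' (m.comm_Q u0 (m.ee_mem_Q hξ c) (m.ee_mem_Q hz' _)) c3.symm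
    have c5 := (m.comm_ee u0 hξ f1 c).1 c4.symm
    rw [m.lin_tT, add_right_comm, m.vadd_self, zero_add, one_mul] at c5
    by_contra ne
    exact z0 ((Submodule.smul_mem_iff _ fun e => ne (m.swap e)).1 c5)
  obtain ⟨a, b, rfl⟩ := Submodule.mem_span_pair.1 this
  exact ⟨b, c, by rw [e, add_comm, m.ee_add_self (by rw [map_smul, p.uw, smul_zero])]⟩

theorem three (h : TA φ t 1 H) (u0 : u ≠ 0) (k : LD φ t d u) (p : P3 B u x y) {a c a' c' : F}
    (e : d * H u x * d⁻¹ = H u x * φ (ee B u (a • x) c))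
    (e' : d * H u y * d⁻¹ = H u y * φ (ee B u (a' • y) c')) : a = a' := by
  have m := h.toMo
  obtain ⟨b, c2, e2⟩ := two h u0 k (p.p2 m).2.2.2
  have hx : B u (a • x) = 0 := by rw [map_smul, p.uw, smul_zero]
  have hy : B u (a' • y) = 0 := by rw [map_smul, p.ux, smul_zero]
  rw [h.add2 u x y p.toO3, ← conj_mul, e, e', (cE h p.ux hx (by
    rw [map_smul, m.swap p.wx, smul_zero]) c).symm.mul_mul_mul_comm, mul_left_cancel_iff,
    ← map_mul, m.ee_mul hx hy] at e2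
  obtain ⟨s, hs⟩ := Submodule.mem_span_singleton.1 ((m.ee_inj u0 (by rw [map_add, hx, hy, add_zero])
    (by simp [p.uw, p.ux])).1 (h.inj e2)).1
  have := Fintype.linearIndependent_iff.1 p.li ![-s, a + b, a' + b] (by
    simp only [Fin.sum_univ_three, Matrix.cons_val, neg_smul, hs]
    module)
  have h1 : a + b = 0 := this 1
  have h2 : a' + b = 0 := this 2
  exact add_right_cancel (h1.trans h2.symm)

end P8b

theorem TA3.zeta (h : TA3 φ t 1 H) {d : G} {u : M} (u0 : u ≠ 0) (k : LD φ t d u) :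
    ∃ (a : F) (c : M → F), ∀ x, P2 B u x → d * H u x * d⁻¹ = H u x * φ (ee B u (a • x) (c x)) := by
  have m := h.toMo
  choose! a c hc using fun x => P8b.two (x := x) h.toTA u0 k
  obtain ⟨w, hw⟩ := m.ext2 u0
  refine ⟨a w, c, fun x p => ?_⟩
  obtain ⟨z, h1, h2, h3, h4, h5⟩ := m.out3 u0 p.uw hw.uw
  have p1 : P3 B u x z := P3.iff.2 ⟨p, h1, h2, h4⟩
  have p2 : P3 B u w z := P3.iff.2 ⟨hw, h1, h3, h5⟩
  have pz := hc z (p1.p2 m).2.1
  rw [P8b.three h.toTA u0 k p2 (hc w hw) pz, ← P8b.three h.toTA u0 k p1 (hc x p) pz]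
  exact hc x p

end Cfsg.Lib.SP6
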