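import Cfsg.Agent.SP6.A1
import Cfsg.Agent.SP6.A2
import Cfsg.Agent.SP6.AFF
import Cfsg.Agent.SP6.AP
import Cfsg.Agent.SP6.GEN
import Cfsg.Agent.SP6.II
import Cfsg.Agent.SP6.K1
import Cfsg.Agent.SP6.K4
import Cfsg.Agent.SP6.KIT
import Cfsg.Agent.SP6.LDa
import Cfsg.Agent.SP6.P1a
import Cfsg.Agent.SP6.P1c
import Cfsg.Agent.SP6.P2a
import Cfsg.Agent.SP6.P2d
import Cfsg.Agent.SP6.P3b
import Cfsg.Agent.SP6.P3k
import Cfsg.Agent.SP6.P5c
import Cfsg.Agent.SP6.P6a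
import Cfsg.Agent.SP6.P6b
import Cfsg.Agent.SP6.P6c
import Cfsg.Agent.SP6.P7b
import Cfsg.Agent.SP6.P7d
import Cfsg.Agent.SP6.P8b
import Cfsg.Agent.SP6.P8d

/-!
# Standard subgroups of type `Sp_{2k}(2ⁿ)`, `k ≥ 3`: short translations from the affine lemma
-/

set_option autoImplicit false
set_option linter.unusedSectionVars false

namespace Cfsg.Lib.SP6

open Subgroup Module Cfsg.Lib.Trans Cfsg.Lib.Gold Cfsg.Lib.Class.Form Cfsg.Lib.Class.FAut
open Cfsg.Lib.UM (tT tE VW RR Fx St QW Cf mp Semi fa Mp cx re Ot kk Mx Fr3)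

variable {G F M : Type*} [Group G] [Finite G] [Field F] [Finite F] [AddCommGroup M] [Module F M]
  [FiniteDimensional F M] {B : M →ₗ[F] M →ₗ[F] F} {φ φ' : sIsom B →* G} {t : G}

namespace P3a

variable {u x y w : M} {n n' : G}

variable (φ t) in
/-- The action of `n` on the cosets `t e(x, ·)`. -/
def Rl (u : M) (n : G) (x y : M) : Prop :=
  ∀ c, ∃ d, n * (t * φ (ee B u x c)) * n⁻¹ = t * φ (ee B u y d)

theorem Rl.one : Rl φ t u 1 x x := fun c => ⟨c, by simp⟩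

theorem Rl.mul (k : Rl φ t u n y w) (k' : Rl φ t u n' x y) : Rl φ t u (n * n') x w := fun c => by
  obtain ⟨d, e⟩ := k' c
  obtain ⟨d', e'⟩ := k d
  exact ⟨d', by rw [← e', ← e]; group⟩

theorem of_one (m : Mo B) (hn : n ∈ Ns ((RR B u).map φ)) {c d : F}
    (e : n * (t * φ (ee B u x c)) * n⁻¹ = t * φ (ee B u y d)) : Rl φ t u n x y := fun c' => by
  obtain ⟨_, h1, e1⟩ := (mem_normalizer_iff.1 hn _).1 ⟨_, m.mem_RR.2 ⟨c + c', rfl⟩, rfl⟩
  obtain ⟨d', rfl⟩ := m.mem_RR.1 h1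
  have e2 : ee B u x c' = ee B u x c * tT B u (c + c') := by
    rw [ee, ee, mul_assoc, ← m.tT_add, ← add_assoc, m.add_self, zero_add]
  refine ⟨d + d', ?_⟩
  rw [e2, map_mul, ← mul_assoc t, ← conj_mul, e, ← e1, mul_assoc, ← map_mul, ee, ee, mul_assoc,
    ← m.tT_add]

theorem Rl.inv (m : Mo B) (hn : n ∈ Ns ((RR B u).map φ)) (k : Rl φ t u n x y) :
    Rl φ t u n⁻¹ y x := by
  obtain ⟨d, e⟩ := k 0
  exact of_one m (inv_mem hn) (c := d) (d := 0) (by rw [← e]; group)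

theorem Rl.shift (m : Mo B) (k : Rl φ t u n x y) (hy : B u y = 0) (a : F) :
    Rl φ t u n x (y + a • u) := fun c => by
  simpa only [m.ee_add_self hy] using k c

theorem Rl.of_L (h : Hyp φ t) (g : sIsom B) {a : F} (e : lin g u = a • u) (hx : B u x = 0)
    (ha : a ≠ 0) : Rl φ t u (φ g) x (a • lin g x) := fun c => ⟨_, by
  have h1 : B u (lin g x) = 0 := by
    have := lin_isom g u x
    rw [e, hx, map_smul, LinearMap.smul_apply, smul_eq_zero] at this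
    exact this.resolve_left ha
  rw [h.conj_t, h.toMo.ee_conj g hx, e, h.toMo.ee_smul h1]⟩

theorem L_mem (h : Hyp φ t) (g : sIsom B) {a : F} (e : lin g u = a • u) (ha : a ≠ 0) :
    φ g ∈ Ns (AA φ t (Qu B u)) := by
  have h3 := (UM.cj_sub (B := B) (UM.cj_span {u} g)).2.1
  rw [Set.image_singleton, e, span_smul1 u ha] at h3
  rw [mem_Ns_iff, h.cj_AA, h3]

theorem semi (h : Hyp φ t) (u0 : u ≠ 0) (hn : n ∈ Ns ((Qu B u).map φ)) (hc : Commute n t) :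
    ∃ (Γ : M → M) (ρ : F → F), (∀ (a : F) x, Γ (a • x) = ρ a • Γ x) ∧ ∀ x, B u x = 0 →
      B u (Γ x) = 0 ∧ Rl φ t u n x (Γ x) := by
  have m := h.toMo
  obtain ⟨α, Γ, τ, hα, hΓ⟩ := h.semi hc
  obtain ⟨a, ha, e⟩ := m.nQ u0 hΓ fun v hv => h.toMod.mem_map.1 (by
    rw [← mem_Ns_iff.1 hn, hα.cj_map]; exact ⟨v, hv, rfl⟩)
  refine ⟨fun x => a • Γ x, τ, fun b x => by simp only [hΓ.smul, smul_comm a], fun x hx => ?_⟩
  have h1 : B u (Γ x) = 0 := by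
    have := hΓ.form u x
    rw [e, hx, map_zero, map_smul, LinearMap.smul_apply, smul_eq_zero] at this
    exact this.resolve_left ha
  refine ⟨by rw [map_smul, h1, smul_zero], fun c => ⟨a * a * τ c, ?_⟩⟩
  rw [← conj_mul, hc.eq, mul_inv_cancel_right, hα, m.semi_ee hΓ hx, e, m.ee_smul h1]

theorem tri (h : Hyp φ t) (a b : sIsom B) : t * φ a * (t * φ b) = φ (a * b) := by
  rw [mul_assoc, ← mul_assoc (φ a), ← (h.tc a).eq, mul_assoc, ← mul_assoc, h.t2, one_mul, map_mul]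

end P3a

open P3a in
theorem H2.kk (h : H2 φ t) {u : M} (u0 : u ≠ 0) (hR : Ns (AA φ t (Qu B u)) ≤ Ns ((RR B u).map φ))
    {x : M} (hx : B u x = 0) : ∃ n c, KK φ t n u x c := by
  have m := h.toMo
  have hy := h.toHyp
  obtain ⟨z, hz⟩ := m.exists_eq u0 1
  obtain ⟨w, kw⟩ := m.ext2 u0
  have hQ : Ns (AA φ t (Qu B u)) ≤ Ns ((Qu B u).map φ) :=
    h.toH1.NsQ kw (c := 0) (by rw [m.ee_zero]; exact h.ha u w kw)
  have U1 : ∀ p : hypU B u z, B u p = 0 := fun p => (mem_hypU.1 p.2).1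
  have U2 : ∀ p : hypU B u z, B z p = 0 := fun p => (mem_hypU.1 p.2).2
  have pm : ∀ {p}, B u p = 0 → p + B z p • u ∈ hypU B u z := fun hp => mem_hypU.2
    ⟨by simp [hp, m.alt], by simp [m.symm z u, hz, m.add_self]⟩
  have e0 : ee B u 0 0 = 1 := by rw [m.ee_zero', m.tT_zero]
  have uq : ∀ {n p} {a b : hypU B u z}, Rl φ t u n p a → Rl φ t u n p b → a = b :=
    fun {n p a b} k k' => by
      obtain ⟨d, e⟩ := k 0
      obtain ⟨d', e'⟩ := k' 0
      obtain ⟨s, hs⟩ := Submodule.mem_span_singleton.1 ((m.ee_inj u0 (U1 a) (U1 b)).1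
        (h.inj (mul_left_cancel (e.symm.trans e')))).1
      have := congrArg (B z) hs
      rw [map_smul, map_add, U2, U2, m.symm, hz, add_zero, smul_eq_mul, mul_one] at this
      rw [this, zero_smul, ← m.vsub, eq_comm, sub_eq_zero] at hs
      exact Subtype.ext hs
  have ex : ∀ n ∈ Ns (AA φ t (Qu B u)), ∀ p : hypU B u z, ∃ q : hypU B u z, Rl φ t u n p q :=
    fun n hn p => by
      obtain ⟨v, hv, e | e⟩ := hy.mem_AA.1 ((mem_normalizer_iff.1 hn _).1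
        (hy.mem_AA.2 ⟨_, m.ee_mem_Q (U1 p) 0, .inr rfl⟩))
      · obtain ⟨v', -, e'⟩ := (mem_normalizer_iff.1 (hQ hn) _).2 ⟨v, hv, e.symm⟩
        exact absurd e'.symm (hy.t_ne _ _)
      · obtain ⟨q, d, hq, rfl⟩ := (m.mem_Q u0).1 hv
        exact ⟨⟨_, pm hq⟩, (of_one m (hR hn) e).shift m hq _⟩
  choose! f hf using ex
  let S : Subgroup (Equiv.Perm (hypU B u z)) :=
    { carrier := {g | ∃ n ∈ Ns (AA φ t (Qu B u)), ∀ p : hypU B u z, Rl φ t u n p (g p)}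
      mul_mem' := fun ⟨n, hn, k⟩ ⟨n', hn', k'⟩ => ⟨_, mul_mem hn hn', fun p => (k _).mul (k' p)⟩
      one_mem' := ⟨1, one_mem _, fun _ => Rl.one⟩
      inv_mem' := fun {g} ⟨n, hn, k⟩ => ⟨_, inv_mem hn, fun p => by
        simpa using (k (g⁻¹ p)).inv m (hR hn)⟩ }
  have mk : ∀ n ∈ Ns (AA φ t (Qu B u)), ∀ l : hypU B u z → hypU B u z,
      (∀ p : hypU B u z, Rl φ t u n p (l p)) → ∃ g ∈ S, ∀ p, g p = l p := fun n hn l k =>
    ⟨⟨f n, f n⁻¹, fun p => uq (hf _ (inv_mem hn) _) ((hf n hn p).inv m (hR hn)), fun p =>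
      uq (hf n hn _) (by simpa using (hf _ (inv_mem hn) p).inv m (hR (inv_mem hn)))⟩,
      ⟨n, hn, hf n hn⟩, fun p => uq (hf n hn p) (k p)⟩
  have zt : ∀ {n p}, Rl φ t u n ((0 : hypU B u z) : M) p → ∃ c, n * t * n⁻¹ = t * φ (ee B u p c) :=
    fun k => by simpa [e0] using k 0
  have h4 := m.cls.finrank_hypU (m.alt u) hz
  have := m.six
  refine (aff (D := restr B (hypU B u z))
    ⟨m.cls.restrict (m.cls.nondegOn_hypU (m.alt u) (m.alt z) hz), m.σ_eq, fun p => m.alt p, m.two⟩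
    (by omega) S ?_ ?_ ?_ ?_ ?_ ?_ ⟨_, pm hx⟩).elim fun g ⟨⟨n, hn, k⟩, hg⟩ => ?_
  rotate_right
  · obtain ⟨c, e⟩ := zt (k 0)
    rw [hg, zero_add] at e
    refine ⟨n, c, by rwa [m.ee_add_self hx] at e, fun y h1 c' => ?_⟩
    obtain ⟨d, e'⟩ := k ⟨_, pm h1⟩ c'
    rw [hg, m.ee_add_self h1] at e'
    have e2 : n * φ (ee B u y c') * n⁻¹ = n * t * n⁻¹ * (n * (t * φ (ee B u y c')) * n⁻¹) := by
      rw [conj_mul, ← mul_assoc t, hy.t2, one_mul]
    rw [e2, e, e', tri hy, m.ee_mul (U1 _) (U1 _), Submodule.coe_add, add_comm (y + _), ← add_assoc,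
      m.vadd_self, zero_add, m.ee_add_self h1]
    exact ⟨_, rfl⟩
  · rintro g ⟨n, hn, k⟩ p q
    obtain ⟨a, e1⟩ := k p 0
    obtain ⟨b, e2⟩ := k q 0
    obtain ⟨c, e3⟩ := zt (k 0)
    refine uq (k _) (of_one m (hR hn) (c := 0 + 0 + B p q)
      (d := c + (a + b + B (g p) (g q)) + B (g 0) (g p + g q)) ?_)
    rw [Submodule.coe_add, ← m.ee_mul (U1 p) (U1 q), ← tri hy, ← conj_mul, ← conj_mul, e1, e2, e3,
      tri hy, mul_assoc, ← map_mul, m.ee_mul (U1 _) (U1 _), m.ee_mul (U1 _) (by simp [U1]),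
      add_comm (g 0 : M)]
    rfl
  · intro l hl
    obtain ⟨g, h1, -, h2⟩ := m.extU hz l hl
    rw [← one_smul F u] at h1
    nth_rw 1 [one_smul] at h1
    exact mk _ (L_mem hy g h1 one_ne_zero) l fun p => by
      simpa [h2] using Rl.of_L hy g h1 (U1 p) one_ne_zero
  · intro a ha
    obtain ⟨g, h1, -, h2⟩ := m.tor hz ha
    exact mk _ (L_mem hy g h1 ha) _ fun p => by
      simpa [h2 _ (U1 p) (U2 p)] using Rl.of_L hy g h1 (U1 p) ha
  · rintro g ⟨n, hn, k⟩ g0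
    obtain ⟨c, e⟩ := zt (k 0)
    rw [g0, ZeroMemClass.coe_zero, m.ee_zero'] at e
    obtain ⟨d, h1, h2⟩ : ∃ d ∈ Cs ((Qu B u).map φ), d * t * d⁻¹ = t * φ (tT B u c) := by
      by_cases c0 : c = 0
      · exact ⟨1, one_mem _, by simp [c0, m.tT_zero]⟩
      rcases h.cas with hA | hA
      · exact absurd (h.toH1.all_T u0 u0 c0 one_ne_zero (isConj_iff.2 ⟨n, e⟩)) (hA.nb u u0)
      obtain ⟨a, ha, e1⟩ := m.tT_sqrt u c
      have a0 : a ≠ 0 := fun e => c0 (by rw [← ha, e, mul_zero])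
      obtain ⟨d, hd⟩ := hA _ (smul_ne_zero a0 u0)
      exact ⟨d, by simpa only [Qu, span_smul1 u a0] using hd.cq, e1 ▸ hd.tr⟩
    obtain ⟨Γ, ρ, h3, h5⟩ := semi hy u0 (n := d⁻¹ * n)
      (mul_mem (inv_mem (centralizer_le_normalizer _ h1)) (hQ hn))
      (mul_inv_eq_iff_eq_mul.1 (by
        rw [show d⁻¹ * n * t * (d⁻¹ * n)⁻¹ = d⁻¹ * (n * t * n⁻¹) * d by group, e, ← h2]; group))
    have h6 : ∀ p : hypU B u z, g p = ⟨_, pm (h5 p (U1 p)).1⟩ := fun p => by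
      have h7 : Rl φ t u d (Γ p) (Γ p) := fun c' => ⟨_, by
        rw [← conj_mul, h2, ← Gold.mem_Cs.1 h1 _ ⟨_, m.ee_mem_Q (h5 p (U1 p)).1 c', rfl⟩,
          mul_inv_cancel_right, mul_assoc, ← map_mul, ← m.ee_zero', m.ee_mul (map_zero _)
            (h5 p (U1 p)).1, zero_add]⟩
      exact uq (k p) (by simpa using (h7.mul (h5 p (U1 p)).2).shift m (h5 p (U1 p)).1 _)
    exact ⟨ρ, fun a p => by
      rw [h6, h6]
      exact Subtype.ext (by simp [h3, smul_smul])⟩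
  · rintro g ⟨n, hn, k⟩ y h1
    obtain ⟨c, e⟩ := zt (k 0)
    have yu : lin (tT B y 1) u = (1 : F) • u := by simp [m.lin_tT, m.swap (U1 y)]
    obtain ⟨y', h2, h3⟩ := h.toH1.rf u0 (hQ hn) (U1 _) e (U1 y) (m.swap h1)
    refine ⟨⟨_, pm h2⟩, fun p => ?_⟩
    have h5 : Commute (φ (tT B y 1)) (n * t * n⁻¹) := by
      rw [e]
      refine (hy.tc _).symm.mul_right (Commute.map (mul_inv_eq_iff_eq_mul.1 ?_) φ)
      rw [m.ee_conj _ (U1 _), yu, one_smul, m.lin_tT, show B y (g 0) = 0 from h1, mul_zero,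
        zero_smul, add_zero]
    have h6 : Rl φ t u (n⁻¹ * φ (tT B y 1) * n) p (lin (tT B y' 1) p) := fun c' => ⟨c', by
      rw [← conj_mul, h3 _ (m.ee_mem_Q (U1 p) c'), m.ee_conj _ (U1 p), m.lin_tT y' 1 u, m.swap h2,
        mul_zero, zero_smul, add_zero]
      congr 1
      calc _ = n⁻¹ * (φ (tT B y 1) * (n * t * n⁻¹) * (φ (tT B y 1))⁻¹) * n := by group
        _ = _ := by rw [h5.eq]; group⟩
    have h7 := h6.shift m (by simp [m.lin_tT, U1, h2]) (B y' p * B z y')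
    have h8 := (Rl.of_L hy _ yu (U1 (g p)) one_ne_zero).mul (k p)
    refine uq (n := φ (tT B y 1) * n) (p := p) ?_ (by simpa [m.lin_tT, restr_apply] using h8)
    rw [show φ (tT B y 1) * n = n * (n⁻¹ * φ (tT B y 1) * n) by group]
    refine (k _).mul ?_
    simpa [m.lin_tT, restr_apply, U1, smul_smul, add_assoc] using h7
  · obtain ⟨n, hn, e⟩ := h.toH1.trQ u0 (m.tE_mem_Q kw.uw) (h.ha u w kw)
    obtain ⟨g, hg, e1⟩ := mk n hn _ (hf n hn)
    refine ⟨g, hg, fun e2 => kw.not_mem ?_⟩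
    have := uq (e2 ▸ e1 0 ▸ hf n hn 0) (b := ⟨_, pm kw.uw⟩) ((of_one m (hR hn) (x := 0) (c := 0)
      (d := 0) (by rw [e0, map_one, mul_one, e, m.ee_zero])).shift m kw.uw _)
    rw [eq_neg_of_add_eq_zero_left (congrArg Subtype.val this).symm]
    exact neg_mem (Submodule.smul_mem _ _ (Submodule.mem_span_singleton_self u))

end Cfsg.Lib.SP6
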