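import Cfsg.Agent.SP6.K1
import Cfsg.Agent.SP6.K4
import Cfsg.Agent.SP6.KIT
import Cfsg.Agent.SP6.P1a
import Cfsg.Agent.SP6.P3k
import Cfsg.Agent.SP6.P4b
import Cfsg.Agent.SP6.P4c

/-!
# Good short translations
-/

set_option autoImplicit false
set_option linter.unusedSectionVars false

namespace Cfsg.Lib.SP6

open Subgroup Module Cfsg.Lib.Trans Cfsg.Lib.Gold Cfsg.Lib.Class.Form Cfsg.Lib.Class.FAut
open Cfsg.Lib.UM (tT tE VW RR Fx St QW Cf mp Semi fa Mp cx re Ot kk Mx Fr3)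
open Cfsg.Lib.SG2 (Uq Top)
open Cfsg.Lib.Comp (Tw)
open scoped commutatorElement

variable {G F M : Type*} [Group G] [Finite G] [Field F] [Finite F] [AddCommGroup M] [Module F M]
  [FiniteDimensional F M] {B : M →ₗ[F] M →ₗ[F] F} {φ φ' : sIsom B →* G} {t : G}

namespace P4d

theorem tw_mul {a b : G} (ha : Tw a) (hb : Tw b) (h : Commute a b) : Tw (a * b) := by
  obtain ⟨k, hk⟩ := ha
  obtain ⟨l, hl⟩ := hb
  refine ⟨k + l, ?_⟩
  rw [h.mul_pow, pow_add, pow_mul, hk, one_pow, mul_comm (2 ^ k), pow_mul, hl, one_pow, mul_one]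

theorem tw_pow {a : G} (ha : Tw a) (n : ℕ) : Tw (a ^ n) :=
  ha.imp fun _ e => by rw [← pow_mul, mul_comm, pow_mul, e, one_pow]

theorem tw_root {a : G} (ha : Tw (a * a)) : Tw a := by
  obtain ⟨k, hk⟩ := ha
  exact ⟨k + 1, by rw [pow_succ', pow_mul, pow_two, hk]⟩

theorem exists_tw (g : G) : ∃ n, Odd n ∧ Tw (g ^ n) := by
  obtain ⟨k, n, hn, e⟩ := Nat.exists_eq_two_pow_mul_odd (orderOf_pos g).ne'
  exact ⟨n, hn, k, by rw [← pow_mul, mul_comm, ← e, pow_orderOf_eq_one]⟩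

theorem cs {H : Subgroup G} {a b : G} (ha : a ∈ Cs H) (hb : b ∈ H) : Commute a b :=
  (mem_centralizer_iff.1 ha b hb).symm

theorem comm_odd {o y : G} (ho : Odd (orderOf o)) (h : Commute (o * o) y) : Commute o y := by
  obtain ⟨k, hk⟩ := ho
  have := h.pow_left (k + 1)
  rwa [← pow_two, ← pow_mul, show 2 * (k + 1) = 2 * k + 1 + 1 by ring, pow_succ, ← hk,
    pow_orderOf_eq_one, one_mul] at this

theorem E_mem (h : Mo B) {u w : M} (k : B u w = 0) (s : F) :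
    tE B u (s • w) ∈ Fx B (l2 F u w) :=
  h.tE_mem_Fx (by rw [map_smul, k, smul_zero]) (h.mem_orth2.2 ⟨h.alt u, h.swap k⟩)
    (h.mem_orth2.2 ⟨by rw [map_smul, k, smul_zero], by rw [map_smul, h.alt, smul_zero]⟩)

theorem E_sq (h : Mo B) {u w : M} (k : B u w = 0) (s : F) :
    φ (tE B u (s • w)) * φ (tE B u (s • w)) = 1 := by
  rw [← map_mul, h.tE_sq (by rw [map_smul, k, smul_zero]), map_one]

theorem φO (v : sIsom B) : φ v ∈ Cs (Ot φ t) := L_le_Cs_Ot ⟨v, rfl⟩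

variable {κ : F} {a : G} {u w : M}

theorem cE (h : Mo B) (k' : B u w = 0) (k : SH φ t κ a u w) (s : F) :
    Commute a (φ (tE B u (s • w))) := cs k.cF ⟨_, E_mem h k' s, rfl⟩

theorem at_sq (h : H1 φ t) (k' : B u w = 0) (k : SH φ t κ a u w) :
    a * t * (a * t) = a * a * φ (tE B u w) := by
  have c := cE h.toMo k' k 1
  have e := k.ku.1
  rw [one_smul] at c
  rw [h.toMo.ee_zero] at e
  rw [show a * t * (a * t) = a * t * (a * t * a⁻¹) * a by group, e, ← mul_assoc, mul_assoc a t t,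
    h.t2, mul_one, mul_assoc, ← c.eq, mul_assoc]

end P4d

open P4d
variable {κ : F}

theorem SH.cj (h : H1 φ t) {a : G} {u w : M} (k' : B u w = 0) (k : SH φ t κ a u w) (g : sIsom B) :
    SH φ t κ (φ g * a * (φ g)⁻¹) (lin g u) (lin g w) := by
  refine ⟨k.ku.cj h k' g, k.kw.cj h (h.toMo.swap k') g, mem_centralizer_iff.2 ?_,
    mul_mem (mul_mem (φO g) k.cO) (inv_mem (φO g)), k.tw.conj _⟩
  rintro _ ⟨v, hv, rfl⟩
  obtain ⟨h1, h2⟩ := mem_Fx2.1 hv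
  have c := cs k.cF ⟨g⁻¹ * v * g, mem_Fx2.2
    ⟨by rw [lin_mul, lin_mul, h1, lin_inv_lin], by rw [lin_mul, lin_mul, h2, lin_inv_lin]⟩, rfl⟩
  rw [map_mul, map_mul, map_inv] at c
  rw [show φ v * (φ g * a * (φ g)⁻¹) = φ g * ((φ g)⁻¹ * φ v * φ g * a) * (φ g)⁻¹ by group, ← c.eq]
  group

theorem SH.symm {a : G} {u w : M} (k : SH φ t κ a u w) : SH φ t κ a w u :=
  ⟨k.kw, k.ku, by rw [l2, Set.pair_comm]; exact k.cF, k.cO, k.tw⟩

theorem SH.smul (h : H1 φ t) {a : G} {u w : M} (k' : B u w = 0) {s : F} (hs : s ≠ 0)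
    (k : SH φ t κ a (s • u) w) : SH φ t κ a u (s • w) := by
  refine ⟨by simpa using (KS.smul h k' hs).1 k.ku,
    (KS.smul h (h.toMo.swap k') hs).2 (by simpa using k.kw), mem_centralizer_iff.2 ?_, k.cO, k.tw⟩
  rintro _ ⟨v, hv, rfl⟩
  obtain ⟨h1, h2⟩ := mem_Fx2.1 hv
  rw [map_smul] at h2
  exact (cs k.cF ⟨v, mem_Fx2.2 ⟨by rw [map_smul, h1], smul_right_injective M hs h2⟩, rfl⟩).eq.symm

theorem SH.mul_t (h : H3 φ t κ) {a : G} {u w : M} (k' : P2 B u w) (k : SH φ t κ a u w) :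
    SH φ t κ (a * t) u w := by
  have b : ∀ {u w : M}, P2 B u w → KS φ t κ a u w 0 → KS φ t κ (a * t) u w 0 := fun p k => by
    have := k.mul h.toH1 p.uw (map_zero _)
      (KS.base (κ := κ) h.toH1 p.ne (one_mem _) (one_mem _)).2
    simpa using this
  refine ⟨b k' k.ku, b (k'.symm h.toMo) k.kw, mul_mem k.cF (mem_centralizer_iff.2 ?_),
    mul_mem k.cO t_mem_Cs_Ot, tw_root ?_⟩
  · rintro _ ⟨v, -, rfl⟩
    exact (h.tc v).eq.symm
  · have c := cE h.toMo k'.uw k 1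
    have e := E_sq (φ := φ) h.toMo k'.uw 1
    rw [one_smul] at c e
    rw [at_sq h.toH1 k'.uw k]
    exact tw_mul (tw_mul k.tw k.tw rfl) (.of_sq e) (c.mul_left c)

theorem SH.uniq (h : H3 φ t κ) {a b : G} {u w : M} (k' : P2 B u w) (k : SH φ t κ a u w)
    (k₂ : SH φ t κ b u w) :
    ∃ s : F, b = a * φ (tE B u (s • w)) ∨ b = a * t * φ (tE B u (s • w)) := by
  obtain ⟨s, o, ho, e⟩ := h.both_uniq k' k.ku k.kw k₂.ku k₂.kw
  have key : ∀ {a : G}, SH φ t κ a u w → b = a * φ (tE B u (s • w)) * o →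
      b = a * φ (tE B u (s • w)) := fun k e => by
    rw [e, Ot_kill (mul_mem k.cO (φO _)) ho
      (tw_mul k.tw (.of_sq (E_sq h.toMo k'.uw s)) (cE h.toMo k'.uw k s)) (e ▸ k₂.tw), mul_one]
  exact ⟨s, e.imp (key k) (key (k.mul_t h k'))⟩

theorem SH.sq (h : H3 φ t κ) {a : G} {u w : M} (k' : P2 B u w) (k : SH φ t κ a u w) :
    ∃ s : F, a * a = φ (tE B u (s • w)) := by
  have k3 : SH φ t κ (a ^ 3) u w := ⟨k.ku.pow h.toH1 k'.uw (by decide),
    k.kw.pow h.toH1 (h.toMo.swap k'.uw) (by decide), pow_mem k.cF 3, pow_mem k.cO 3, tw_pow k.tw 3⟩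
  obtain ⟨s, e | e⟩ := k.uniq h k' k3
  · exact ⟨s, by rwa [pow_succ', pow_two, mul_right_inj] at e⟩
  · exfalso
    rw [pow_succ', pow_two, mul_assoc, mul_right_inj] at e
    have c : Commute a t := by
      rw [show t = a * a * (φ (tE B u (s • w)))⁻¹ by rw [e]; group]
      exact ((Commute.refl a).mul_right rfl).mul_right (cE h.toMo k'.uw k s).inv_right
    have e1 := k.ku.1
    rw [c.eq, mul_inv_cancel_right, h.toMo.ee_zero, left_eq_mul] at e1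
    exact h.toMo.tE_ne k' (h.inj (e1.trans (map_one φ).symm))

theorem SH.uniq' (h : H3 φ t κ) {a b : G} {u w : M} (k' : P2 B u w) (k : SH φ t κ a u w)
    (k₂ : SH φ t κ b u w) (e : a * a = b * b) : ∃ s : F, b = a * φ (tE B u (s • w)) := by
  obtain ⟨s, e1 | e1⟩ := k.uniq h k' k₂
  · exact ⟨s, e1⟩
  · exfalso
    rw [e1, ← pow_two (a * t * _), (cE h.toMo k'.uw (k.mul_t h k') s).mul_pow, pow_two, pow_two,
      E_sq h.toMo k'.uw, mul_one, at_sq h.toH1 k'.uw k, left_eq_mul] at e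
    exact h.toMo.tE_ne k' (h.inj (e.trans (map_one φ).symm))

theorem H3.h4 (h : H3 φ t κ) : H4 φ t κ := by
  refine ⟨h, fun u w p => ?_⟩
  have wu := h.toMo.swap p.uw
  obtain ⟨n0, a1, a2⟩ := h.both p
  obtain ⟨m, hm, tw⟩ := exists_tw n0
  have k1 := a1.pow h.toH1 p.uw hm
  have k2 := a2.pow h.toH1 wu hm
  generalize n0 ^ m = n at *
  have cF := h.cF p k1 k2
  have nO : n ∈ Ns (Ot φ t) := h.toH1.nO (h.toMo.ti2 p.uw) cF
    (h.toMo.tE_mem p.uw (Submodule.subset_span (by simp)) (Submodule.subset_span (by simp)))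
    (by rw [k1.1, h.toMo.ee_zero])
  have sO : n * n ∈ Cs (Ot φ t) := by
    obtain ⟨s, o, ho, e⟩ := h.both_uniq p k1 k2 (k1.pow h.toH1 p.uw (m := 3) (by decide))
      (k2.pow h.toH1 wu (m := 3) (by decide))
    have key : ∀ y ∈ Cs (Ot φ t), y * y = 1 → n * n = y * o → n * n ∈ Cs (Ot φ t) :=
      fun y hy y2 e => by
        rwa [e, Ot_kill hy ho (.of_sq y2) (e ▸ tw_mul tw tw rfl), mul_one]
    rcases e with e | e
    · rw [pow_succ', pow_two, mul_assoc, mul_right_inj] at e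
      exact key _ (φO _) (E_sq h.toMo p.uw s) e
    · rw [pow_succ', pow_two, mul_assoc, mul_assoc, mul_right_inj, ← mul_assoc] at e
      refine key _ (mul_mem t_mem_Cs_Ot (φO _)) ?_ e
      rw [← pow_two, (h.tc _).mul_pow, pow_two, pow_two, h.t2, E_sq h.toMo p.uw, one_mul]
  refine ⟨n, k1, k2, cF, ?_, tw⟩
  obtain ⟨x, p3⟩ := h.toMo.ext3 p
  obtain ⟨-, px, -, pwx⟩ := p3.p2 h.toMo
  obtain ⟨g1, e1, e1'⟩ := h.toMo.tr2 p px
  obtain ⟨g2, e2, e2'⟩ := h.toMo.tr2 p pwx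
  have b1 := k1.cj h.toH1 p.uw g1
  have b2 := k1.cj h.toH1 p.uw g2
  rw [e1, e1'] at b1
  rw [e2, e2'] at b2
  have b3 := k1.mul h.toH1 p.uw px.uw b1
  rw [p3.wx, mul_zero, add_zero, add_zero] at b3
  have act : ∀ g, ∀ y ∈ Ot φ t, φ g * n * (φ g)⁻¹ * y * (φ g * n * (φ g)⁻¹)⁻¹ = n * y * n⁻¹ :=
    fun g y hy => by
      rw [show φ g * n * (φ g)⁻¹ * y * (φ g * n * (φ g)⁻¹)⁻¹ =
        φ g * (n * ((φ g)⁻¹ * y * φ g) * n⁻¹) * (φ g)⁻¹ by group, mul_assoc _ y,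
        (Ot_comm hy g).eq, inv_mul_cancel_left, ← (Ot_comm (mem_normalizer_conj nO hy) g).eq,
        mul_inv_cancel_right]
  obtain ⟨v, -, o, ho, e⟩ := b3.uniq h.toH1 p.ne pwx.uw b2
  obtain ⟨z, hz, e⟩ : ∃ z ∈ Cs (Ot φ t), φ g2 * n * (φ g2)⁻¹ = n * (φ g1 * n * (φ g1)⁻¹) * z * o := by
    rcases e with e | e
    · exact ⟨_, φO v, e⟩
    · exact ⟨_, mul_mem t_mem_Cs_Ot (φO v), by rw [e, mul_assoc _ t]⟩
  have key : ∀ y ∈ Ot φ t, n * y * n⁻¹ = o * y * o⁻¹ := fun y hy => by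
    have m1 : o * y * o⁻¹ ∈ Ot φ t := mul_mem (mul_mem ho hy) (inv_mem ho)
    rw [← act g2 y hy, e, show ∀ a : G, n * a * z * o * y * (n * a * z * o)⁻¹ =
        n * (a * (z * (o * y * o⁻¹) * z⁻¹) * a⁻¹) * n⁻¹ from fun a => by group, (cs hz m1).eq,
      mul_inv_cancel_right, act g1 _ m1, show n * (n * (o * y * o⁻¹) * n⁻¹) * n⁻¹ =
        n * n * (o * y * o⁻¹) * (n * n)⁻¹ by group, (cs sO m1).eq, mul_inv_cancel_right]
  refine mem_centralizer_iff.2 fun y hy => ?_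
  have c : Commute o y := comm_odd (odd_Ot ho) (mul_inv_eq_iff_eq_mul.1 (by
    rw [show o * o * y * (o * o)⁻¹ = o * (o * y * o⁻¹) * o⁻¹ by group,
      ← key _ (mul_mem (mul_mem ho hy) (inv_mem ho)), ← key y hy,
      show n * (n * y * n⁻¹) * n⁻¹ = n * n * y * (n * n)⁻¹ by group, (cs sO hy).eq,
      mul_inv_cancel_right]))
  have := key y hy
  rw [c.eq, mul_inv_cancel_right] at this
  exact (mul_inv_eq_iff_eq_mul.1 this).symm

end Cfsg.Lib.SP6
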