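import Cfsg.Agent.SP6.LDa
import Cfsg.Agent.SP6.P3k

/-!
# Standard subgroups of type `Sp_{2k}(2ⁿ)`: the short translations are involutions
-/

set_option autoImplicit false
set_option linter.unusedSectionVars false

namespace Cfsg.Lib.SP6

open Subgroup Module Cfsg.Lib.Trans Cfsg.Lib.Gold Cfsg.Lib.Class.Form Cfsg.Lib.Class.FAut
open Cfsg.Lib.UM (tT tE VW RR Fx St QW Cf mp Semi fa Mp cx re Ot kk Mx Fr3)
open Cfsg.Lib.SG2 (Uq Top)
open Cfsg.Lib.Comp (Tw)
open scoped commutatorElement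

variable {G F M : Type*} [Group G] [Finite G] [Field F] [Finite F] [AddCommGroup M] [Module F M]
  [FiniteDimensional F M] {B : M →ₗ[F] M →ₗ[F] F} {φ : sIsom B →* G} {t : G} {κ : F}

namespace Z3

theorem xE (h : H1 φ t) {X : G} {u z : M} (k : P2 B u z) {c : F} (hc : c = 0 ∨ (AL φ t ∧ c = 1))
    (hX : KS φ t κ X u 0 c) (hz : Commute X (φ (tT B z 1))) :
    ∃ p, B u p = 0 ∧ φ (tE B u p) * X ∈ Cs ((Pu B u).map φ) := by
  have H := h.toMo
  have cq := hX.cq h k.ne
  have e := hX.1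
  rcases hc with rfl | ⟨hA, rfl⟩
  · rw [H.ee_zero, H.tE_zero, map_one, mul_one] at e
    obtain ⟨v, hv, o, ho, e'⟩ := h.cQ k.ne (mul_inv_eq_iff_eq_mul.1 e) cq
    obtain ⟨p, c, hp, rfl⟩ := (H.mem_Q k.ne).1 hv
    have a1 : φ (tT B u c) ∈ Cs ((Pu B u).map φ) := mem_Cs.2 (by
      rintro _ ⟨g, hg, rfl⟩
      have := H.tT_conj g u c
      rw [UM.mem_Fx1.1 hg, mul_inv_eq_iff_eq_mul] at this
      rw [← map_mul, this, map_mul])
    have a2 : o ∈ Cs ((Pu B u).map φ) := Cs_anti (map_le_range _ _) (Ot_le ho).2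
    have a3 : t ∈ Cs ((Pu B u).map φ) := Cs_anti (map_le_range _ _) h.toHyp.tC
    have a4 : φ (tE B u p) * φ (ee B u p c) = φ (tT B u c) := by
      rw [← map_mul, ee, ← mul_assoc, H.tE_sq hp, one_mul]
    refine ⟨p, hp, ?_⟩
    rcases e' with rfl | rfl
    · rw [← mul_assoc, a4]
      exact mul_mem a1 a2
    · rw [← mul_assoc, ← mul_assoc, ← (h.tc _).eq, mul_assoc t, a4]
      exact mul_mem (mul_mem a3 a1) a2
  · rw [H.ee_zero'] at e
    obtain ⟨l, m, l0, l1, l2, l3⟩ := (LD.of_cq h hA k.ne cq e).act h k.ne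
    have e1 := l3 z k.uw
    rw [hz.eq, mul_inv_cancel_right] at e1
    have e2 := h.inj e1
    have o : B u ((l z + m) • z) = 0 := by simp [k.uw]
    rw [H.tT_shift k.uw, mul_assoc, left_eq_mul, ← H.ee_zero' u, H.ee_mul o (map_zero _), add_zero,
      map_zero, add_zero, H.ee_eq_one k.ne o] at e2
    have e3 : l z + m = 0 := by
      by_contra n
      exact k.not_mem ((Submodule.smul_mem_iff _ n).1 e2.1)
    have e4 : m = 0 := by simpa [e3] using e2.2
    subst e4
    obtain ⟨p, p1, -, p2⟩ := LD.as_E h (d := X) k.ne l0 l1 (fun y z a b => by simpa using l2 y z a b)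
      fun y a => by simpa [H.tT_zero] using l3 y a
    exact ⟨p, p1, p2⟩

end Z3

theorem H3.sig0 (h : H3 φ t κ) {H : M → M → G} {a c : F}
    (h1 : ∀ u w, P2 B u w → SH φ t κ (H u w) u w)
    (h2 : ∀ g u w, P2 B u w → φ g * H u w * (φ g)⁻¹ = H (lin g u) (lin g w))
    (h3 : ∀ u x y, P3 B u x y → H u (x + y) = H u x * H u y * φ (ee B u (a • x + a • y) c))
    (h4 : ∀ u w, P2 B u w → H u w * H u w = φ (tE B u (a • w))) : a = 0 := by
  have m := h.toMo
  have h' := h.toH1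
  obtain ⟨u, u0⟩ := m.exists_ne
  obtain ⟨w, kw⟩ := m.ext2 u0
  obtain ⟨r, r0, hr⟩ : ∃ r : F, r ≠ 0 ∧ ((1 + κ) * r = 0 ∨ (AL φ t ∧ (1 + κ) * r = 1)) := by
    by_cases c : 1 + κ = 0
    · exact ⟨1, one_ne_zero, .inl (by rw [c, zero_mul])⟩
    · refine ⟨_, inv_ne_zero c, .inr ⟨(h.cas.resolve_left fun k => c ?_), mul_inv_cancel₀ c⟩⟩
      rw [k.1, m.add_self]
  obtain ⟨x, y, x1, x2, y1, y2, xy, x3, y3, s3⟩ := m.hyp2 kw.uw r0
  have kz := kw.smul one_ne_zero r0
  rw [one_smul] at kz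
  have l2e : ∀ {v}, v ∉ l2 F u w → v ∉ l2 F u (r • w) := fun a b => a (Submodule.span_le.2 (by
    rintro _ (rfl | rfl)
    · exact Submodule.subset_span (by simp)
    · exact Submodule.smul_mem _ _ (Submodule.subset_span (by simp))) b)
  have px : P3 B u (r • w) x := P3.iff.2 ⟨kz, x1, by simp [x2], l2e x3⟩
  have py : P3 B u (r • w) y := P3.iff.2 ⟨kz, y1, by simp [y2], l2e y3⟩
  have ps : P3 B u (r • w) (x + y) := P3.iff.2 ⟨kz, by simp [x1, y1], by simp [x2, y2], l2e s3⟩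
  have kx := (px.p2 m).2.1
  have ky := (py.p2 m).2.1
  have ks := (ps.p2 m).2.1
  have yw : B y w = 0 := m.swap y2
  have yx : B y x = r := by rw [m.symm, xy]
  have hX : KS φ t κ (H u x * H u y * H u (x + y)) u 0 ((1 + κ) * r) := by
    have := KS.mul h' ks.uw ks.uw (KS.mul h' x1 y1 (h1 u x kx).ku (h1 u y ky).ku) (h1 u _ ks).ku
    rwa [m.vadd_self, m.alt, xy, mul_zero, add_zero, add_zero, zero_add, zero_add] at this
  have fix : ∀ v, P2 B u v → B w v = 0 → Commute (H u v) (φ (tT B w 1)) := fun v k e => by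
    have := h2 (tT B w 1) u v k
    rw [m.lin_tT, m.lin_tT, e, m.swap kw.uw, mul_zero, zero_smul, add_zero, add_zero,
      mul_inv_eq_iff_eq_mul] at this
    exact this.symm
  have hw := ((fix x kx x2).mul_left (fix y ky y2)).mul_left (fix _ ks (by simp [x2, y2]))
  obtain ⟨p, p1, p2⟩ := Z3.xE h' kw hr hX hw
  have cq := mem_Cs.1 (hX.cq h' u0)
  have wP : tT B w 1 ∈ Pu B u := m.tT_mem_Fx (m.mem_orth1.2 kw.uw) 1
  have wp : B w p = 0 := by
    have c1 : Commute (φ (tT B w 1)) (φ (tE B u p)) := by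
      have := Commute.mul_right (mem_Cs.1 p2 _ (mem_map_of_mem φ wP)) hw.symm.inv_right
      rwa [mul_inv_cancel_right] at this
    rw [h.toMod.comm, ← m.ee_zero, m.comm_ee u0 p1 (UM.mem_Fx1.1 wP), m.lin_tT, add_right_comm,
      m.vadd_self, zero_add, one_mul] at c1
    by_contra n
    exact kw.not_mem ((Submodule.smul_mem_iff _ n).1 c1)
  have gu : lin (tE B y w) u = u := by simp [m.lin_tE yw, m.swap y1, m.swap kw.uw]
  have gx : lin (tE B y w) x = x + r • w := by simp [m.lin_tE yw, yx, x2]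
  have gy : lin (tE B y w) y = y := by simp [m.lin_tE yw, m.alt, y2]
  have gp : lin (tE B y w) p = p + B y p • w := by simp [m.lin_tE yw, wp]
  generalize hz : r • w = z at kz px py ps gx
  have e1 : φ (tE B y w) * (H u x * H u y * H u (x + y)) * (φ (tE B y w))⁻¹ =
      H u (x + z) * H u y * H u (x + y + z) := by
    rw [← conj_mul, ← conj_mul, h2 _ _ _ kx, h2 _ _ _ ky, h2 _ _ _ ks, map_add, gu, gx, gy,
      add_right_comm]
  have cm : ∀ v, P3 B u z v → H u z * H u v = H u v * H u z := fun v k => by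
    have := h3 u z v k
    rw [add_comm z, h3 u v z (k.swap m), add_comm (a • v), mul_left_inj] at this
    exact this.symm
  have mv : ∀ v, P2 B u v → ∀ q, B u q = 0 → ∀ d, ∃ d', φ (ee B u q d) * H u v = H u v * φ (ee B u q d') :=
    fun v k q e d => ⟨d + κ * B v q, by
      have := ((h1 u v k).ku.inv h' k.uw).2 q e d
      rw [← this]; group⟩
  have o1 : B u (a • x + a • z) = 0 := by simp [x1, kz.uw]
  have o2 : B u (a • (x + y) + a • z) = 0 := by simp [x1, y1, kz.uw]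
  have o3 : B u (a • z) = 0 := by simp [kz.uw]
  obtain ⟨d1, f1⟩ := mv y ky _ o1 c
  obtain ⟨d2, f2⟩ := mv _ ks _ o1 d1
  obtain ⟨d3, f3⟩ := mv z kz _ o1 d2
  have e2 : H u (x + z) * H u y * H u (x + y + z) = H u x * H u y * H u (x + y) *
      φ (tE B u (a • z) * ee B u (a • x + a • z) d3 * ee B u (a • (x + y) + a • z) c) := by
    rw [h3 u x z (px.swap m), h3 u _ z (ps.swap m), map_mul, map_mul, ← h4 u z kz]
    calc _ = H u x * H u z * (φ (ee B u (a • x + a • z) c) * H u y) * H u (x + y) * H u z *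
          φ (ee B u (a • (x + y) + a • z) c) := by group
      _ = H u x * (H u z * H u y) * (φ (ee B u (a • x + a • z) d1) * H u (x + y)) * H u z *
          φ (ee B u (a • (x + y) + a • z) c) := by rw [f1]; group
      _ = H u x * H u y * (H u z * H u (x + y)) * (φ (ee B u (a • x + a • z) d2) * H u z) *
          φ (ee B u (a • (x + y) + a • z) c) := by rw [f2, cm y py]; group
      _ = _ := by rw [f3, cm _ ps]; group
  have o4 : B u (p + B y p • w) = 0 := by simp [p1, kw.uw]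
  have e3 : φ (tE B y w) * (H u x * H u y * H u (x + y)) * (φ (tE B y w))⁻¹ =
      H u x * H u y * H u (x + y) * φ (tE B u (p + B y p • w) * tE B u p) := by
    have c1 := mem_Cs.1 p2 _ (mem_map_of_mem φ (UM.mem_Fx1.2 gu))
    have c2 := m.tE_conj (tE B y w) p1
    rw [gu, gp] at c2
    rw [← cq _ (mem_map_of_mem φ (mul_mem (m.tE_mem_Q o4) (m.tE_mem_Q p1))),
      ← inv_eq_of_mul_eq_one_right (m.tE_sq o4), ← c2]
    simp only [map_mul, map_inv]
    generalize H u x * H u y * H u (x + y) = X at c1 ⊢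
    calc _ = φ (tE B y w) * (φ (tE B u p))⁻¹ * (φ (tE B y w))⁻¹ *
        (φ (tE B y w) * (φ (tE B u p) * X)) * (φ (tE B y w))⁻¹ := by group
      _ = _ := by rw [c1]; group
  rw [e1, e2, mul_right_inj] at e3
  have e4 := h.inj e3
  rw [← m.ee_zero, m.ee_mul o3 o1, m.ee_mul (by simp [x1, kz.uw]) o2, m.tE_mul o4 p1,
    m.ee_inj u0 (by simp [x1, y1, kz.uw]) (by simp [p1, kw.uw])] at e4
  obtain ⟨s, hs⟩ := Submodule.mem_span_singleton.1 e4.1
  have e5 := congrArg (B x) hs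
  have xz : B x z = 0 := m.swap px.wx
  simp only [map_add, map_smul, smul_eq_mul, m.swap x1, m.swap x2, xz, m.alt, xy] at e5
  exact (mul_eq_zero.1 (by linear_combination -e5 - B x p * m.two : a * r = 0)).resolve_right r0

end Cfsg.Lib.SP6
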