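import Cfsg.Agent.SP6.K1
import Cfsg.Agent.SP6.K2
import Cfsg.Agent.SP6.K4
import Cfsg.Agent.SP6.KIT
import Cfsg.Agent.SP6.P3k
import Cfsg.Agent.SP6.P4d
import Cfsg.Agent.SP6.Z3

/-! Standard `Sp_{2k}(2ⁿ)`: the additivity defects of the short translations vanish. -/

set_option autoImplicit false
set_option linter.unusedSectionVars false

namespace Cfsg.Lib.SP6

open Subgroup Module Cfsg.Lib.Trans Cfsg.Lib.Gold Cfsg.Lib.Class.Form Cfsg.Lib.Class.FAut
open Cfsg.Lib.UM (tT tE VW RR Fx St QW Cf mp Semi fa Mp cx re Ot kk Mx Fr3)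
open Cfsg.Lib.SG2 (Uq Top)
open Cfsg.Lib.Comp (Tw)
open scoped commutatorElement

variable {G F M : Type*} [Group G] [Finite G] [Field F] [Finite F] [AddCommGroup M] [Module F M]
  [FiniteDimensional F M] {B : M →ₗ[F] M →ₗ[F] F} {φ φ' : sIsom B →* G} {t : G}
variable {κ β : F}

namespace P5b

theorem li {u x y : M} (k : P3 B u x y) {a b : F} (e : a • x + b • y ∈ F ∙ u) : a = 0 ∧ b = 0 := by
  obtain ⟨r, hr⟩ := Submodule.mem_span_singleton.1 e
  have := Fintype.linearIndependent_iff.1 k.li ![-r, a, b] (by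
    simp only [Fin.sum_univ_three, Matrix.cons_val]
    rw [add_assoc, ← hr, neg_smul, neg_add_cancel])
  exact ⟨this 1, this 2⟩

theorem cT (m : Mo B) {n : G} {u w p : M} (s : SH φ t κ n u w) (a : B u p = 0) (b : B w p = 0)
    (c : F) : φ (tT B p c) * n = n * φ (tT B p c) :=
  mem_Cs.1 s.cF _ (mem_map_of_mem φ (m.tT_mem_Fx (m.mem_orth2.2 ⟨a, b⟩) c))

theorem cE (m : Mo B) {n : G} {u w p z : M} (s : SH φ t κ n u w) (a : B u p = 0) (b : B w p = 0)
    (a' : B u z = 0) (b' : B w z = 0) (e : B p z = 0) : φ (tE B p z) * n = n * φ (tE B p z) :=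
  mem_Cs.1 s.cF _ (mem_map_of_mem φ
    (m.tE_mem_Fx e (m.mem_orth2.2 ⟨a, b⟩) (m.mem_orth2.2 ⟨a', b'⟩)))

theorem cQ (m : Mo B) {n : G} {u w z : M} (s : SH φ t κ n u w) (b : B w u = 0)
    (a' : B u z = 0) (b' : B w z = 0) (c : F) : φ (ee B u z c) * n = n * φ (ee B u z c) := by
  rw [ee, map_mul, mul_assoc, cT m s (m.alt u) b, ← mul_assoc, cE m s (m.alt u) b a' b' a',
    mul_assoc]

theorem rule (h : H1 φ t) {n : G} {u x p : M} (hx : B u x = 0) (k : KS φ t κ n u x 0)
    (hp : B u p = 0) : φ (tE B u p) * n * (φ (tE B u p))⁻¹ = n * φ (tT B u (κ * B x p)) ∧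
      lin (tE B u p) u = u ∧ lin (tE B u p) x = x + B x p • u := by
  have m := h.toMo
  have e1 : lin (tE B u p) u = u := by rw [m.lin_tE hp, m.alt, m.swap hp]; simp
  refine ⟨?_, e1, by rw [m.lin_tE hp, hx, m.symm p x]; simp⟩
  have e2 := (k.inv h hx).2 p hp 0
  rw [m.ee_zero, zero_add, ee] at e2
  have e3 := m.tT_conj (tE B u p) u (κ * B x p)
  rw [e1] at e3
  rw [← e3, map_mul, map_inv, ← e2]; group

end P5b

open P5b in
theorem H3.h5 (h : H3 φ t κ) {H : M → M → G} {a b c : F}
    (h1 : ∀ u w, P2 B u w → SH φ t κ (H u w) u w)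
    (h2 : ∀ g u w, P2 B u w → φ g * H u w * (φ g)⁻¹ = H (lin g u) (lin g w))
    (h3 : ∀ u x y, P3 B u x y → H u (x + y) = H u x * H u y * φ (ee B u (a • x + b • y) c)) :
    H5 φ t κ H := by
  have m := h.toMo
  obtain ⟨u, u0⟩ := m.exists_ne
  obtain ⟨x, k1⟩ := m.ext2 u0
  obtain ⟨y, k⟩ := m.ext3 k1
  obtain ⟨-, k2, k3, k4⟩ := k.p2 m
  have ux := k.uw
  have uy := k.ux
  have xy := k.wx
  have xu := m.swap ux
  have yu := m.swap uy
  have yx := m.swap xy
  have al := m.alt
  obtain ⟨s, hs⟩ := (h1 u x k1).sq h k1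
  have sq : ∀ u w, P2 B u w → H u w * H u w = φ (ee B u (s • w) 0) := fun u' w' k' => by
    obtain ⟨g, rfl, rfl⟩ := m.tr2 k1 k'
    rw [← h2 g _ _ k1, conj_mul, hs, m.ee_zero, ← map_smul, ← m.tE_conj g (by simp [ux]), map_mul,
      map_mul, map_inv]
  have one : ∀ {p q r : M}, B u p = 0 → B u q = 0 → B u r = 0 →
      φ (ee B u p 0) * φ (ee B u q c) * φ (ee B u r c) = 1 → p + q + r ∈ F ∙ u := by
    intro p q r a1 a2 a3 e
    rw [← map_mul, ← map_mul, m.ee_mul a1 a2, m.ee_mul (by simp [a1, a2]) a3, ← map_one φ] at e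
    exact ((m.ee_eq_one u0 (by simp [a1, a2, a3])).1 (h.inj e)).1
  have k5 : P3 B u x (x + y) := by simpa [add_comm] using k.add m 0 1
  have k6 : P3 B u (x + y) y := by simpa using ((k.swap m).add m 0 1).swap m
  have ha : a = s := by
    have e := h3 _ _ _ k6
    rw [add_assoc, m.vadd_self, add_zero, h3 _ _ _ k, mul_assoc (H u x * H u y),
      cQ m (h1 u y k2) yu (by simp [ux, uy]) (by simp [yx, al])] at e
    have e1 := one (p := s • y) (q := a • x + b • y) (r := a • (x + y) + b • y) (by simp [uy])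
      (by simp [ux, uy]) (by simp [ux, uy]) (by
        rw [← sq u y k2]
        exact left_eq_mul.1 (e.trans (by group)))
    have e2 := (li k (a := 0) (b := s + a) (by
      convert e1 using 1
      match_scalars
      · linear_combination (-a) * m.two
      · linear_combination (-b) * m.two)).2
    linear_combination e2 + (-s) * m.two
  have hb : b = s := by
    have e := h3 _ _ _ k5
    rw [← add_assoc, m.vadd_self, zero_add, h3 _ _ _ k] at e
    have e1 := one (p := s • x) (q := a • x + b • y) (r := a • x + b • (x + y)) (by simp [ux])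
      (by simp [ux, uy]) (by simp [ux, uy]) (by
        have c1 := cQ m (h1 u y k2) yu (z := s • x) (by simp [ux]) (by simp [yx]) 0
        refine left_eq_mul.1 (e.trans ?_ : H u y = H u y * _)
        rw [← mul_assoc, ← mul_assoc, ← mul_assoc, ← mul_assoc, sq u x k1, c1])
    have e2 := (li k (a := s + b) (b := 0) (by
      convert e1 using 1
      match_scalars
      · linear_combination (-a) * m.two
      · linear_combination (-b) * m.two)).1
    linear_combination e2 + (-s) * m.two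
  subst ha
  subst hb
  have hb : b = 0 := h.sig0 h1 h2 h3 fun u w k => by rw [sq u w k, m.ee_zero]
  subst hb
  simp only [zero_smul, add_zero, m.ee_zero', m.tT_zero, map_one] at h3 sq
  have r1 : ∀ u x (s : F), P2 B u x → H u (x + s • u) = H u x * φ (tT B u (κ * s)) := by
    intro u x s k
    obtain ⟨p, p1, rfl⟩ := m.dual2 k.ne k.not_mem 0 s
    obtain ⟨a1, a2, a3⟩ := rule h.toH1 k.uw (h1 u x k).ku p1
    rw [← a1, h2 _ _ _ k, a2, a3]
  have r2 : ∀ u x (s : F), P2 B u x → H (u + s • x) x = H u x * φ (tT B x (κ * s)) := by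
    intro u x s k
    obtain ⟨p, p1, rfl⟩ := m.dual2 k.ne' (k.symm m).not_mem 0 s
    obtain ⟨a1, a2, a3⟩ := rule h.toH1 (m.swap k.uw) (h1 u x k).kw p1
    rw [← a1, h2 _ _ _ k, a2, a3]
  have sw : ∀ u w, P2 B u w → H w u = H u w * φ (tE B u (κ • w)) := by
    intro u w k
    have a1 := r1 (w + u) u 1 (by simpa using ((k.add m 1).symm m))
    have a2 := r2 w u 1 (k.symm m)
    have a3 := r2 u w 1 k
    simp only [one_smul, mul_one] at a1 a2 a3
    rw [add_comm w, ← add_assoc, m.vadd_self, zero_add, a3, add_comm u, a2, add_comm w,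
      m.tT_vadd k.uw, mul_assoc, ← map_mul, ← mul_assoc (tT B u κ), ← mul_assoc (tT B u κ),
      m.tT_sq, one_mul] at a1
    have kw : B u (κ • w) = 0 := by simp [k.uw]
    have a4 : tT B w κ * tE B u (κ • w) * (tT B w κ)⁻¹ = tE B u (κ • w) := by
      rw [m.tE_conj _ kw, m.lin_tT, m.lin_tT]; simp [m.swap k.uw, al]
    have a5 : H u w = H w u * φ (tE B u (κ • w)) := by
      rw [← a4, map_mul, map_inv, ← mul_assoc, ← a1, mul_inv_cancel_right]
    rw [a5, mul_assoc, ← map_mul, m.tE_sq kw, map_one, mul_one]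
  have ad : ∀ u x y, P3 B u x y → H (u + x) y = H u y * H x y * φ (tT B y c) := by
    intro u x y k
    have k' : P3 B y u x := (k.swap m).swap' m
    obtain ⟨-, b2, b3, -⟩ := k.p2 m
    have yu := m.swap k.ux
    have yx := m.swap k.wx
    have f : ∀ p, B p y = 0 → tE B p (κ • y) = ee B y (κ • p) 0 := fun p e => by
      rw [m.ee_zero, m.tE_comm (by simp [e]), m.tE_smul (m.swap e)]
    rw [sw y _ (k'.p2 m).2.2.2, h3 _ _ _ k', sw u y b2, sw x y b3, mul_assoc (H u y),
      ← mul_assoc (φ _), cE m (h1 x y b3) (m.swap k.uw) yu (by simp [k.wx]) (by simp [al])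
        (by simp [k.ux]), f u k.ux, f x k.wx, ← m.ee_zero, ← m.ee_zero' y c]
    simp only [mul_assoc, ← map_mul]
    congr 3
    rw [m.ee_mul (map_zero _) (by simp [yu, yx]), m.ee_mul (by simp [yx]) (by simp [yu, yx]),
      m.ee_mul (by simp [yu]) (by simp [yu, yx])]
    congr 1
    · match_scalars
      · linear_combination κ * m.two
      · linear_combination κ * m.two
    · simp [k.uw, m.swap k.uw, al]
  have hc : c = 0 := by
    have k7 : P3 B (u + x) x y := by
      simpa using ((((((k.swap' m).swap m).add m 1 0).swap m).swap' m))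
    have e := h3 _ _ _ k7
    have a1 := r1 x y 1 k3
    have a2 := r2 u x 1 k1
    simp only [one_smul, mul_one] at a1 a2
    rw [ad _ _ _ k5, h3 _ _ _ k, add_comm x y, a1, a2, ad _ _ _ k] at e
    have c1 := cT m (h1 x y k3) xu yu c
    have c2 := cT m (h1 x y k3) (al x) yx κ
    have c3 := cT m (h1 u y k2) ux yx κ
    have e1 : φ (tT B u c * tT B x κ * tT B (y + x) c) = φ (tT B x κ * tT B y c * tT B (u + x) c) := by
      refine mul_left_cancel (a := H u x * H u y * H x y) ?_
      simp only [map_mul]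
      calc _ = H u x * H u y * (H x y * φ (tT B u c)) * φ (tT B x κ) * φ (tT B (y + x) c) := by group
        _ = H u x * (φ (tT B x κ) * H u y) * H x y * φ (tT B y c) * φ (tT B (u + x) c) := by
          rw [← c1]; simpa only [mul_assoc] using e
        _ = H u x * H u y * (φ (tT B x κ) * H x y) * φ (tT B y c) * φ (tT B (u + x) c) := by
          rw [c3]; group
        _ = _ := by rw [c2]; group
    obtain ⟨p, p1, p2, p3⟩ := m.dual3 u0 k1.not_mem (P3.iff.1 k).2.2.2 0 0 1
    have e2 := congrArg (fun g => lin g p) (h.inj e1)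
    simp [lin_mul, m.lin_tT, p1, p2, p3, ux, uy, xy, al] at e2
    exact e2.resolve_right k1.ne'
  subst hc
  simp only [m.tT_zero, map_one, mul_one] at h3
  exact ⟨h, h1, h2, sq, h3, sw⟩

end Cfsg.Lib.SP6
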