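import Cfsg.Agent.SP6.K1
import Cfsg.Agent.SP6.K4
import Cfsg.Agent.SP6.KIT
import Cfsg.Agent.SP6.P6a
import Cfsg.Agent.SP6.P6c
import Cfsg.Agent.SP6.P7d

/-!
# Type IV: the long elements
-/

set_option autoImplicit false
set_option linter.unusedSectionVars false

namespace Cfsg.Lib.SP6

open Subgroup Module Cfsg.Lib.Trans Cfsg.Lib.Gold Cfsg.Lib.Class.Form Cfsg.Lib.Class.FAut
open Cfsg.Lib.UM (tT tE VW RR Fx St QW Cf mp Semi fa Mp cx re Ot kk Mx Fr3)
open Cfsg.Lib.SG2 (Uq Top)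
open Cfsg.Lib.Comp (Tw)
open scoped commutatorElement

variable {G F M : Type*} [Group G] [Finite G] [Field F] [Finite F] [AddCommGroup M] [Module F M]
  [FiniteDimensional F M] {B : M →ₗ[F] M →ₗ[F] F} {φ φ' : sIsom B →* G} {t : G}
  {κ β : F} {H : M → M → G}

namespace P8a

theorem six {a1 a2 a3 b1 b2 b3 Z : G} (h12 : ⁅b1, a2⁆ = Z) (h13 : ⁅b1, a3⁆ = Z) (h23 : ⁅b2, a3⁆ = Z)
    (c1 : Commute Z b1) (c2 : Commute Z (a2 * a3 * (b1 * b2 * b3))) (zz : Z * Z = 1) :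
    a1 * b1 * (a2 * b2) * (a3 * b3) = a1 * a2 * a3 * (b1 * b2 * b3) * Z := by
  have k : ∀ {a b : G}, ⁅b, a⁆ = Z → b * a = Z * a * b := fun e => by rw [← e]; group
  calc _ = a1 * (b1 * a2) * (b2 * a3) * b3 := by group
    _ = a1 * Z * a2 * (b1 * Z) * a3 * b2 * b3 := by rw [k h12, k h23]; group
    _ = a1 * Z * a2 * Z * (b1 * a3) * b2 * b3 := by rw [← c1.eq]; group
    _ = a1 * Z * a2 * (Z * Z) * a3 * b1 * b2 * b3 := by rw [k h13]; group
    _ = a1 * (Z * (a2 * a3 * (b1 * b2 * b3))) := by rw [zz]; group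
    _ = _ := by rw [c2.eq]; group

theorem tP (h : Mo B) {u y : M} (e : B u y = 0) (c : F) : tT B y c ∈ Pu B u :=
  h.tT_mem_Fx (h.mem_orth1.2 e) c

theorem cs_map {c : G} {A : Subgroup (sIsom B)} (hc : c ∈ Cs (A.map φ)) {g : sIsom B} (hg : g ∈ A) :
    Commute c (φ g) := (mem_Cs.1 hc _ (mem_map_of_mem φ hg)).symm

theorem T_cs (h : Mo B) (u : M) (c : F) : φ (tT B u c) ∈ Cs ((Pu B u).map φ) := mem_Cs.2 (by
  rintro _ ⟨g, hg, rfl⟩
  rw [← map_mul, ← map_mul, mul_inv_eq_iff_eq_mul.1 (h.tT_conj g u c), UM.mem_Fx1.1 hg])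

theorem T_fix (h : Mo B) {u y : M} (e : B u y = 0) (c : F) : lin (tT B u c) y = y := by
  rw [h.lin_tT, e, mul_zero, zero_smul, add_zero]

theorem T_H (h : TA φ t κ H) {u x y : M} (e : B u x = 0) (e' : B u y = 0) (c : F) :
    Commute (φ (tT B u c)) (H x y) := h.fix (T_fix h.toMo e c) (T_fix h.toMo e' c)

theorem symm (h : TA φ t 0 H) {u w : M} (e : B u w = 0) : H w u = H u w := by
  rw [h.swap u w e, zero_smul, h.toMo.tE_zero, map_one, mul_one]

theorem E_H (h : TA φ t 0 H) {u w y : M} (e : B u w = 0) (e' : B u y = 0) :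
    Commute (φ (tE B u y)) (H u w) := by
  have := h.actQ u w y e e'
  rw [zero_mul, h.toMo.ee_zero] at this
  exact (mul_inv_eq_iff_eq_mul.1 this).symm

theorem xadd (h : TA3 φ t 0 H) (h' : TH φ t H 0 β) {w w1 y y' : M} (e : B w w1 = 0)
    (h1 : B w y = 0) (h2 : B w1 y = 0) (h3 : B w y' = 0) (h4 : B w1 y' = 0) (h5 : B y y' = 1) :
    XX H (w + w1) y y' = XX H w y y' * XX H w1 y y' * (H w w1 * φ (tE B w (β • w1))) := by
  have m := h.toMo
  have h6 : B w (y + y') = 0 := by rw [map_add, h1, h3, add_zero]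
  have h7 : B w1 (y + y') = 0 := by rw [map_add, h2, h4, add_zero]
  have eb : B w (β • w1) = 0 := by rw [map_smul, e, smul_zero]
  have r : ∀ r r', B w r = 0 → B w1 r = 0 → B w r' = 0 → B w1 r' = 0 → B r r' = 1 →
      ⁅H w1 r, H w r'⁆ = H w w1 * φ (tE B w (β • w1)) := fun r r' k1 k2 k3 k4 k5 => by
    have := h'.r120 r w1 w r' ⟨k1, e, m.swap k2⟩ k3 k4
    rwa [k5, one_smul, mul_one, symm h.toTA k2] at this
  have ca : ∀ r, B w r = 0 → Commute (H w w1 * φ (tE B w (β • w1))) (H w r) := fun r k =>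
    (h.comw w w1 r).mul_left (E_H h.toTA k eb)
  have cb : ∀ r, B w1 r = 0 → Commute (H w w1 * φ (tE B w (β • w1))) (H w1 r) := fun r k => by
    rw [← m.tE_smul e, m.tE_comm (by rw [map_smul, LinearMap.smul_apply, e, smul_zero]),
      ← symm h.toTA e]
    exact (h.comw w1 w r).mul_left (E_H h.toTA k (by rw [map_smul, m.swap e, smul_zero]))
  simp only [XX]
  rw [h.add1 w w1 y ⟨e, h1, h2⟩, h.add1 w w1 y' ⟨e, h3, h4⟩, h.add1 w w1 _ ⟨e, h6, h7⟩]
  refine six (r y y' h1 h2 h3 h4 h5) (r y _ h1 h2 h6 h7 (by rw [map_add, m.alt, h5, zero_add]))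
    (r y' _ h3 h4 h6 h7 (by rw [map_add, m.alt, m.symm, h5, add_zero])) (cb y h2)
    (((ca y' h3).mul_right (ca _ h6)).mul_right
      (((cb y h2).mul_right (cb y' h4)).mul_right (cb _ h7))) ?_
  rw [(E_H h.toTA e eb).symm.symm.mul_mul_mul_comm, h.sq, ← map_mul, m.tE_sq eb, map_one, mul_one]

end P8a

open P8a

theorem TA3.td4 (h : TA3 φ t 0 H) (h' : TH φ t H 0 β) : ∃ D, TD0 φ t H D 0 β := by
  have m := h.toMo
  have ex : ∀ w, ∃ y y', B w y = 0 ∧ B w y' = 0 ∧ B y y' = 1 := fun w => by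
    obtain ⟨y, z, h1, -, h2, -, h3, -⟩ := m.hyp2 (m.alt w) (one_ne_zero (α := F))
    exact ⟨y, z, h1, h2, h3⟩
  choose y y' h1 h2 h3 using ex
  obtain ⟨X, hX⟩ : ∃ X : M → G, ∀ w, X w = XX H w (y w) (y' w) := ⟨_, fun _ => rfl⟩
  have xd : ∀ {w z z'}, B w z = 0 → B w z' = 0 → B z z' = 1 → X w = XX H w z z' :=
    fun {w z z'} k1 k2 k3 => (hX w).trans (h.xdep k1 k2 (h1 w) (h2 w) ((h3 w).trans k3.symm))
  have xc : ∀ w, X w ∈ Cs ((Pu B w).map φ) := fun w => hX w ▸ h.xc w _ _ (h1 w) (h2 w)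
  have x0 : X 0 = 1 := by simp only [hX, XX, h.toTA.zero', mul_one]
  have dt : ∀ u, X u * φ (tT B u β) * t * (X u * φ (tT B u β))⁻¹ = t * φ (tT B u 1) := fun u => by
    have := h.xt (h1 u) (h2 u)
    rw [h3, add_zero, mul_one, ← hX] at this
    rw [← this, mul_assoc (X u), ← (h.tc _).eq]; group
  have dO : ∀ u, X u * φ (tT B u β) ∈ Cs (Ot φ t) := fun u =>
    mul_mem (hX u ▸ mul_mem (mul_mem (h.cO _ _) (h.cO _ _)) (h.cO _ _)) (L_le_Cs_Ot ⟨_, rfl⟩)
  have d0 : X 0 * φ (tT B 0 β) = 1 := by rw [x0, m.tT_zero', map_one, mul_one]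
  refine ⟨fun w => X w * φ (tT B w β), h', dt, d0, fun g u => ?_, dO, fun u => ?_,
    fun w w1 e => ?_, fun u a b k => ?_, fun w z z' s k1 k2 k3 => ?_⟩
  · rw [← conj_mul, ← map_inv, ← map_mul, ← map_mul, m.tT_conj, map_inv,
      xd (w := lin g u) (z := lin g (y u)) (z' := lin g (y' u)) (by rw [lin_isom, h1])
        (by rw [lin_isom, h2]) (by rw [lin_isom, h3]), hX]
    simp only [XX, ← conj_mul, h.eqv, map_add]
  · rw [(cs_map (xc u) (tP m (m.alt u) β)).symm.mul_mul_mul_comm, hX, h.xsq, ← map_mul, m.tT_sq,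
      m.tT_zero, one_mul]
  · obtain ⟨z, z', k1, k2, k3, k4, k5, -⟩ := m.hyp2 e (one_ne_zero (α := F))
    have eb : B w (β • w1) = 0 := by rw [map_smul, e, smul_zero]
    have cE : Commute (tE B w (β • w1)) (tT B w β * tT B w1 β) := by
      refine Commute.mul_right ?_ ?_ <;> refine mul_inv_eq_iff_eq_mul.1 ((m.tT_conj _ _ _).trans ?_) <;>
        simp [m.lin_tE eb, m.alt, e, m.swap e]
    rw [xd (w := w + w1) (z := z) (z' := z') (by simp [k1, k2]) (by simp [k3, k4]) k5,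
      xadd h h' e k1 k2 k3 k4 k5, ← xd k1 k3 k5, ← xd k2 k4 k5, m.tT_vadd e, symm h.toTA e,
      ← cE.eq, mul_assoc, mul_assoc, mul_assoc, ← map_mul, ← mul_assoc (tE B w _), m.tE_sq eb, one_mul, map_mul,
      ← ((T_H h.toTA (m.alt w) e β).mul_left (T_H h.toTA (m.swap e) (m.alt w1) β)).eq,
      mul_assoc (X w) (φ _), ← mul_assoc (φ _), ← (cs_map (xc w1) (tP m (m.swap e) β)).eq]
    simp only [mul_assoc]
  · by_cases u0 : u = 0
    · rw [u0, d0]; exact Commute.one_left _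
    refine GD.dH h'.toTH0 u0 ⟨mul_mem (xc u) (T_cs m u β), dt u, fun x => Commute.mul_left
      (hX u ▸ h.xH u _ _ x (h1 u) (h2 u)) ?_⟩ (dO u) k
    by_cases e : B u x = 0
    · exact T_H h.toTA (m.alt u) e β
    · rw [h.junk u x e]; exact Commute.one_right _
  · rw [add_zero, one_mul] at k3
    have e1 : XX H w z z' = X (s • w) := by
      by_cases s0 : s = 0
      · rw [s0, zero_smul, x0, XX, ← h.add2 w z z' ⟨k1, k2, by rw [← k3, s0, zero_mul]⟩, h.sq]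
      rw [xd (w := s • w) (z := s⁻¹ • z) (z' := s⁻¹ • z') (by simp [k1]) (by simp [k2]) (by
        simp only [map_smul, LinearMap.smul_apply, smul_eq_mul, ← k3]; field_simp)]
      simp only [XX, h.smul, ← smul_add, smul_inv_smul₀ s0]
    rw [mul_assoc, mul_assoc, ← map_mul, m.tT_smul, ← m.tT_add, k3, mul_comm β, m.add_self, m.tT_zero,
      map_one, mul_one, ← e1, ← (h.xH w z z' _ k1 k2).eq, XX, mul_assoc, h.sq, mul_one]

end Cfsg.Lib.SP6
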