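import Cfsg.Agent.SP6.GEN
import Cfsg.Agent.SP6.II
import Cfsg.Agent.SP6.J1
import Cfsg.Agent.SP6.K1
import Cfsg.Agent.SP6.K2
import Cfsg.Agent.SP6.K4
import Cfsg.Agent.SP6.KIT
import Cfsg.Agent.SP6.LDa
import Cfsg.Agent.SP6.P1c
import Cfsg.Agent.SP6.P3a
import Cfsg.Agent.SP6.P3b
import Cfsg.Agent.SP6.P3c
import Cfsg.Agent.SP6.P3k
import Cfsg.Agent.SP6.P4a
import Cfsg.Agent.SP6.P4d
import Cfsg.Agent.SP6.P5c
import Cfsg.Agent.SP6.P6a
import Cfsg.Agent.SP6.P6c
import Cfsg.Agent.SP6.P7d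
import Cfsg.Agent.SP6.P8a

/-!
# Standard subgroups of type `Sp_{2k}(2ⁿ)`: additivity of the family of short translations
-/

set_option autoImplicit false
set_option linter.unusedSectionVars false

namespace Cfsg.Lib.SP6

open Subgroup Module Cfsg.Lib.Trans Cfsg.Lib.Gold Cfsg.Lib.Class.Form Cfsg.Lib.Class.FAut
open Cfsg.Lib.UM (tT tE VW RR Fx St QW Cf mp Semi fa Mp cx re Ot kk Mx Fr3)
open Cfsg.Lib.SG2 (Uq Top)
open Cfsg.Lib.Comp (Tw)
open scoped commutatorElement

variable {G F M : Type*} [Group G] [Finite G] [Field F] [Finite F] [AddCommGroup M] [Module F M]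
  [FiniteDimensional F M] {B : M →ₗ[F] M →ₗ[F] F} {φ φ' : sIsom B →* G} {t : G}
  {κ β : F} {H : M → M → G}

namespace P5d

theorem fix (h : H6 φ t κ H) {g : sIsom B} {u w : M} (e : lin g u = u) (e' : lin g w = w) :
    φ g * H u w = H u w * φ g := by
  have := h.eqv' g u w
  rw [e, e'] at this
  exact mul_inv_eq_iff_eq_mul.1 this

theorem addA (h : H6 φ t κ H) {u w x : M} (u0 : u ≠ 0) (k : O3 B u w x) (hx : x ∉ l2 F u w) :
    H u (w + x) = H u w * H u x := by
  have m := h.toMo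
  rcases h.cases k.uw with e | e | ⟨a, rfl⟩
  · exact h.add _ _ _ (P3.iff.2 ⟨e, k.ux, k.wx, hx⟩)
  · exact (u0 e).elim
  · rw [add_comm, h.shift k.ux, h.self]
    exact (fix h (by simp [m.lin_tT, m.alt]) (by simp [m.lin_tT, k.ux])).symm

theorem add2 (h : H6 φ t κ H) {u w x : M} (k : O3 B u w x) : H u (w + x) = H u w * H u x := by
  have m := h.toMo
  by_cases u0 : u = 0
  · simp only [u0, h.zero', mul_one]
  by_cases hx : x ∈ l2 F u w
  swap
  · exact addA h u0 k hx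
  obtain ⟨y, h1, h2, hy⟩ := m.out2 k.uw
  have hu : u ∈ l2 F u w := Submodule.subset_span (by simp)
  have hw : w ∈ l2 F u w := Submodule.subset_span (by simp)
  have le : ∀ z ∈ l2 F u w, y ∉ l2 F u z := fun z hz e => hy (Submodule.span_le.2 (by
    rintro p (rfl | rfl)
    exacts [hu, hz]) e)
  have h3 : B x y = 0 := by
    obtain ⟨a, b, rfl⟩ := Submodule.mem_span_pair.1 hx
    simp [h1, h2]
  have e1 := addA h u0 ⟨k.ux, h1, h3⟩ (le x hx)
  have e2 := addA h u0 (w := w) (x := x + y) ⟨k.uw, by simp [k.ux, h1], by simp [k.wx, h2]⟩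
    fun e => hy ((Submodule.add_mem_iff_right _ hx).1 e)
  have e3 := addA h u0 (w := w + x) (x := y) ⟨by simp [k.uw, k.ux], h1, by simp [h2, h3]⟩
    (le _ (add_mem hw hx))
  rw [e1, ← add_assoc, e3, ← mul_assoc] at e2
  exact mul_right_cancel e2

theorem add1 (h : H6 φ t κ H) {u x w : M} (k : O3 B u x w) : H (u + x) w = H u w * H x w := by
  have m := h.toMo
  have h1 := m.swap k.ux
  have h2 := m.swap k.wx
  have h3 : B w (κ • u) = 0 := by simp [h1]
  have c : φ (tE B w (κ • u)) * H w x = H w x * φ (tE B w (κ • u)) :=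
    fix h (by simp [m.lin_tE h3, m.alt, k.ux]) (by simp [m.lin_tE h3, h2, k.uw])
  rw [h.swap' (u := w) (by simp [h1, h2]), h.swap' h1, h.swap' h2, add2 h ⟨h1, h2, k.uw⟩, smul_add,
    m.tE_add ⟨by simp [h1], by simp [h2], by simp [k.uw]⟩, map_mul]
  simp only [mul_assoc]
  rw [← mul_assoc (H w x), ← c, mul_assoc]

theorem rr (h : H6 φ t κ H) {a : F} (ha : a ≠ 0) : ∃ r : F, ∀ u w, P2 B u w →
    H (a • u) w = H u (a • w) * φ (tE B u (r • w)) := by
  have m := h.toMo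
  obtain ⟨u, u0⟩ := m.exists_ne
  obtain ⟨w, k⟩ := m.ext2 u0
  have k1 : P2 B (a • u) w := by simpa using k.smul ha one_ne_zero
  have k2 : P2 B u (a • w) := by simpa using k.smul one_ne_zero ha
  obtain ⟨s, e⟩ := SH.uniq' h.toH3 k2 (h.sh _ _ k2) ((h.sh _ _ k1).smul h.toH1 k.uw ha)
    (by rw [h.sq', h.sq'])
  refine ⟨s * a, fun u' w' k' => ?_⟩
  obtain ⟨g, rfl, rfl⟩ := m.tr2 k k'
  rw [← map_smul, ← map_smul, ← map_smul, ← h.eqv', ← h.eqv', e, mul_smul,
    ← m.tE_conj g (by simp [k.uw]), map_mul, map_mul, map_inv]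
  group

theorem smul (h : H6 φ t κ H) (a : F) (u w : M) : H (a • u) w = H u (a • w) := by
  have m := h.toMo
  by_cases ha : a = 0
  · have := h.self 0 u
    rw [mul_zero, m.tT_zero, map_one, zero_smul] at this
    rw [ha, zero_smul, zero_smul, h.zero', this]
  by_cases k : B u w = 0
  swap
  · rw [h.junk _ _ (by simpa using ⟨ha, k⟩), h.junk _ _ (by simpa using ⟨ha, k⟩)]
  rcases h.cases k with e | rfl | ⟨b, rfl⟩
  · obtain ⟨b, rfl⟩ := m.exists_sq a
    have hb : b ≠ 0 := fun e => ha (by simp [e])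
    obtain ⟨r, hr⟩ := rr h hb
    rw [mul_smul, hr _ _ (by simpa using e.smul hb one_ne_zero),
      hr _ _ (by simpa using e.smul one_ne_zero hb), m.tE_smul (by simp [k]), smul_comm b r w,
      mul_assoc, ← map_mul, m.tE_sq (by simp [k]), map_one, mul_one, mul_smul]
  · rw [smul_zero, h.zero', h.zero']
  · have e : b • u = (b * a⁻¹) • a • u := by rw [smul_smul, inv_mul_cancel_right₀ ha]
    rw [smul_smul, h.self, e, h.self, m.tT_smul]
    congr 2
    field_simp

end P5d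

theorem H6.ta (h : H6 φ t κ H) : TA φ t κ H where
  toH3 := h.toH3
  junk := h.junk
  ht := fun _ _ => h.ht
  sq := h.sq'
  eqv := h.eqv'
  cO := h.cO
  add1 := fun _ _ _ => P5d.add1 h
  add2 := fun _ _ _ => P5d.add2 h
  smul := P5d.smul h
  swap := fun _ _ => h.swap'
  self := h.self
  actQ := fun _ _ _ => h.actQ

end Cfsg.Lib.SP6
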