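import Cfsg.Agent.SP6.K1
import Cfsg.Agent.SP6.K2
import Cfsg.Agent.SP6.K4
import Cfsg.Agent.SP6.KIT
import Cfsg.Agent.SP6.LDa
import Cfsg.Agent.SP6.P1a
import Cfsg.Agent.SP6.P6a
import Cfsg.Agent.SP6.P8b

/-! # Type III: good long translations -/

set_option autoImplicit false
set_option linter.unusedSectionVars false

namespace Cfsg.Lib.SP6

open Subgroup Module Cfsg.Lib.Trans Cfsg.Lib.Gold Cfsg.Lib.Class.Form Cfsg.Lib.Class.FAut
open Cfsg.Lib.UM (tT tE VW RR Fx St QW Cf mp Semi fa Mp cx re Ot kk Mx Fr3)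
open Cfsg.Lib.SG2 (Uq Top)
open Cfsg.Lib.Comp (Tw)
open scoped commutatorElement

variable {G F M : Type*} [Group G] [Finite G] [Field F] [Finite F] [AddCommGroup M] [Module F M]
  [FiniteDimensional F M] {B : M →ₗ[F] M →ₗ[F] F} {φ φ' : sIsom B →* G} {t : G}

variable {H : M → M → G}

namespace P8c

theorem fin {κ : F} (h : TA φ t κ H) {d : G} {u : M} (u0 : u ≠ 0) (cp : d ∈ Cs ((Pu B u).map φ))
    (tr : d * t * d⁻¹ = t * φ (tT B u 1)) (k : ∀ x, P2 B u x → d * H u x * d⁻¹ = H u x) :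
    GD φ t H d u := by
  refine ⟨cp, tr, fun x => ?_⟩
  by_cases hx : B u x = 0
  · by_cases q : x ∈ F ∙ u
    · obtain ⟨a, rfl⟩ := Submodule.mem_span_singleton.1 q
      rw [h.self]
      exact (cp _ (mem_map_of_mem φ (UM.QW_le_Fx (h.toMo.tT_mem_Q u _)))).symm
    · exact mul_inv_eq_iff_eq_mul.1 (k x (P2.iff.2 ⟨hx, u0, q⟩))
  · rw [h.junk u x hx]; exact Commute.one_right d

theorem r1 (h : TA3 φ t 1 H) {b : F} (hb : MU φ H b) {d : G} {u : M} (k : LD φ t d u) {a : F}
    {c : M → F} (z : ∀ x, P2 B u x → d * H u x * d⁻¹ = H u x * φ (ee B u (a • x) (c x))) {x y : M}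
    (h1 : P2 B u x) (h2 : P2 B u y) (h3 : P2 B u (x + y)) :
    c (x + y) = c x + c y + (a + a * a) * B x y := by
  have m := h.toMo
  have s : ∀ {x : M}, B u x = 0 → B u (a • x) = 0 := fun e => by rw [map_smul, e, smul_zero]
  have z0 : B u 0 = 0 := map_zero _
  have e1 := hb u x y h1.uw h2.uw
  have e2 : d * φ (tT B u (b * B x y)) * d⁻¹ = φ (tT B u (b * B x y)) :=
    mul_inv_eq_iff_eq_mul.2 (k.cq _ (mem_map_of_mem φ (m.tT_mem_Q u _))).symm
  have e3 := (h.toTA.ksH h2.uw).2 _ (s h1.uw) (c x)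
  have e4 : H u (x + y) * φ (ee B u (a • (x + y)) (c (x + y)) * tT B u (b * B x y)) =
      H u (x + y) * φ (tT B u (b * B x y) * ee B u (a • x) (c x + 1 * B y (a • x)) *
        ee B u (a • y) (c y)) := by
    calc _ = d * (H u x * H u y) * d⁻¹ := by rw [e1, ← conj_mul, z _ h3, e2, map_mul, mul_assoc]
      _ = H u x * H u y * (H u y * φ (ee B u (a • x) (c x)) * (H u y)⁻¹) *
            φ (ee B u (a • y) (c y)) := by
          rw [← conj_mul, z _ h1, z _ h2, h.toTA.inv, mul_assoc (H u x) (H u y), ← mul_assoc (H u y),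
            ← mul_assoc (H u y), h.sq, one_mul]
          simp only [mul_assoc]
      _ = _ := by rw [e3, e1, map_mul, map_mul]; simp only [mul_assoc]
  have e5 := h.inj (mul_left_cancel e4)
  rw [← m.ee_zero' u, m.ee_mul (s h3.uw) z0, m.ee_mul z0 (s h1.uw),
    m.ee_mul (by rw [zero_add]; exact s h1.uw) (s h2.uw),
    m.ee_inj h1.ne (by rw [add_zero]; exact s h3.uw)
      (by rw [zero_add, map_add, s h1.uw, s h2.uw, add_zero])] at e5
  have e6 := e5.2
  simp only [map_zero, map_smul, LinearMap.zero_apply, zero_add, LinearMap.smul_apply, smul_eq_mul,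
    m.symm y x] at e6
  linear_combination e6

theorem r2 (h : TA3 φ t 1 H) {d : G} {u : M} {a : F}
    {c : M → F} (z : ∀ x, P2 B u x → d * H u x * d⁻¹ = H u x * φ (ee B u (a • x) (c x))) {x y : M}
    (h1 : P2 B u x) (h2 : B u y = 0) (h3 : P2 B u (x + y)) (h4 : B y x = 1) {l n : F}
    (h5 : d * φ (tT B y 1) * d⁻¹ = φ (tT B (y + l • u) 1 * tT B u n)) : c (x + y) = c x + l := by
  have m := h.toMo
  have s : ∀ {x : M}, B u x = 0 → B u (a • x) = 0 := fun e => by rw [map_smul, e, smul_zero]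
  have z0 : B u 0 = 0 := map_zero _
  have e1 := h.eqv (tT B y 1) u x
  rw [m.lin_tT, m.lin_tT, m.swap h2, h4, mul_zero, zero_smul, add_zero, mul_one, one_smul] at e1
  have g1 : lin (tT B (y + l • u) 1 * tT B u n) u = u := by
    simp [lin_mul, m.lin_tT, m.alt, m.swap h2]
  have g2 : lin (tT B (y + l • u) 1 * tT B u n) x = x + y + l • u := by
    simp [lin_mul, m.lin_tT, h1.uw, h4, add_assoc]
  generalize tT B (y + l • u) 1 * tT B u n = g at h5 g1 g2
  have e2 := h.eqv g u x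
  have e3 := m.ee_conj g (s h1.uw) (c x)
  rw [map_smul, g1, g2, smul_add, smul_smul, m.ee_add_self (s h3.uw)] at e3
  rw [g1, g2, h.toTA.shift h3.uw] at e2
  have e4 : H u (x + y) * φ (ee B u (a • (x + y)) (c (x + y))) =
      H u (x + y) * φ (tT B u (1 * l) * ee B u (a • (x + y)) (c x)) := by
    rw [← z _ h3, map_mul, ← mul_assoc, ← e2, ← e3, map_mul, map_mul, map_inv, conj_mul, ← z _ h1,
      ← h5, ← e1]
    group
  have e5 := h.inj (mul_left_cancel e4)
  rw [← m.ee_zero' u, m.ee_mul z0 (s h3.uw),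
    m.ee_inj h1.ne (s h3.uw) (by rw [zero_add]; exact s h3.uw)] at e5
  have e6 := e5.2
  simp only [map_zero, LinearMap.zero_apply] at e6
  linear_combination e6

end P8c

theorem TA3.gd (h : TA3 φ t 1 H) {b : F} (hb : MU φ H b) {d : G} {u : M} (u0 : u ≠ 0)
    (k : LD φ t d u) : ∃ d', GD φ t H d' u := by
  have m := h.toMo
  have two := m.two
  obtain ⟨a, c, z⟩ := h.zeta u0 k
  obtain ⟨l, n, l0, l1, l2, l3⟩ := k.act h.toH1 u0
  have np : ∀ {x y : M}, B u x = 0 → B u y = 0 → B x y ≠ 0 → P2 B u x := fun {x y} h1 h2 h3 =>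
    P2.iff.2 ⟨h1, u0, fun q => h3 (by
      obtain ⟨s, rfl⟩ := Submodule.mem_span_singleton.1 q
      rw [map_smul, LinearMap.smul_apply, h2, smul_zero])⟩
  have c1 : ∀ y, P2 B u y → c y = l y + n + (a + a * a) := fun y hy => by
    obtain ⟨x, x1, x2⟩ := m.dual2 u0 hy.not_mem 0 1
    have x3 : B x y = 1 := (m.symm x y).trans x2
    have p1 := np x1 hy.uw (by rw [x3]; exact one_ne_zero)
    have p2 : P2 B u (x + y) := np (by rw [map_add, x1, hy.uw, add_zero]) hy.uw (by
      rw [map_add, LinearMap.add_apply, x3, m.alt, add_zero]; exact one_ne_zero)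
    have e1 := P8c.r1 h hb k z p1 hy p2
    have e2 := P8c.r2 h z p1 hy.uw p2 x2 (l3 y hy.uw)
    rw [x3] at e1
    linear_combination e2 - e1 - (a + a * a) * two
  have nA : n = a + a * a := by
    obtain ⟨x, p⟩ := m.ext2 u0
    obtain ⟨y, q⟩ := m.ext3 p
    obtain ⟨-, q1, -, q2⟩ := q.p2 m
    have e1 := P8c.r1 h hb k z p q1 q2
    have e2 := l2 x y p.uw q1.uw
    rw [q.wx] at e1 e2
    have e3 : l (x + y) = l x + l y := m.sq_inj (by linear_combination e2 - l x * l y * two)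
    rw [c1 _ p, c1 _ q1, c1 _ q2, e3] at e1
    linear_combination -e1 - (a + a * a) * two
  have c2 : ∀ y, P2 B u y → c y = l y := fun y hy => by
    rw [c1 y hy, ← nA, add_assoc, m.add_self, add_zero]
  have n0 : n = 0 := by
    rcases m.q_cases with ⟨s, s0, s1⟩ | ⟨-, q⟩
    · obtain ⟨y, x, y1, -, x1, -, e, y2, x2, x3⟩ := m.hyp2 (m.alt u) s0
      have le : ∀ {w : M}, B u w = 0 → w ∉ SP6.l2 F u u → P2 B u w := fun h1 h2 =>
        P2.iff.2 ⟨h1, u0, fun q => h2 (Submodule.span_mono (by simp) q)⟩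
      have p3 := le (by rw [map_add, y1, x1, add_zero]) x3
      have e1 := P8c.r1 h hb k z (le y1 y2) (le x1 x2) p3
      have e2 := l2 y x y1 x1
      rw [c2 _ p3, c2 _ (le y1 y2), c2 _ (le x1 x2), ← nA, e] at e1
      rw [e1, e] at e2
      have : n * n * (s * (s - 1)) = 0 := by
        linear_combination e2 - (l y * l x + l y * n * s + l x * n * s) * two
      exact mul_self_eq_zero.1 ((mul_eq_zero.1 this).resolve_right
        (mul_ne_zero s0 (sub_ne_zero.2 s1)))
    · rcases q a with e | e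
      · rw [nA, e, mul_zero, add_zero]
      · rw [nA, e, mul_one, m.add_self]
  obtain ⟨p, p1, p2, p3⟩ := LD.as_E h.toH1 (d := d) u0 l0 l1
    (fun y w h1 h2 => by rw [l2 y w h1 h2, n0, mul_zero, zero_mul, add_zero])
    fun y h1 => by rw [l3 y h1, n0, mul_zero, add_zero, m.tT_zero, mul_one]
  have tr : φ (tE B u p) * d * t * (φ (tE B u p) * d)⁻¹ = t * φ (tT B u 1) := by
    have := h.toHyp.conj_t (tE B u p) (tT B u 1)
    rw [(m.comm_Q u0 (m.tE_mem_Q p1) (m.tT_mem_Q u 1)).eq, mul_inv_cancel_right] at this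
    rw [← this, ← k.tr]; group
  have ac : ∀ x, P2 B u x → φ (tE B u p) * d * H u x * (φ (tE B u p) * d)⁻¹ =
      H u x * φ (tE B u (a • x)) := fun x hx => by
    have s : B u (a • x) = 0 := by rw [map_smul, hx.uw, smul_zero]
    have e1 := h.eqv (tE B u p) u x
    rw [m.lin_tE p1, m.lin_tE p1, m.alt, m.swap p1, hx.uw, p2 x hx.uw, zero_smul, zero_smul,
      add_zero, add_zero, add_zero, h.toTA.shift hx.uw, one_mul] at e1
    have e2 : tT B u (l x) * (tE B u p * ee B u (a • x) (l x) * (tE B u p)⁻¹) = tE B u (a • x) := by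
      rw [(m.comm_Q u0 (m.tE_mem_Q p1) (m.ee_mem_Q s _)).eq, mul_inv_cancel_right, ← m.ee_zero' u,
        m.ee_mul (map_zero _) s, zero_add, m.add_self, map_zero, LinearMap.zero_apply, add_zero,
        m.ee_zero]
    rw [← e2, map_mul, ← mul_assoc, ← e1, map_mul, map_mul, map_inv, conj_mul, ← c2 x hx, ← z x hx]
    group
  generalize φ (tE B u p) * d = g at p3 tr ac
  have : a * (a + 1) = 0 := by linear_combination n0 - nA
  rcases mul_eq_zero.1 this with e | e
  · exact ⟨g, P8c.fin h.toTA u0 p3 tr fun x hx => by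
      rw [ac x hx, e, zero_smul, m.tE_zero, map_one, mul_one]⟩
  · have a1 : a = 1 := by linear_combination e - two
    refine ⟨g * t, P8c.fin h.toTA u0 (mul_mem p3 ?_) (by rw [← tr]; group) fun x hx => ?_⟩
    · rintro _ ⟨v, -, rfl⟩
      exact (h.tc v).symm.eq
    · have e1 := p3 _ (mem_map_of_mem φ (UM.QW_le_Fx (m.tE_mem_Q hx.uw)))
      calc _ = g * (t * H u x * t⁻¹) * g⁻¹ := by group
        _ = g * H u x * g⁻¹ * φ (tE B u x) := by
          rw [h.toTA.tH hx.uw, ← conj_mul, ← e1, mul_inv_cancel_right]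
        _ = _ := by rw [ac x hx, a1, one_smul, mul_assoc, ← map_mul, m.tE_sq hx.uw, map_one, mul_one]

end Cfsg.Lib.SP6
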