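import Cfsg.Agent.SP6.K1
import Cfsg.Agent.SP6.K2
import Cfsg.Agent.SP6.K3
import Cfsg.Agent.SP6.K4
import Cfsg.Agent.SP6.KIT
import Cfsg.Agent.SP6.P1a
import Cfsg.Agent.SP6.P7d

/-! # Type III: normalisation of the long root elements -/

set_option autoImplicit false
set_option linter.unusedSectionVars false

namespace Cfsg.Lib.SP6

open Subgroup Module Cfsg.Lib.Trans Cfsg.Lib.Gold Cfsg.Lib.Class.Form Cfsg.Lib.Class.FAut
open Cfsg.Lib.UM (tT tE VW RR Fx St QW Cf mp Semi fa Mp cx re Ot kk Mx Fr3)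
open Cfsg.Lib.SG2 (Uq Top)
open Cfsg.Lib.Comp (Tw)
open scoped commutatorElement

variable {G F M : Type*} [Group G] [Finite G] [Field F] [Finite F] [AddCommGroup M] [Module F M]
  [FiniteDimensional F M] {B : M →ₗ[F] M →ₗ[F] F} {φ φ' : sIsom B →* G} {t : G}

variable {H : M → M → G} {β : F}

namespace P8e

/-- Coordinates on `V_ℓ`. -/
noncomputable def W (B : M →ₗ[F] M →ₗ[F] F) (x y : M) (c d l : F) : sIsom B :=
  tT B x c * tT B y d * tE B x (l • y)

theorem W_eq_1' : type_of% @W.eq_1 := @W.eq_1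

theorem W_fix (m : Mo B) {x y : M} (k : B x y = 0) (c d l : F) :
    lin (W B x y c d l) x = x ∧ lin (W B x y c d l) y = y :=
  mem_Fx2.1 (m.VW_le_Fx (fun a ha b hb => m.ti2 k b hb a ha) ((m.mem_V2 k).2 ⟨c, d, l, rfl⟩))

theorem W_mul (m : Mo B) {x y : M} (k : B x y = 0) (c d l c' d' l' : F) :
    W B x y c d l * W B x y c' d' l' = W B x y (c + c') (d + d') (l + l') := by
  have s : ∀ a : F, B x (a • y) = 0 := fun a => by rw [map_smul, k, smul_zero]
  have cm : ∀ a ∈ VW B (l2 F x y), ∀ b ∈ VW B (l2 F x y), Commute a b := fun a ha b hb => by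
    have := m.sq_VW (m.ti2 k) (mul_mem ha hb)
    rw [Commute, SemiconjBy, ← inv_eq_of_mul_eq_one_right this, mul_inv_rev,
      inv_eq_of_mul_eq_one_right (m.sq_VW (m.ti2 k) ha),
      inv_eq_of_mul_eq_one_right (m.sq_VW (m.ti2 k) hb)]
  have hx : x ∈ l2 F x y := Submodule.subset_span (by simp)
  have hy : y ∈ l2 F x y := Submodule.subset_span (by simp)
  rw [W, W, W, m.tT_add, m.tT_add, add_smul, m.tE_add ⟨s l, s l', by simp [m.alt]⟩,
    (cm _ (m.tE_mem (s l) hx (Submodule.smul_mem _ _ hy)) _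
      (mul_mem (m.tT_mem hx c') (m.tT_mem hy d'))).mul_mul_mul_comm,
    (cm _ (m.tT_mem hy d) _ (m.tT_mem hx c')).mul_mul_mul_comm]

theorem W_T (m : Mo B) (x y : M) (c : F) : tT B x c = W B x y c 0 0 ∧ tT B y c = W B x y 0 c 0 ∧
    tE B x (c • y) = W B x y 0 0 c := by
  simp [W, m.tT_zero, m.tE_zero]

theorem W_one (m : Mo B) {x y : M} (k : P2 B x y) {c d l : F} (e : W B x y c d l = 1) :
    c = 0 ∧ d = 0 ∧ l = 0 :=
  m.v2_inj k (e.trans (by rw [m.tT_zero, m.tT_zero, zero_smul, m.tE_zero, mul_one, mul_one]))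

end P8e

open P8e in
theorem TH.td3 (h : TH φ t H 1 β) (hb : MU φ H β) {D : M → G} {ω : F}
    (h1 : ∀ u, u ≠ 0 → GD φ t H (D u) u ∧ D u ∈ Cs (Ot φ t) ∧ D u * D u = φ (tT B u ω))
    (h2 : D 0 = 1) (h3 : ∀ g u, φ g * D u * (φ g)⁻¹ = D (lin g u)) : ∃ D', TD0 φ t H D' 1 β := by
  have m := h.toMo
  have two := m.two
  have dH : ∀ u x y, O3 B u x y → Commute (D u) (H x y) := fun u x y k => by
    by_cases u0 : u = 0
    · rw [u0, h2]; exact Commute.one_left _
    · exact (h1 u u0).1.dH h.toTH0 u0 (h1 u u0).2.1 k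
  have dP : ∀ g u, lin g u = u → Commute (φ g) (D u) := fun g u e =>
    mul_inv_eq_iff_eq_mul.1 (by rw [h3, e])
  have hP : ∀ g x y, lin g x = x → lin g y = y → Commute (φ g) (H x y) := fun g x y e e' =>
    mul_inv_eq_iff_eq_mul.1 (by rw [h.eqv, e, e'])
  have dt : ∀ u, D u * t * (D u)⁻¹ = t * φ (tT B u 1) := fun u => by
    by_cases u0 : u = 0
    · rw [u0, h2, m.tT_zero', map_one]; group
    · exact (h1 u u0).1.tr
  have dO : ∀ u, D u ∈ Cs (Ot φ t) := fun u => by
    by_cases u0 : u = 0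
    · rw [u0, h2]; exact one_mem _
    · exact (h1 u u0).2.1
  have tf : ∀ {u x : M} (c : F), B u x = 0 → lin (tT B u c) x = x := fun c e => by
    rw [m.lin_tT, e, mul_zero, zero_smul, add_zero]
  obtain ⟨x, x0⟩ := m.exists_ne
  obtain ⟨y, k⟩ := m.ext2 x0
  have xy := k.uw
  have yx := m.swap xy
  have cx := dH x y x ⟨xy, m.alt x, yx⟩
  have cy := dH y y x ⟨m.alt y, yx, yx⟩
  have cw := fun c d l => hP (W B x y c d l) y x (W_fix m xy c d l).2 (W_fix m xy c d l).1
  have wx := fun c d l => dP (W B x y c d l) x (W_fix m xy c d l).1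
  have wy := fun c d l => dP (W B x y c d l) y (W_fix m xy c d l).2
  obtain ⟨c1, c2, c3, o, ho, e0⟩ : ∃ c1 c2 c3, ∃ o ∈ Ot φ t,
      D (x + y) = D x * D y * H y x * φ (W B x y c1 c2 c3) * o := by
    have e1 : D x * D y * H y x * t * (D x * D y * H y x)⁻¹ = D (x + y) * t * (D (x + y))⁻¹ := by
      have a1 := (wy 0 0 1).symm.eq
      have a2 := (wx 0 1 1).symm.eq
      have a3 := W_T m x y 1
      calc _ = D x * (D y * (H y x * t * (H y x)⁻¹) * (D y)⁻¹) * (D x)⁻¹ := by group
        _ = D x * (t * φ (W B x y 0 1 1)) * (D x)⁻¹ := by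
          rw [h.ht y x yx, m.tE_comm yx, ← one_smul F y, a3.2.2, one_smul, ← conj_mul (b := D y), dt, a1,
            mul_inv_cancel_right, a3.2.1, mul_assoc t, ← map_mul, W_mul m xy, zero_add, add_zero,
            zero_add]
        _ = _ := by
          rw [← conj_mul, dt, a2, mul_inv_cancel_right, a3.1, mul_assoc t, ← map_mul, W_mul m xy, dt,
            m.tT_vadd xy, add_zero, zero_add, W]
    obtain ⟨v, hv, o, ho, e⟩ := h.toH1.cF (m.ti2 xy) (c := (D x * D y * H y x)⁻¹ * D (x + y)) (by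
      rw [Commute, SemiconjBy, ← mul_inv_eq_iff_eq_mul]
      calc _ = (D x * D y * H y x)⁻¹ * (D (x + y) * t * (D (x + y))⁻¹) * (D x * D y * H y x) := by
            group
        _ = _ := by rw [← e1]; group) (by
      rintro _ ⟨g, hg, rfl⟩
      obtain ⟨g1, g2⟩ := mem_Fx2.1 hg
      exact ((((dP g x g1).mul_right (dP g y g2)).mul_right (hP g y x g2 g1)).inv_right.mul_right
        (dP g _ (by rw [map_add, g1, g2]))).eq)
    obtain ⟨c1, c2, c3, rfl⟩ := (m.mem_V2 xy).1 hv
    refine ⟨c1, c2, c3, o, ho, ?_⟩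
    rcases e with e | e
    · rw [inv_mul_eq_iff_eq_mul] at e
      rw [e, W, mul_assoc _ _ o]
    · have a1 : Commute (H y x) ((D x * D y * H y x)⁻¹ * D (x + y)) :=
        ((cx.symm.mul_right cy.symm).mul_right (Commute.refl _)).inv_right.mul_right
          (dH _ y x ⟨by rw [map_add, LinearMap.add_apply, xy, m.alt, add_zero],
            by rw [map_add, LinearMap.add_apply, yx, m.alt, add_zero], yx⟩).symm
      have a2 : Commute (H y x) t := by
        have := (a1.mul_right (Commute.inv_right (show Commute (H y x) o from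
          (h.cO y x o ho).symm))).mul_right (cw c1 c2 c3).symm.inv_right
        rwa [e, mul_inv_cancel_right, W, mul_inv_cancel_right] at this
      have := h.ht y x yx
      rw [a2.eq, mul_inv_cancel_right, left_eq_mul, map_eq_one_iff φ h.inj] at this
      exact absurd this (m.tE_ne (k.symm m))
  have e1 : ∀ p q, P2 B p q → D (p + q) = D p * D q * H q p * φ (W B p q c1 c2 c3) * o :=
    fun p q k' => by
      obtain ⟨g, rfl, rfl⟩ := m.tr2 k k'
      rw [← map_add, ← h3, e0, ← conj_mul, ← conj_mul, ← conj_mul, ← conj_mul, h3, h3, h.eqv,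
        ← (Ot_comm ho g).eq, mul_inv_cancel_right, ← map_inv, ← map_mul, ← map_mul, W, W, ← conj_mul,
        ← conj_mul, m.tT_conj, m.tT_conj, m.tE_conj g (by rw [map_smul, xy, smul_zero]), map_smul]
  have oy : Commute o (D y) := dO y o ho
  have oH : Commute o (H y x) := h.cO y x o ho
  have hs : ∀ u, H u u = φ (tT B u 1) := fun u => by simpa using h.self 1 u
  have a1 : φ (W B x y (c1 + c1) (ω + c2 + 1 + c1 + c2) (c3 + c1 + c3)) * (o * o) = 1 := by
    have p := ((k.symm m).add m 1).symm m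
    rw [one_smul] at p
    have := e1 _ _ p
    have w1 : W B (x + y) y c1 c2 c3 = W B x y c1 (c1 + c2) (c1 + c3) := by
      have s : B x (c3 • y) = 0 := by rw [map_smul, xy, smul_zero]
      rw [W, m.tT_vadd xy, m.tE_add' ⟨xy, s, by simp [m.alt]⟩, m.tE_self, mul_one,
        (W_T m x y c2).2.1, (W_T m x y c3).2.2, ← W, W_mul m xy, W_mul m xy]
      simp only [add_zero]
    rw [add_assoc, m.vadd_self, add_zero, e0, h.add2 y x y ⟨yx, m.alt y, xy⟩, hs, w1,
      (W_T m x y 1).2.1] at this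
    have e2 : D x * (D y * D y * (H y x * H y x) * (φ (W B x y c1 c2 c3) * φ (W B x y 0 1 0) *
        φ (W B x y c1 (c1 + c2) (c1 + c3))) * (o * o)) = D x := by
      refine Eq.trans ?_ this.symm
      simp only [mul_assoc, oy.left_comm, oH.left_comm, (Ot_comm ho _).left_comm,
        (wy _ _ _).left_comm, (cw _ _ _).left_comm, cy.symm.left_comm]
    rw [mul_eq_left, (h1 y k.ne').2.2, h.sq, mul_one, (W_T m x y ω).2.1, ← map_mul, ← map_mul,
      ← map_mul, W_mul m xy, W_mul m xy, W_mul m xy] at e2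
    rw [← e2]
    congr 3 <;> ring
  obtain rfl : o = 1 := Ot_sq ho (h.toHyp.Ot_AA (mul_mem ho ho) (h.toHyp.mem_AA.2
    ⟨_, mem_top _, Or.inl (by rw [eq_inv_of_mul_eq_one_right a1, ← map_inv])⟩))
  rw [mul_one, mul_one, map_eq_one_iff φ h.inj] at a1
  obtain ⟨-, a2, a3⟩ := W_one m k a1
  obtain rfl : c1 = 0 := by linear_combination a3 - c3 * two
  obtain rfl : ω = 1 := by linear_combination a2 - (c2 + 1) * two
  obtain rfl : c2 = 0 := by
    have p := k.add m 1
    rw [one_smul, add_comm] at p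
    have := e1 _ _ p
    have w1 : W B x (x + y) 0 c2 c3 = W B x y c2 c2 (c2 + c3) := by
      have s : B x (c3 • y) = 0 := by rw [map_smul, xy, smul_zero]
      rw [W, m.tT_vadd xy, smul_add, add_comm (c3 • x), m.tE_add_self s, m.tT_zero, one_mul,
        (W_T m x y c3).2.2, ← W, W_mul m xy]
      simp only [add_zero]
    rw [← add_assoc, m.vadd_self, zero_add, e0, h.add1 x y x ⟨xy, m.alt x, yx⟩, hs, w1,
      (W_T m x y 1).1] at this
    have e2 : D x * D x * D y * (H y x * H y x) * (φ (W B x y 0 c2 c3) * φ (W B x y 1 0 0) *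
        φ (W B x y c2 c2 (c2 + c3))) = D y := by
      refine Eq.trans ?_ this.symm
      simp only [mul_assoc, mul_one, (cw _ _ _).left_comm]
    rw [(h1 x x0).2.2, h.sq, mul_one, (W_T m x y 1).1, (wy _ _ _).eq, mul_assoc, mul_eq_left,
      ← map_mul, ← map_mul, ← map_mul, W_mul m xy, W_mul m xy, W_mul m xy,
      map_eq_one_iff φ h.inj] at e2
    linear_combination (W_one m k e2).2.2 - c3 * two
  have cH : ∀ u x y, O3 B u x y → Commute (D u * φ (tT B u c3)) (H x y) := fun u x y k =>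
    (dH u x y k).mul_left (hP _ x y (tf c3 k.uw) (tf c3 k.ux))
  have d0 : D 0 * φ (tT B 0 c3) = 1 := by rw [h2, m.tT_zero', map_one, mul_one]
  have H0 : ∀ u, H u 0 = 1 := fun u => by simpa [m.tT_zero] using h.self 0 u
  have ad : ∀ p q, P2 B p q ∨ p = 0 → D (p + q) * φ (tT B (p + q) c3) =
      D p * φ (tT B p c3) * (D q * φ (tT B q c3)) * H q p := by
    rintro p q (k' | rfl)
    · have pq := k'.uw
      have a1 := dP _ q (tf c3 pq)
      have a2 := hP _ q p (tf c3 pq) (tf c3 (m.alt p))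
      have a3 := hP _ q p (tf c3 (m.alt q)) (tf c3 (m.swap pq))
      rw [e1 p q k', mul_one, m.tT_vadd pq, ← W, mul_assoc, ← map_mul, W_mul m pq, zero_add,
        m.add_self, W, zero_smul, m.tE_zero, mul_one, map_mul]
      simp only [mul_assoc, a1.left_comm, a2.left_comm, a3.eq]
    · rw [zero_add, d0, H0, one_mul, mul_one]
  refine ⟨fun u => D u * φ (tT B u c3), h, fun u => ?_, d0, fun g u => ?_,
    fun u => mul_mem (dO u) (L_le_Cs_Ot ⟨_, rfl⟩), fun u => ?_, fun p q pq => ?_, cH,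
    fun w p q s b1 b2 b3 => ?_⟩
  · rw [← dt, mul_assoc (D u), ← (h.tc _).eq]; group
  · rw [← conj_mul, h3, ← map_inv, ← map_mul, ← map_mul, m.tT_conj]
  · by_cases u0 : u = 0
    · rw [u0, d0, m.tT_zero', map_one, mul_one]
    · rw [(dP _ u (tf c3 (m.alt u))).mul_mul_mul_comm, (h1 u u0).2.2, ← map_mul, m.tT_sq, map_one,
        mul_one]
  · by_cases p0 : p = 0
    · exact ad p q (Or.inr p0)
    by_cases hq : q ∈ F ∙ p
    swap
    · exact ad p q (Or.inl (P2.iff.2 ⟨pq, p0, hq⟩))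
    obtain ⟨a, ha⟩ := Submodule.mem_span_singleton.1 hq
    obtain ⟨z, kz⟩ := m.ext2 p0
    have sm : ∀ b : F, P2 B (b • p) z ∨ b • p = 0 := fun b => by
      by_cases b0 : b = 0
      · exact Or.inr (by rw [b0, zero_smul])
      · exact Or.inl (by simpa using kz.smul b0 one_ne_zero)
    have pz := kz.uw
    have qz : B q z = 0 := by rw [← ha, map_smul, LinearMap.smul_apply, pz, smul_zero]
    have b1 := ad q z (ha ▸ sm a)
    have b2 := ad p (q + z) (Or.inl (by rw [add_comm, ← ha]; exact kz.add m a))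
    have b3 := ad (p + q) z (by have := sm (1 + a); rwa [add_smul, one_smul, ha] at this)
    rw [← add_assoc, b3, b1, h.add1 q z p ⟨qz, m.swap pq, m.swap pz⟩,
      h.add2 z p q ⟨m.swap pz, m.swap qz, pq⟩] at b2
    have a1 := cH z q p ⟨m.swap qz, m.swap pz, m.swap pq⟩
    have a2 := h.com z q q p ⟨m.swap qz, m.swap qz, m.alt q⟩ ⟨m.swap qz, m.swap pz, m.swap pq⟩
      (m.swap pq)
    have a3 := h.comw z q p
    generalize D z * φ (tT B z c3) = Z at b2 a1
    refine mul_right_cancel (b := Z * (H z p * H z q)) ?_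
    rw [← mul_assoc, b2]
    simp only [mul_assoc, a1.left_comm, a2.left_comm, a3.eq]
  · have : s = 0 := mul_self_eq_zero.1 (by linear_combination b3 + B p q * two)
    rw [this, zero_smul, d0, mul_one]
    exact hb w p q b1 b2

end Cfsg.Lib.SP6
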