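import Cfsg.Agent.UM.Defs
import Cfsg.Prelude.Def_ClassificationK
import Cfsg.Prelude.Def_Classical

/-!
# Standard subgroups of type `Sp_{2k}(2ⁿ)`, `k ≥ 3`: definitions

The generic definitions `tT tE VW RR Fx St QW Cf mp Semi fa Mp cx re Ot kk Mx Fr3` are those of `UM.Defs`
for the trivial field automorphism.
-/

set_option autoImplicit false
set_option linter.unusedSectionVars false

noncomputable section

namespace Cfsg.Lib.SP6

open Subgroup Module Cfsg.Lib.Trans Cfsg.Lib.Gold Cfsg.Lib.Class.Form Cfsg.Lib.Class.FAut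
open Cfsg.Lib.UM (tT tE VW RR Fx St QW Cf mp Semi fa Mp cx re Ot kk Mx Fr3)
open Cfsg.Lib.SG2 (Uq Top)
open scoped commutatorElement

section Model

variable {F M : Type*} [Field F] [AddCommGroup M] [Module F M]

/-- A symplectic space of dimension at least six in characteristic two. -/
structure Mo (B : M →ₗ[F] M →ₗ[F] F) : Prop extends Sp2 B where
  six : 6 ≤ finrank F M
  ex : True

variable (B : M →ₗ[F] M →ₗ[F] F)

/-- Two orthogonal independent vectors. -/
structure P2 (u w : M) : Prop where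
  uw : B u w = 0
  li : LinearIndependent F ![u, w]

/-- Three pairwise orthogonal vectors. -/
structure O3 (u w x : M) : Prop where
  uw : B u w = 0
  ux : B u x = 0
  wx : B w x = 0

/-- The general element `E(u, x) T_u(c)` of `Q_u`. -/
def ee (u x : M) (c : F) : sIsom B := tE B u x * tT B u c

theorem ee_eq_1' : type_of% @ee.eq_1 := @ee.eq_1

end Model

section Hyp

variable {G F M : Type*} [Group G] [Field F] [AddCommGroup M] [Module F M]
  {B : M →ₗ[F] M →ₗ[F] F}

/-- A copy of the symplectic group. -/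
structure Mod (φ : sIsom B →* G) : Prop extends Mo B where
  inj : Function.Injective φ

variable (φ : sIsom B →* G) (t : G)

/-- The standard form hypothesis. -/
structure Hyp : Prop extends Mod φ where
  t2 : t * t = 1
  t1 : t ≠ 1
  tc : ∀ g, Commute t (φ g)
  cn : C1 t ≤ Ns φ.range
  cyc : ∀ P : Subgroup G, IsPGroup 2 P → P ≤ Cs φ.range → IsCyclic P

/-- `⟨t⟩ × φ(A)`. -/
abbrev AA (A : Subgroup (sIsom B)) : Subgroup G := zpowers t ⊔ A.map φ

/-- After phase 1: `⟨t⟩` is a Sylow subgroup of `C(t) ∩ C(L)`. -/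
structure H1 : Prop extends Hyp φ t where
  dec : ∀ c ∈ C1 t ⊓ Cs φ.range, c ∈ Ot φ t ∨ t * c ∈ Ot φ t

/-- Type II (orthogonal groups). -/
structure TB : Prop extends H1 φ t where
  na : ∀ u w, P2 B u w → ¬ IsConj t (t * φ (tE B u w))
  nc : ∀ u w, P2 B u w → ¬ IsConj t (t * φ (tT B u 1 * tT B w 1))
  tr : ∀ U : Submodule F M, TotIso B U → ∀ a ∈ U, ∃ g : G, ∀ w ∈ U,
    g * (t * φ (tT B w 1)) * g⁻¹ = t * φ (tT B (w + a) 1)

/-- The group generated by `L` and the new short root elements. -/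
def G1 (H : M → M → G) : Subgroup G := φ.range ⊔ closure {g | ∃ u w, g = H u w}

/-- The group generated by `L` and all new root elements. -/
def G2 (H : M → M → G) (D : M → G) : Subgroup G := G1 φ H ⊔ closure (Set.range D)

theorem G1_eq_1' : type_of% @G1.eq_1 := @G1.eq_1
theorem G2_eq_1' : type_of% @G2.eq_1 := @G2.eq_1

/-- The new short root elements; `H u w` behaves like `E(γ u, w)`, `γ² + γ = β`, in the unitary
(`κ = 1`) or symplectic (`κ = 0`) group of `M ⊗ F[γ]`. -/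
structure TH0 (H : M → M → G) (κ β : F) : Prop extends H1 φ t where
  kap : κ = 0 ∨ κ = 1
  junk : ∀ u w, B u w ≠ 0 → H u w = 1
  ht : ∀ u w, B u w = 0 → H u w * t * (H u w)⁻¹ = t * φ (tE B u w)
  sq : ∀ u w, H u w * H u w = 1
  eqv : ∀ g u w, φ g * H u w * (φ g)⁻¹ = H (lin g u) (lin g w)
  cO : ∀ u w, H u w ∈ Cs (Ot φ t)
  add1 : ∀ u x w, O3 B u x w → H (u + x) w = H u w * H x w
  add2 : ∀ u w x, O3 B u w x → H u (w + x) = H u w * H u x
  smul : ∀ (a : F) u w, H (a • u) w = H u (a • w)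
  swap : ∀ u w, B u w = 0 → H w u = H u w * φ (tE B u (κ • w))
  self : ∀ (a : F) u, H u (a • u) = φ (tT B u (κ * a))
  actQ : ∀ u w y, B u w = 0 → B u y = 0 →
    H u w * φ (tE B u y) * (H u w)⁻¹ = φ (ee B u y (κ * B w y))
  com : ∀ u w x y, O3 B u w x → O3 B u w y → B x y = 0 → Commute (H u w) (H x y)
  comw : ∀ w y y', Commute (H w y) (H w y')
  r120 : ∀ u x w y, O3 B w u x → B w y = 0 → B x y = 0 →
    ⁅H u x, H w y⁆ = H w (B u y • x) * φ (tE B w ((β * B u y) • x))

/-- The new short root elements together with the action of `C(t)`. -/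
structure TH (H : M → M → G) (κ β : F) : Prop extends TH0 φ t H κ β where
  eqvC : ∀ c, Commute c t → ∀ α Γ τ, Mp φ φ c α → Semi α Γ τ → ∃ s : F, ∀ u w, B u w = 0 →
    c * H u w * c⁻¹ = H (Γ u) (Γ w) * φ (tE B (Γ u) (s • Γ w))

/-- Type I (`L_{2k}(q)`, `U_{2k}(q)`). -/
structure T1 (H : M → M → G) (β : F) : Prop extends TH φ t H 1 β where
  mul : ∀ w y y', B w y = 0 → B w y' = 0 →
    H w y * H w y' = H w (y + y') * φ (tT B w (β * B y y'))
  nb : ∀ u, u ≠ 0 → ¬ IsConj t (t * φ (tT B u 1))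
  nc : ∀ u w, P2 B u w → ¬ IsConj t (t * φ (tT B u 1 * tT B w 1))

/-- The new long root elements: `D u` behaves like `E(u, v₀, γ)` (`κ = 1`) or `T_u(γ)` (`κ = 0`). -/
structure TD0 (H : M → M → G) (D : M → G) (κ β : F) : Prop extends TH φ t H κ β where
  dt : ∀ u, D u * t * (D u)⁻¹ = t * φ (tT B u 1)
  d0 : D 0 = 1
  deqv : ∀ g u, φ g * D u * (φ g)⁻¹ = D (lin g u)
  dO : ∀ u, D u ∈ Cs (Ot φ t)
  dsq : ∀ u, D u * D u = φ (tT B u κ)
  dadd : ∀ x y, B x y = 0 → D (x + y) = D x * D y * H y x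
  dH : ∀ u x y, O3 B u x y → Commute (D u) (H x y)
  mul : ∀ w y y' (s : F), B w y = 0 → B w y' = 0 → s * s = (1 + κ) * B y y' →
    H w y * H w y' = H w (y + y') * D (s • w) * φ (tT B w (β * B y y'))

/-- All new root elements together with the action of `C(t)`. -/
structure TD (H : M → M → G) (D : M → G) (κ β : F) : Prop extends TD0 φ t H D κ β where
  deqvC : ∀ c, Commute c t → ∀ α Γ τ, Mp φ φ c α → Semi α Γ τ → ∃ s : F, ∀ u,
    c * D u * c⁻¹ = D (Γ u) * φ (tT B (Γ u) s)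

/-- Type III (`L_{2k+1}(q)`, `U_{2k+1}(q)`). -/
abbrev T3 (H : M → M → G) (D : M → G) (β : F) : Prop := TD φ t H D 1 β

/-- Type IV (`Sp_{2k}(q²)` or the wreath product). -/
abbrev T4 (H : M → M → G) (D : M → G) (β : F) : Prop := TD φ t H D 0 β

end Hyp

/-- The conclusion in the types I and III, `m = 2k` or `2k + 1`. -/
def LU (X : Type*) [Group X] (F : Type*) [Field F] (m : ℕ) : Prop :=
  Nonempty (X ≃* Matrix.ProjectiveSpecialLinearGroup (Fin m) F) ∨
    ∃ (K : Type) (_ : Field K) (_ : Fintype K), Fintype.card K = Nat.card F ^ 2 ∧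
      Nonempty (X ≃* PSU m K (Nat.card F))

/-- The conclusion in type II. -/
def OO (X : Type*) [Group X] (F : Type*) [Field F] (k : ℕ) : Prop :=
  Nonempty (X ≃* POmega F (quadFormPlus (k + 1) F)) ∨
    ∃ a b : F, (∀ z₁ z₂ : F, z₁ ^ 2 + a * z₁ * z₂ + b * z₂ ^ 2 = 0 → z₁ = 0 ∧ z₂ = 0) ∧
      Nonempty (X ≃* POmega F (quadFormMinus k F a b))

/-- The conclusion in type IV. -/
def SK (X : Type*) [Group X] (F : Type*) [Field F] (k : ℕ) : Prop :=
  ∃ (K : Type) (_ : Field K) (_ : Fintype K), Fintype.card K = Nat.card F ^ 2 ∧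
    Nonempty (X ≃* PSp k K)

theorem LU_eq_1' : type_of% @LU.eq_1 := @LU.eq_1
theorem OO_eq_1' : type_of% @OO.eq_1 := @OO.eq_1
theorem SK_eq_1' : type_of% @SK.eq_1 := @SK.eq_1

end Cfsg.Lib.SP6

end
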