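import Cfsg.Agent.SP6.Defs2

/-!
# Standard subgroups of type `Sp_{2k}(2ⁿ)`, `k ≥ 3`: the extended family of short translations
-/

set_option autoImplicit false

namespace Cfsg.Lib.SP6

open Cfsg.Lib.Class.Form Cfsg.Lib.Class.FAut
open Cfsg.Lib.UM (tT)

variable {G F M : Type*} [Group G] [Field F] [AddCommGroup M] [Module F M]
  {B : M →ₗ[F] M →ₗ[F] F} (φ : sIsom B →* G) (t : G)

/-- The family of short translations with the correct values on degenerate pairs. -/
structure H6 (κ : F) (H : M → M → G) : Prop extends H5 φ t κ H where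
  junk : ∀ u w, B u w ≠ 0 → H u w = 1
  self : ∀ (a : F) u, H u (a • u) = φ (tT B u (κ * a))
  zero' : ∀ w, H 0 w = 1
  eqv' : ∀ g u w, φ g * H u w * (φ g)⁻¹ = H (lin g u) (lin g w)

end Cfsg.Lib.SP6
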